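import Groth.Agent.An92.Germ.Stalk
import Groth.Agent.FlatCrit65.Basic
import Groth.Agent.CAlg1.Regular
import Groth.Agent.EGA4Alg4.DepthChange
import Mathlib.AlgebraicGeometry.Noetherian
import Mathlib.RingTheory.RegularLocalRing.Defs
import Groth.Prelude.Def_CAlg

/-!
Flatness of the analytic local ring over the algebraic one, and the comparison of dimension,
regularity and depth.
-/

set_option autoImplicit false

noncomputable section

open AlgebraicGeometry CategoryTheory IsLocalRing TensorProduct

namespace Groth.Agent.An92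

open An An.Pts

variable {X : Scheme.{0}} [X.Over SC] [LocallyOfFiniteType (X ↘ SC)]

theorem isNoetherianRing_stalk (p : X) : IsNoetherianRing (X.presheaf.stalk p) := by
  have : IsLocallyNoetherian X := LocallyOfFiniteType.isLocallyNoetherian (X ↘ SC)
  infer_instance

theorem anStalkMap_maximalIdeal (x : Pts X) :
    letI := isLocalRing_anStalk x
    (maximalIdeal (X.presheaf.stalk x.pt)).map (anStalkMap x) =
      maximalIdeal ((anSpace X).presheaf.stalk x) := by
  let := isLocalRing_anStalk x
  exact IsLocalRing.eq_maximalIdeal (isMaximal_map x)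

theorem isLocalHom_anStalkMap (x : Pts X) : IsLocalHom (anStalkMap x) := by
  have := isLocalRing_anStalk x
  refine ⟨fun a ha => by_contra fun h => ?_⟩
  have h1 : anStalkMap x a ∈ maximalIdeal ((anSpace X).presheaf.stalk x) := by
    rw [← anStalkMap_maximalIdeal x]
    exact Ideal.mem_map_of_mem _ h
  exact h1 ha

theorem flat_anStalkMap [IsReduced X] (x : Pts X) : (anStalkMap x).Flat := by
  let R := X.presheaf.stalk x.pt
  let S := (anSpace X).presheaf.stalk x
  let : Algebra R S := (anStalkMap x).toAlgebra
  have := isLocalRing_anStalk x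
  have := isNoetherianRing_anStalk x
  have := isNoetherianRing_stalk (X := X) x.pt
  have : IsLocalHom (algebraMap R S) := isLocalHom_anStalkMap x
  show Module.Flat R S
  refine FlatCrit65.flat_of_lexQuot_of_isLocalRing (S := S) (maximalIdeal.isMaximal R).ne_top
    (FlatCrit65.lexQuot_of_flat fun n => ?_)
  set I := maximalIdeal R ^ n
  let f : R ⧸ I →ₗ[R ⧸ I] (R ⧸ I) ⊗[R] S := LinearMap.toSpanSingleton _ _ (1 ⊗ₜ 1)
  have hsmul : ∀ b : S, b ∈ I • (⊤ : Submodule R S) ↔
      b ∈ ((maximalIdeal R).map (anStalkMap x)) ^ n := fun b => by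
    rw [Ideal.smul_top_eq_map, Submodule.restrictScalars_mem, ← Ideal.map_pow]
    rfl
  let e := TensorProduct.quotTensorEquivQuotSMul S I
  have hf : ∀ a : R, e (f (Ideal.Quotient.mk I a)) = Submodule.Quotient.mk (anStalkMap x a) := fun a => by
    show e ((Ideal.Quotient.mk I a • 1) ⊗ₜ[R] (1 : S)) = _
    rw [smul_eq_mul, mul_one, TensorProduct.quotTensorEquivQuotSMul_mk_tmul]
    exact congrArg _ ((Algebra.smul_def a (1 : S)).trans (mul_one _))
  have hbij : Function.Bijective f := by
    refine ⟨(injective_iff_map_eq_zero f).2 fun q hq => ?_, fun t => ?_⟩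
    · obtain ⟨a, rfl⟩ := Ideal.Quotient.mk_surjective q
      have h := hf a
      rw [hq, map_zero, eq_comm, Submodule.Quotient.mk_eq_zero, hsmul] at h
      exact Ideal.Quotient.eq_zero_iff_mem.2 (mem_pow_of_anStalkMap_mem x n a h)
    · obtain ⟨b, hb⟩ := Submodule.Quotient.mk_surjective _ (e t)
      obtain ⟨a, ha⟩ := exists_sub_mem_pow x n b
      refine ⟨Ideal.Quotient.mk I a, e.injective ?_⟩
      rw [hf, ← hb, Submodule.Quotient.eq, hsmul]
      exact ha
  exact Module.Flat.of_linearEquiv (LinearEquiv.ofBijective f hbij).symm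

theorem ringKrullDim_anStalk [IsReduced X] (x : Pts X) :
    ringKrullDim ((anSpace X).presheaf.stalk x) = ringKrullDim (X.presheaf.stalk x.pt) := by
  let : Algebra (X.presheaf.stalk x.pt) ((anSpace X).presheaf.stalk x) := (anStalkMap x).toAlgebra
  have := isLocalRing_anStalk x
  have := isNoetherianRing_anStalk x
  have := isNoetherianRing_stalk (X := X) x.pt
  have : IsLocalHom (algebraMap (X.presheaf.stalk x.pt) ((anSpace X).presheaf.stalk x)) :=
    isLocalHom_anStalkMap x
  have : Module.Flat (X.presheaf.stalk x.pt) ((anSpace X).presheaf.stalk x) := flat_anStalkMap x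
  exact CAlg1.ringKrullDim_eq_of_flat (anStalkMap_maximalIdeal x)

theorem isCohenMacaulay_iff [IsReduced X] (x : Pts X) :
    LocCoh.IsCohenMacaulayLocalRing (X.presheaf.stalk x.pt) ↔
      LocCoh.IsCohenMacaulayLocalRing ((anSpace X).presheaf.stalk x) := by
  let R := X.presheaf.stalk x.pt
  let S := (anSpace X).presheaf.stalk x
  let : Algebra R S := (anStalkMap x).toAlgebra
  have := isLocalRing_anStalk x
  have := isNoetherianRing_anStalk x
  have := isNoetherianRing_stalk (X := X) x.pt
  have : IsLocalHom (algebraMap R S) := isLocalHom_anStalkMap x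
  have : Module.Flat R S := flat_anStalkMap x
  have hd : LocCoh.depth S S = LocCoh.depth R R :=
    (EGA4Alg4.depth_eq_of_equiv (TensorProduct.AlgebraTensorModule.rid R S S).symm).trans
      (EGA4Alg4.depth_baseChange_eq (anStalkMap_maximalIdeal x) R)
  have hk : Module.supportDim S S = Module.supportDim R R := by
    rw [Module.supportDim_self_eq_ringKrullDim, Module.supportDim_self_eq_ringKrullDim]
    exact ringKrullDim_anStalk x
  constructor <;> intro h
  · exact ⟨by rw [hk, hd]; exact h.supportDim_eq_depth⟩
  · exact ⟨by rw [← hk, ← hd]; exact h.supportDim_eq_depth⟩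

theorem spanFinrank_maximalIdeal_anStalk [IsReduced X] (x : Pts X) :
    letI := isLocalRing_anStalk x
    (maximalIdeal ((anSpace X).presheaf.stalk x)).spanFinrank =
      (maximalIdeal (X.presheaf.stalk x.pt)).spanFinrank := by
  classical
  let := isLocalRing_anStalk x
  let R := X.presheaf.stalk x.pt
  let S := (anSpace X).presheaf.stalk x
  have := isNoetherianRing_anStalk x
  have := isNoetherianRing_stalk (X := X) x.pt
  have hR : (maximalIdeal R).FG := IsNoetherian.noetherian _
  have hS : (maximalIdeal S).FG := IsNoetherian.noetherian _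
  refine le_antisymm ?_ ?_
  · obtain ⟨g, hgs, hg⟩ := Submodule.FG.exists_span_set_encard_eq_spanFinrank hR
    have hfin : g.Finite := Set.finite_of_encard_eq_coe hgs
    have h := Submodule.spanFinrank_span_le_ncard_of_finite (R := S) (hfin.image (anStalkMap x))
    have himg : Submodule.span S (anStalkMap x '' g) = maximalIdeal S := by
      rw [← anStalkMap_maximalIdeal x, ← hg]
      exact (Ideal.map_span _ _).symm
    rw [himg] at h
    refine h.trans ((Set.ncard_image_le hfin).trans (le_of_eq ?_))
    rw [Set.ncard, hgs]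
    rfl
  · obtain ⟨g, hgs, hg⟩ := Submodule.FG.exists_span_set_encard_eq_spanFinrank hS
    have hfin : g.Finite := Set.finite_of_encard_eq_coe hgs
    choose a ha using fun b : S => exists_sub_mem_pow x 2 b
    have hgm : ∀ b ∈ g, a b ∈ maximalIdeal R := fun b hb => by
      by_contra hne
      have hu : IsUnit (anStalkMap x (a b)) := (notMem_maximalIdeal.1 hne).map _
      have h1 : b ∈ maximalIdeal S := hg ▸ Submodule.subset_span hb
      have h2 : anStalkMap x (a b) - b ∈ maximalIdeal S := by
        rw [← anStalkMap_maximalIdeal x]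
        exact Ideal.pow_le_self two_ne_zero (ha b)
      have h3 := add_mem h2 h1
      rw [sub_add_cancel] at h3
      exact h3 hu
    have hle : maximalIdeal R ≤ Submodule.span R (a '' g) := by
      refine Submodule.le_of_le_smul_of_le_jacobson_bot hR
        (by rw [IsLocalRing.jacobson_eq_maximalIdeal ⊥ bot_ne_top]) ?_
      intro y hy
      have hy' : anStalkMap x y ∈ Submodule.span S g := by
        rw [hg, ← anStalkMap_maximalIdeal x]
        exact Ideal.mem_map_of_mem _ hy
      have key : ∀ b ∈ Submodule.span S g, ∃ z ∈ Submodule.span R (a '' g),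
          anStalkMap x z - b ∈ ((maximalIdeal R).map (anStalkMap x)) ^ 2 := by
        intro b hb
        induction hb using Submodule.span_induction with
        | mem c hc => exact ⟨a c, Submodule.subset_span ⟨c, hc, rfl⟩, ha c⟩
        | zero => exact ⟨0, Submodule.zero_mem _, by simp⟩
        | add p q _ _ hp hq =>
          obtain ⟨z, hz, hz'⟩ := hp
          obtain ⟨w, hw, hw'⟩ := hq
          exact ⟨z + w, add_mem hz hw, by rw [map_add, add_sub_add_comm]; exact add_mem hz' hw'⟩
        | smul r p _ hp =>
          obtain ⟨z, hz, hz'⟩ := hp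
          obtain ⟨c, hc⟩ := exists_sub_mem_pow x 2 r
          refine ⟨c * z, Ideal.mul_mem_left _ c hz, ?_⟩
          rw [map_mul, smul_eq_mul, show anStalkMap x c * anStalkMap x z - r * p =
            (anStalkMap x c - r) * anStalkMap x z + r * (anStalkMap x z - p) by ring]
          exact add_mem (Ideal.mul_mem_right _ _ hc) (Ideal.mul_mem_left _ _ hz')
      obtain ⟨z, hz, hz'⟩ := key _ hy'
      refine Submodule.mem_sup.2 ⟨z, hz, y - z, ?_, add_sub_cancel z y⟩
      rw [smul_eq_mul, ← pow_two]
      exact mem_pow_of_anStalkMap_mem x 2 _ (by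
        rw [map_sub]; exact (Submodule.neg_mem_iff _).1 (by rwa [neg_sub]))
    have heq : Submodule.span R (a '' g) = maximalIdeal R := le_antisymm
      (Submodule.span_le.2 (by rintro _ ⟨b, hb, rfl⟩; exact hgm b hb)) hle
    have h := Submodule.spanFinrank_span_le_ncard_of_finite (R := R) (hfin.image a)
    rw [heq] at h
    refine h.trans ((Set.ncard_image_le hfin).trans (le_of_eq ?_))
    rw [Set.ncard, hgs]
    rfl

theorem isRegularLocalRing_iff [IsReduced X] (x : Pts X) :
    IsRegularLocalRing (X.presheaf.stalk x.pt) ↔ IsRegularLocalRing ((anSpace X).presheaf.stalk x) := by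
  let := isLocalRing_anStalk x
  have := isNoetherianRing_anStalk x
  have := isNoetherianRing_stalk (X := X) x.pt
  refine (_root_.isRegularLocalRing_iff _).trans (Iff.trans ?_ (_root_.isRegularLocalRing_iff _).symm)
  refine (Iff.of_eq ?_)
  exact congrArg₂ (fun (k : ℕ) (d : WithBot ℕ∞) => (k : WithBot ℕ∞) = d)
    (spanFinrank_maximalIdeal_anStalk x).symm (ringKrullDim_anStalk x).symm

end Groth.Agent.An92
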