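import Groth.Agent.An92.Germ.JacQuot
import Groth.Agent.An92.Germ.Flat
import Mathlib.RingTheory.Filtration
import Mathlib.RingTheory.MvPolynomial.Ideal

/-!
The fibres of the comparison map of local rings are regular.
-/

set_option autoImplicit false

noncomputable section

open AlgebraicGeometry CategoryTheory IsLocalRing MvPolynomial Filter

open scoped Topology

namespace Groth.Agent.An92

open An An.Pts

variable {X : Scheme.{0}} [X.Over SC] [LocallyOfFiniteType (X ↘ SC)]

set_option maxHeartbeats 1000000 in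
theorem isRegularLocalRing_fibre_anStalk [IsReduced X] (x : Pts X) :
    letI := (anStalkMap x).toAlgebra
    ∀ (q : Ideal ((anSpace X).presheaf.stalk x)) [q.IsPrime],
      IsRegularLocalRing (EGA4.FibLocRing (X.presheaf.stalk x.pt) ((anSpace X).presheaf.stalk x) q) := by
  let : Algebra (X.presheaf.stalk x.pt) ((anSpace X).presheaf.stalk x) := (anStalkMap x).toAlgebra
  intro q _
  obtain ⟨U, hU, hx, m, s, hs⟩ := exists_chart x
  let g : Γ(X, U) →+* X.presheaf.stalk x.pt := (X.presheaf.germ U x.pt hx).hom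
  let t : Fin m → Γ(X, U) := fun i => s i - strHomU U (x.ev U hx (s i))
  let ψ : MvPolynomial (Fin m) ℂ →+* Γ(X, U) := eval₂Hom (strHomU U) t
  have hψ : Function.Surjective ψ := by
    intro a
    obtain ⟨P, rfl⟩ := hs a
    refine ⟨eval₂Hom C (fun i => MvPolynomial.X i + C (x.ev U hx (s i))) P, ?_⟩
    refine DFunLike.congr_fun (f := ψ.comp (eval₂Hom C (fun i => MvPolynomial.X i + C (x.ev U hx (s i)))))
      (g := eval₂Hom (strHomU U) s) ?_ P
    refine MvPolynomial.ringHom_ext (fun c => by simp [ψ]) fun i => by simp [ψ, t]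
  let π := g.comp ψ
  let θ := theta s x hx
  have hθ : Function.Surjective θ := theta_surjective hU s hs x hx
  have hcomm : ∀ P, θ (holGerm.ofPoly P) = anStalkMap x (π P) := by
    intro P
    refine DFunLike.congr_fun (f := θ.comp holGerm.ofPoly) (g := (anStalkMap x).comp π) ?_ P
    refine MvPolynomial.ringHom_ext (fun c => ?_) fun i => ?_
    · refine toGerm_injective x ?_
      simp only [RingHom.comp_apply, holGerm.ofPoly_C, π, ψ, eval₂Hom_C]
      exact (toGerm_theta s x hx _).trans (toGerm_stalkMap x U hx _ (fun _ => c)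
        (Eventually.of_forall fun y hy => ev_strHomU y U hy c)).symm
    · refine toGerm_injective x ?_
      simp only [RingHom.comp_apply, holGerm.ofPoly_X, π, ψ, eval₂Hom_X']
      refine (toGerm_theta s x hx _).trans (toGerm_stalkMap x U hx _
        (fun y => centred s x y i) (Eventually.of_forall fun y hy => ?_)).symm
      rw [← evHom_apply, map_sub, evHom_apply, evHom_apply, ev_strHomU]
      simp only [centred, coords_of_mem s hy, coords_of_mem s hx]
      rfl
  have hval : ∀ P, anValue x (anStalkMap x (π P)) = holGerm.value (holGerm.ofPoly P) := fun P => by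
    rw [← hcomm]; exact anValue_theta s x hx _
  have hfrac : ∀ r : X.presheaf.stalk x.pt, ∃ a b, IsUnit (holGerm.ofPoly b) ∧ r * π b = π a := by
    intro r
    let : Algebra Γ(X, U) (X.presheaf.stalk x.pt) := g.toAlgebra
    have : IsLocalization.AtPrime (X.presheaf.stalk x.pt) (hU.primeIdealOf ⟨x.pt, hx⟩).asIdeal :=
      hU.isLocalization_stalk ⟨x.pt, hx⟩
    obtain ⟨⟨a, b⟩, hab⟩ := IsLocalization.surj (hU.primeIdealOf ⟨x.pt, hx⟩).asIdeal.primeCompl r
    obtain ⟨a', ha⟩ := hψ a
    obtain ⟨b', hb⟩ := hψ b.1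
    refine ⟨a', b', holGerm.isUnit_of_value_ne_zero ?_, ?_⟩
    · rw [← hval]
      have hu : IsUnit (π b') := by
        show IsUnit (g (ψ b'))
        rw [hb]
        exact IsLocalization.map_units (X.presheaf.stalk x.pt) b
      exact ((hu.map (anStalkMap x)).map (anValue x)).ne_zero
    · show r * g (ψ b') = g (ψ a')
      rw [hb, ha]; exact hab
  have hθm : (maximalIdeal (holGerm m)).map θ ≤
      (maximalIdeal (X.presheaf.stalk x.pt)).map (anStalkMap x) := Ideal.map_le_iff_le_comap.2 fun φ hφ => by
    rw [Ideal.mem_comap, mem_map_maximalIdeal_iff, anValue_theta]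
    exact holGerm.mem_maximalIdeal.1 hφ
  have hV : ∀ P, P ∈ idealOfVars (Fin m) ℂ ↔ holGerm.value (holGerm.ofPoly P) = 0 := by
    intro P
    rw [holGerm.value_ofPoly]
    constructor
    · intro hP
      refine (RingHom.mem_ker (f := MvPolynomial.eval (0 : Fin m → ℂ))).1 ((Ideal.span_le.2 ?_) hP)
      rintro _ ⟨i, rfl⟩
      simp
    · intro hP
      rw [← pow_one (idealOfVars (Fin m) ℂ), mem_pow_idealOfVars_iff']
      intro d hd
      have : d = 0 := (Finsupp.degree_eq_zero_iff d).1 (by omega)
      subst this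
      rwa [← constantCoeff_eq, ← eval_zero]
  have hmR : maximalIdeal (X.presheaf.stalk x.pt) ≤ (idealOfVars (Fin m) ℂ).map π := by
    intro r hr
    obtain ⟨a, b, hb, hab⟩ := hfrac r
    have hu : IsUnit (π b) := by
      by_contra hne
      have h1 : anValue x (anStalkMap x (π b)) = 0 :=
        anValue_eq_zero_of_mem x (Ideal.mem_map_of_mem _ hne)
      rw [hval] at h1
      exact (hb.map holGerm.value).ne_zero h1
    rw [← Ideal.mul_unit_mem_iff_mem _ hu, hab]
    refine Ideal.mem_map_of_mem _ ((hV a).2 ?_)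
    rw [← hval, ← hab]
    exact anValue_eq_zero_of_mem x (Ideal.mem_map_of_mem _ (Ideal.mul_mem_right _ _ hr))
  have hker : RingHom.ker θ ≤ (RingHom.ker π).map holGerm.ofPoly := by
    intro φ hφ
    set J := (RingHom.ker π).map (holGerm.ofPoly (n := m))
    have key : ∀ k, φ ∈ J ⊔ maximalIdeal (holGerm m) ^ k := by
      intro k
      obtain ⟨P, hP⟩ := holGerm.exists_sub_ofPoly_mem φ k
      have h1 : anStalkMap x (π P) ∈ ((maximalIdeal (X.presheaf.stalk x.pt)).map (anStalkMap x)) ^ k := by
        have h2 := Ideal.mem_map_of_mem θ hP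
        rw [Ideal.map_pow, map_sub, RingHom.mem_ker.1 hφ, zero_sub, hcomm, Submodule.neg_mem_iff] at h2
        exact Ideal.pow_right_mono hθm k h2
      have h3 : π P ∈ (idealOfVars (Fin m) ℂ ^ k).map π := by
        rw [Ideal.map_pow]
        exact Ideal.pow_right_mono hmR k (mem_pow_of_anStalkMap_mem x k _ h1)
      have hset : ∀ r ∈ (idealOfVars (Fin m) ℂ ^ k).map π,
          ∃ a ∈ idealOfVars (Fin m) ℂ ^ k, ∃ b, IsUnit (holGerm.ofPoly b) ∧ r * π b = π a := by
        intro r hr
        rw [Ideal.map] at hr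
        induction hr using Submodule.span_induction with
        | mem c hc =>
          obtain ⟨y, hy, rfl⟩ := hc
          exact ⟨y, hy, 1, by simp, by simp⟩
        | zero => exact ⟨0, zero_mem _, 1, by simp, by simp⟩
        | add p q' _ _ hp hq =>
          obtain ⟨a, ha, b, hb, hab⟩ := hp
          obtain ⟨a', ha', b', hb', hab'⟩ := hq
          refine ⟨a * b' + a' * b, add_mem (Ideal.mul_mem_right _ _ ha) (Ideal.mul_mem_right _ _ ha'), b * b',
            by rw [map_mul]; exact hb.mul hb', ?_⟩
          simp only [map_mul, map_add, ← hab, ← hab']; ring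
        | smul c p _ hp =>
          obtain ⟨a, ha, b, hb, hab⟩ := hp
          obtain ⟨a', b', hb', hab'⟩ := hfrac c
          refine ⟨a' * a, Ideal.mul_mem_left _ _ ha, b' * b, by rw [map_mul]; exact hb'.mul hb, ?_⟩
          simp only [smul_eq_mul, map_mul, ← hab, ← hab']; ring
      obtain ⟨a, ha, b, hb, hab⟩ := hset _ h3
      have hPJ : holGerm.ofPoly P ∈ J ⊔ maximalIdeal (holGerm m) ^ k := by
        rw [← Ideal.mul_unit_mem_iff_mem _ hb, ← map_mul, ← sub_add_cancel (P * b) a, map_add]
        refine add_mem (Submodule.mem_sup_left (Ideal.mem_map_of_mem _ ?_)) (Submodule.mem_sup_right ?_)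
        · rw [RingHom.mem_ker, map_sub, map_mul, hab, sub_self]
        · have hle : (idealOfVars (Fin m) ℂ).map (holGerm.ofPoly (n := m)) ≤ maximalIdeal (holGerm m) :=
            Ideal.map_le_iff_le_comap.2 fun z hz => holGerm.mem_maximalIdeal.2 ((hV z).1 hz)
          have := Ideal.mem_map_of_mem holGerm.ofPoly ha
          rw [Ideal.map_pow] at this
          exact Ideal.pow_right_mono hle k this
      have := add_mem (Submodule.mem_sup_right (S := J) hP) hPJ
      rwa [sub_add_cancel] at this
    by_cases hJ : J = ⊤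
    · rw [hJ]; trivial
    have : Nontrivial (holGerm m ⧸ J) := Ideal.Quotient.nontrivial_iff.2 hJ
    have : IsLocalRing (holGerm m ⧸ J) := IsLocalRing.of_surjective' _ Ideal.Quotient.mk_surjective
    rw [← Ideal.Quotient.eq_zero_iff_mem, ← Ideal.mem_bot,
      ← Ideal.iInf_pow_eq_bot_of_isLocalRing (maximalIdeal (holGerm m ⧸ J)) (maximalIdeal.isMaximal _).ne_top,
      Ideal.mem_iInf]
    intro k
    obtain ⟨u, hu, v, hv, huv⟩ := Submodule.mem_sup.1 (key k)
    rw [← huv, map_add, Ideal.Quotient.eq_zero_iff_mem.2 hu, zero_add,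
      CAlg1.maximalIdeal_quotient, ← Ideal.map_pow]
    exact Ideal.mem_map_of_mem _ hv
  exact isRegularLocalRing_fibLocRing π θ hθ hcomm hker hfrac q

end Groth.Agent.An92
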