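import Groth.Agent.An92.Germ.Stalk
import Mathlib.Analysis.Calculus.ContDiff.Operations
import Mathlib.Algebra.MvPolynomial.PDeriv

/-!
Partial derivatives of germs of holomorphic functions.
-/

set_option autoImplicit false

noncomputable section

open Filter Metric
open scoped NNReal ENNReal Topology

namespace Groth.Agent.An92

variable {n : ℕ}

theorem differentiableOn_fderiv_evalS {r : ℝ≥0} {f : Ser n} (hf : mass (fun _ => r) f ≠ ⊤)
    (v : Fin n → ℂ) (hv : ‖v‖ = 1) :
    DifferentiableOn ℂ (fun z => fderiv ℂ (fun z => evalS z f) z v) (ball (0 : Fin n → ℂ) ((r : ℝ) / 4)) := by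
  intro x hx
  have hr : 0 < (r : ℝ) / 4 := dist_nonneg.trans_lt hx
  refine DifferentiableAt.differentiableWithinAt ?_
  let F : (Fin n →₀ ℕ) → (Fin n → ℂ) → ℂ := fun a z => MvPowerSeries.coeff a f * mon z a
  let u : (Fin n →₀ ℕ) → ℝ := fun a => ((‖MvPowerSeries.coeff a f‖₊ * mon (fun _ => r) a : ℝ≥0) : ℝ)
  have hu : Summable u := NNReal.summable_coe.2 (ENNReal.tsum_coe_ne_top_iff_summable.1 hf)
  have hF : ∀ a, ContDiff ℂ 2 (F a) := fun a => by
    simp only [F, mon]
    fun_prop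
  have hle : ∀ z : Fin n → ℂ, ‖z‖ ≤ r → ∀ a, ‖F a z‖ ≤ u a := by
    intro z hz a
    rw [← coe_nnnorm, NNReal.coe_le_coe, nnnorm_mul, nnnorm_mon]
    exact mul_le_mul_right (mon_le_mon (r := fun i => ‖z i‖₊) (r' := fun _ => r)
      (fun i => NNReal.coe_le_coe.1 ((norm_le_pi_norm z i).trans hz)) a) _
  have hline : ∀ (g : (Fin n → ℂ) → ℂ), Differentiable ℂ g → ∀ (C ρ : ℝ), 0 < ρ → ∀ z w : Fin n → ℂ,
      ‖w‖ = 1 → (∀ y, ‖y‖ ≤ ‖z‖ + ρ → ‖g y‖ ≤ C) → ‖fderiv ℂ g z w‖ ≤ C / ρ := by
    intro g hg C ρ hρ z w hw hC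
    have hd : deriv (fun t : ℂ => g (z + t • w)) 0 = fderiv ℂ g z w := by
      refine HasDerivAt.deriv ?_
      have h1 : HasDerivAt (fun t : ℂ => z + t • w) w 0 := by
        simpa using ((hasDerivAt_id (0 : ℂ)).smul_const w).const_add z
      exact ((hg z).hasFDerivAt).comp_hasDerivAt_of_eq 0 h1 (by simp)
    rw [← hd]
    refine Complex.norm_deriv_le_of_forall_mem_sphere_norm_le hρ
      ((hg.comp (by fun_prop)).diffContOnCl) fun t ht => hC _ ?_
    refine (norm_add_le _ _).trans ?_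
    rw [norm_smul, hw, mul_one, mem_sphere_zero_iff_norm.1 ht]
  have h1 : ∀ z : Fin n → ℂ, ‖z‖ < (r : ℝ) / 2 → ∀ a, ‖fderiv ℂ (F a) z‖ ≤ u a / ((r : ℝ) / 2) :=
    fun z hz a => ContinuousLinearMap.opNorm_le_of_unit_norm (div_nonneg (NNReal.coe_nonneg _) (by positivity))
      fun w hw => hline _ ((hF a).differentiable two_ne_zero) _ _ (by linarith) z w hw
        fun y hy => hle y (by linarith) a
  have hsum0 : Summable fun a => F a 0 := summable_term hf (z := 0) fun i => by simp
  have hfd : ∀ z ∈ ball (0 : Fin n → ℂ) ((r : ℝ) / 2),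
      HasFDerivAt (fun z => evalS z f) (∑' a, fderiv ℂ (F a) z) z := fun z hz =>
    hasFDerivAt_tsum_of_isPreconnected (f := F) (f' := fun a z => fderiv ℂ (F a) z)
      (hu.div_const _) isOpen_ball (convex_ball 0 _).isPreconnected
      (fun a z _ => (((hF a).differentiable two_ne_zero) z).hasFDerivAt)
      (fun a z hz => h1 z (mem_ball_zero_iff.1 hz) a) (mem_ball_self (by linarith)) hsum0 hz
  have hsum : ∀ z ∈ ball (0 : Fin n → ℂ) ((r : ℝ) / 2), Summable fun a => fderiv ℂ (F a) z :=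
    fun z hz => Summable.of_norm (Summable.of_nonneg_of_le (fun _ => norm_nonneg _)
      (h1 z (mem_ball_zero_iff.1 hz)) (hu.div_const _))
  have heq : (fun z => fderiv ℂ (fun z => evalS z f) z v) =ᶠ[𝓝 x]
      fun z => ∑' a, fderiv ℂ (F a) z v := by
    filter_upwards [isOpen_ball.mem_nhds (ball_subset_ball (by linarith) hx :
      x ∈ ball (0 : Fin n → ℂ) ((r : ℝ) / 2))] with z hz
    rw [(hfd z hz).fderiv]
    exact (ContinuousLinearMap.apply ℂ ℂ v).map_tsum (hsum z hz)
  refine (heq.differentiableAt_iff).2 ?_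
  have hG : ∀ a, Differentiable ℂ fun z => fderiv ℂ (F a) z v := fun a =>
    ((hF a).fderiv_right (m := 1) (by norm_num)).differentiable one_ne_zero |>.clm_apply (differentiable_const v)
  have hb : ∀ a z, z ∈ ball (0 : Fin n → ℂ) ((r : ℝ) / 4) →
      ‖fderiv ℂ (fun z => fderiv ℂ (F a) z v) z‖ ≤ u a / ((r : ℝ) / 2) / ((r : ℝ) / 8) := by
    intro a z hz
    refine ContinuousLinearMap.opNorm_le_of_unit_norm
      (div_nonneg (div_nonneg (NNReal.coe_nonneg _) (by linarith)) (by linarith)) fun w hw => ?_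
    refine hline _ (hG a) _ _ (by linarith) z w hw fun y hy => ?_
    refine (ContinuousLinearMap.le_opNorm _ _).trans ?_
    rw [hv, mul_one]
    exact h1 y (by linarith [mem_ball_zero_iff.1 hz]) a
  exact (hasFDerivAt_tsum_of_isPreconnected (f := fun a z => fderiv ℂ (F a) z v)
    (f' := fun a z => fderiv ℂ (fun z => fderiv ℂ (F a) z v) z)
    ((hu.div_const _).div_const _) isOpen_ball (convex_ball 0 _).isPreconnected
    (fun a z _ => (hG a z).hasFDerivAt) hb (mem_ball_self hr)
    ((hsum 0 (mem_ball_self (by linarith))).map (ContinuousLinearMap.apply ℂ ℂ v)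
      (ContinuousLinearMap.apply ℂ ℂ v).continuous) hx).differentiableAt

namespace holGerm

theorem eventually_differentiableAt_fderiv {F : (Fin n → ℂ) → ℂ}
    (hF : ∀ᶠ x in 𝓝 0, DifferentiableAt ℂ F x) (i : Fin n) :
    ∀ᶠ x in 𝓝 0, DifferentiableAt ℂ (fun y => fderiv ℂ F y (Pi.single i 1)) x := by
  obtain ⟨r, f, hr, hf, hFf⟩ := exists_series hF
  have hr' : (0 : ℝ) < r := NNReal.coe_pos.2 hr
  have hd := differentiableOn_fderiv_evalS hf (Pi.single i (1 : ℂ)) (by rw [Pi.norm_single, norm_one])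
  filter_upwards [isOpen_ball.mem_nhds (mem_ball_self (show (0 : ℝ) < (r : ℝ) / 4 by positivity))] with x hx
  refine (hd.differentiableAt (isOpen_ball.mem_nhds hx)).congr_of_eventuallyEq ?_
  have hx' : x ∈ ball (0 : Fin n → ℂ) r := ball_subset_ball (by linarith) hx
  filter_upwards [isOpen_ball.mem_nhds hx'] with y hy
  have : F =ᶠ[𝓝 y] fun z => evalS z f := by
    filter_upwards [isOpen_ball.mem_nhds hy] with z hz
    simpa using hFf z (mem_ball_zero_iff.1 hz).le
  rw [this.fderiv_eq]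

/-- The partial derivative of a germ. -/
def deriv (i : Fin n) (φ : holGerm n) : holGerm n :=
  ⟨Quotient.liftOn' φ.1 (fun F => ((fun x => fderiv ℂ F x (Pi.single i 1)) : Germ (𝓝 (0 : Fin n → ℂ)) ℂ))
    (fun F G h => Germ.coe_eq.2 (by
      have h' : F =ᶠ[𝓝 0] G := h
      filter_upwards [h'.fderiv (𝕜 := ℂ)] with x hx
      rw [hx])), by
    obtain ⟨F, hF, rfl⟩ := exists_rep φ
    exact ⟨_, rfl, eventually_differentiableAt_fderiv hF i⟩⟩

theorem deriv_mk (i : Fin n) (F : (Fin n → ℂ) → ℂ) (hF) :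
    deriv i (mk F hF) = mk (fun x => fderiv ℂ F x (Pi.single i 1)) (eventually_differentiableAt_fderiv hF i) :=
  rfl

theorem deriv_add (i : Fin n) (φ ψ : holGerm n) : deriv i (φ + ψ) = deriv i φ + deriv i ψ := by
  obtain ⟨F, hF, rfl⟩ := exists_rep φ
  obtain ⟨G, hG, rfl⟩ := exists_rep ψ
  show deriv i (mk (F + G) ((hF.and hG).mono fun x h => h.1.add h.2)) = _
  refine Subtype.ext (Germ.coe_eq.2 ?_)
  filter_upwards [hF, hG] with x hx hx'
  simp [fderiv_add hx hx']

theorem deriv_mul (i : Fin n) (φ ψ : holGerm n) :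
    deriv i (φ * ψ) = deriv i φ * ψ + φ * deriv i ψ := by
  obtain ⟨F, hF, rfl⟩ := exists_rep φ
  obtain ⟨G, hG, rfl⟩ := exists_rep ψ
  show deriv i (mk (F * G) ((hF.and hG).mono fun x h => h.1.mul h.2)) = _
  refine Subtype.ext (Germ.coe_eq.2 ?_)
  filter_upwards [hF, hG] with x hx hx'
  simp [fderiv_mul hx hx']
  ring

/-- The germ of a polynomial. -/
def ofPoly : MvPolynomial (Fin n) ℂ →+* holGerm n where
  toFun P := mk (fun z => MvPolynomial.eval z P) (Eventually.of_forall fun z => differentiable_eval P z)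
  map_one' := by refine Subtype.ext (Germ.coe_eq.2 (Eventually.of_forall fun z => ?_)); simp
  map_zero' := by refine Subtype.ext (Germ.coe_eq.2 (Eventually.of_forall fun z => ?_)); simp
  map_mul' P Q := by refine Subtype.ext (Germ.coe_eq.2 (Eventually.of_forall fun z => ?_)); simp
  map_add' P Q := by refine Subtype.ext (Germ.coe_eq.2 (Eventually.of_forall fun z => ?_)); simp

theorem ofPoly_X (i : Fin n) : ofPoly (MvPolynomial.X i) = coord i :=
  Subtype.ext (Germ.coe_eq.2 (Eventually.of_forall fun z => by simp))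

theorem ofPoly_C (c : ℂ) : ofPoly (MvPolynomial.C c) = const (n := n) c :=
  Subtype.ext (Germ.coe_eq.2 (Eventually.of_forall fun z => by simp))

theorem value_ofPoly (P : MvPolynomial (Fin n) ℂ) : value (ofPoly P) = MvPolynomial.eval 0 P := rfl

theorem deriv_ofPoly (i : Fin n) (P : MvPolynomial (Fin n) ℂ) :
    deriv i (ofPoly P) = ofPoly (MvPolynomial.pderiv i P) := by
  classical
  induction P using MvPolynomial.induction_on with
  | C c =>
    rw [MvPolynomial.pderiv_C, map_zero, ofPoly_C]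
    refine Subtype.ext (Germ.coe_eq.2 (Eventually.of_forall fun z => ?_))
    simp
  | add P Q hP hQ => rw [map_add, deriv_add, hP, hQ, map_add, map_add]
  | mul_X P j hP =>
    have hX : deriv i (ofPoly (MvPolynomial.X (R := ℂ) j)) = ofPoly (MvPolynomial.pderiv i (MvPolynomial.X j)) := by
      rw [ofPoly_X]
      refine Subtype.ext (Germ.coe_eq.2 (Eventually.of_forall fun z => ?_))
      show fderiv ℂ (fun x : Fin n → ℂ => x j) z (Pi.single i 1) = MvPolynomial.eval z _
      rw [(hasFDerivAt_apply j z).fderiv, MvPolynomial.pderiv_X]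
      rcases eq_or_ne i j with rfl | h <;> simp_all
    rw [map_mul, deriv_mul, hP, hX, MvPolynomial.pderiv_mul, map_add, map_mul, map_mul]

end holGerm

end Groth.Agent.An92
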