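import Groth.Agent.An92.Germ.Expansion

/-!
Weierstrass division for convergent power series.
-/

set_option autoImplicit false

noncomputable section

open scoped NNReal ENNReal

namespace Groth.Agent.An92

variable {n : ℕ}

/-- Division by the `d`-th power of the first variable. -/
def shiftS (d : ℕ) (g : Ser (n + 1)) : Ser (n + 1) := fun a => MvPowerSeries.coeff (a + Finsupp.single 0 d) g

/-- The part of degree `< d` in the first variable. -/
def lowS (d : ℕ) (g : Ser (n + 1)) : Ser (n + 1) := fun a => if a 0 < d then MvPowerSeries.coeff a g else 0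

theorem coeff_shiftS (d : ℕ) (g : Ser (n + 1)) (a : Fin (n + 1) →₀ ℕ) :
    MvPowerSeries.coeff a (shiftS d g) = MvPowerSeries.coeff (a + Finsupp.single 0 d) g := rfl

theorem coeff_lowS (d : ℕ) (g : Ser (n + 1)) (a : Fin (n + 1) →₀ ℕ) :
    MvPowerSeries.coeff a (lowS d g) = if a 0 < d then MvPowerSeries.coeff a g else 0 := rfl

theorem X_pow_mul_shiftS_add_lowS (d : ℕ) (g : Ser (n + 1)) :
    MvPowerSeries.X 0 ^ d * shiftS d g + lowS d g = g := by
  classical
  ext a
  rw [map_add, MvPowerSeries.X_pow_eq, MvPowerSeries.coeff_monomial_mul, coeff_lowS]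
  by_cases h : a 0 < d
  · have hn : ¬ Finsupp.single 0 d ≤ a := fun hle => by
      have := hle 0
      rw [Finsupp.single_eq_same] at this
      omega
    rw [if_pos h, if_neg hn, zero_add]
  · have hle : Finsupp.single 0 d ≤ a := Finsupp.single_le_iff.2 (not_lt.1 h)
    rw [if_neg h, if_pos hle, one_mul, add_zero, coeff_shiftS, tsub_add_cancel_of_le hle]

theorem mon_single (r : Fin (n + 1) → ℝ≥0) (d : ℕ) : mon r (Finsupp.single 0 d) = r 0 ^ d := by
  classical
  rw [mon, Fintype.prod_eq_single 0 fun i hi => by simp [Finsupp.single_eq_of_ne hi]]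
  simp

theorem mass_shiftS_mul_le (r : Fin (n + 1) → ℝ≥0) (d : ℕ) (g : Ser (n + 1)) :
    mass r (shiftS d g) * (r 0 ^ d : ℝ≥0) ≤ mass r g := by
  rw [mass, ← ENNReal.tsum_mul_right, mass]
  refine le_trans (ENNReal.tsum_le_tsum fun a => ?_)
    (ENNReal.tsum_comp_le_tsum_of_injective (fun a b (h : a + Finsupp.single 0 d = b + Finsupp.single 0 d) => add_right_cancel h) _)
  rw [← ENNReal.coe_mul, ENNReal.coe_le_coe, coeff_shiftS, mon_add, mon_single, mul_assoc]

theorem mass_lowS_le (r : Fin (n + 1) → ℝ≥0) (d : ℕ) (g : Ser (n + 1)) : mass r (lowS d g) ≤ mass r g := by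
  refine ENNReal.tsum_le_tsum fun a => ?_
  rw [coeff_lowS]
  split <;> simp

theorem mass_tsum_le (r : Fin n → ℝ≥0) (h : ℕ → Ser n) :
    mass r (fun a => ∑' k, MvPowerSeries.coeff a (h k) : Ser n) ≤ ∑' k, mass r (h k) := by
  simp only [mass]
  rw [ENNReal.tsum_comm]
  refine ENNReal.tsum_le_tsum fun a => ?_
  simp only [ENNReal.coe_mul]
  rw [ENNReal.tsum_mul_right]
  exact mul_le_mul_left (enorm_tsum_le_tsum_enorm (f := fun k => MvPowerSeries.coeff a (h k))) _

theorem summable_coeff_of_mass {r : Fin n → ℝ≥0} (hr : ∀ i, 0 < r i) {h : ℕ → Ser n}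
    (hh : ∑' k, mass r (h k) ≠ ⊤) (a : Fin n →₀ ℕ) : Summable fun k => MvPowerSeries.coeff a (h k) := by
  have h1 : ∑' k, ((‖MvPowerSeries.coeff a (h k)‖₊ * mon r a : ℝ≥0) : ℝ≥0∞) ≠ ⊤ :=
    ne_top_of_le_ne_top hh (ENNReal.tsum_le_tsum fun k => by
      rw [mass]
      exact ENNReal.le_tsum (f := fun b => ((‖MvPowerSeries.coeff b (h k)‖₊ * mon r b : ℝ≥0) : ℝ≥0∞)) a)
  rw [ENNReal.tsum_coe_ne_top_iff_summable, ← NNReal.summable_coe] at h1
  push_cast at h1
  have h2 : 0 < ((mon r a : ℝ≥0) : ℝ) := NNReal.coe_pos.2 (Finset.prod_pos fun i _ => pow_pos (hr i) _)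
  exact ((summable_mul_right_iff h2.ne').1 h1).of_norm

/-- Weierstrass division. -/
theorem exists_division {r : Fin (n + 1) → ℝ≥0} (hr : ∀ i, 0 < r i) (d : ℕ) {e g : Ser (n + 1)}
    (he : mass r e < ((r 0 ^ d : ℝ≥0) : ℝ≥0∞)) (hg : mass r g ≠ ⊤) :
    ∃ q rem : Ser (n + 1), mass r q ≠ ⊤ ∧ mass r rem ≠ ⊤ ∧
      (∀ a, d ≤ a 0 → MvPowerSeries.coeff a rem = 0) ∧
      g = (MvPowerSeries.X 0 ^ d + e) * q + rem := by
  classical
  set ρ : ℝ≥0∞ := ((r 0 ^ d : ℝ≥0) : ℝ≥0∞)
  have hρ0 : ρ ≠ 0 := ENNReal.coe_ne_zero.2 (pow_pos (hr 0) d).ne'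
  set θ : ℝ≥0∞ := mass r e / ρ
  have hθ : θ < 1 := ENNReal.div_lt_of_lt_mul (by rwa [one_mul])
  let G : ℕ → Ser (n + 1) := fun k => Nat.rec g (fun _ h => -(e * shiftS d h)) k
  have hGsucc : ∀ k, G (k + 1) = -(e * shiftS d (G k)) := fun k => rfl
  have hS : ∀ h : Ser (n + 1), mass r (shiftS d h) ≤ mass r h / ρ := fun h =>
    (ENNReal.le_div_iff_mul_le (Or.inl hρ0) (Or.inl ENNReal.coe_ne_top)).2 (mass_shiftS_mul_le r d h)
  have hG : ∀ k, mass r (G k) ≤ θ ^ k * mass r g := by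
    intro k
    induction k with
    | zero => rw [pow_zero, one_mul]; exact le_rfl
    | succ k ih =>
      rw [hGsucc, mass_neg]
      refine (mass_mul_le r _ _).trans ((mul_le_mul_right (hS _) _).trans ?_)
      rw [ENNReal.mul_comm_div.symm, pow_succ', mul_assoc]
      exact mul_le_mul_right ih _
  have hGsum : ∑' k, mass r (G k) ≠ ⊤ := by
    refine ne_top_of_le_ne_top ?_ (ENNReal.tsum_le_tsum hG)
    rw [ENNReal.tsum_mul_right, ENNReal.tsum_geometric]
    exact ENNReal.mul_ne_top (ENNReal.inv_ne_top.2 (tsub_pos_of_lt hθ).ne') hg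
  have hSsum : ∑' k, mass r (shiftS d (G k)) ≠ ⊤ := by
    refine ne_top_of_le_ne_top ?_ (ENNReal.tsum_le_tsum fun k => hS (G k))
    simp only [div_eq_mul_inv]
    rw [ENNReal.tsum_mul_right]
    exact ENNReal.mul_ne_top hGsum (ENNReal.inv_ne_top.2 hρ0)
  have hLsum : ∑' k, mass r (lowS d (G k)) ≠ ⊤ :=
    ne_top_of_le_ne_top hGsum (ENNReal.tsum_le_tsum fun k => mass_lowS_le r d (G k))
  let q : Ser (n + 1) := fun a => ∑' k, MvPowerSeries.coeff a (shiftS d (G k))
  let rem : Ser (n + 1) := fun a => ∑' k, MvPowerSeries.coeff a (lowS d (G k))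
  refine ⟨q, rem, ne_top_of_le_ne_top hSsum (mass_tsum_le r _), ne_top_of_le_ne_top hLsum (mass_tsum_le r _),
    fun a ha => ?_, ?_⟩
  · show ∑' k, MvPowerSeries.coeff a (lowS d (G k)) = 0
    simp [coeff_lowS, not_lt.2 ha]
  have hqc := summable_coeff_of_mass hr hSsum
  have hrc := summable_coeff_of_mass hr hLsum
  have hgc := summable_coeff_of_mass hr hGsum
  have hmulq : ∀ (h : Ser (n + 1)) (a : Fin (n + 1) →₀ ℕ),
      HasSum (fun k => MvPowerSeries.coeff a (h * shiftS d (G k))) (MvPowerSeries.coeff a (h * q)) := by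
    intro h a
    simp only [MvPowerSeries.coeff_mul]
    exact hasSum_sum fun p _ => (hqc p.2).hasSum.mul_left _
  ext a
  rw [add_mul, map_add, map_add]
  have h1 := ((hmulq (MvPowerSeries.X 0 ^ d) a).add (hmulq e a)).add (hrc a).hasSum
  have h2 : HasSum (fun k => MvPowerSeries.coeff a (G k) - MvPowerSeries.coeff a (G (k + 1)))
      (MvPowerSeries.coeff a g) := by
    have h3 : HasSum (fun k => MvPowerSeries.coeff a (G (k + 1))) ((∑' k, MvPowerSeries.coeff a (G k)) - MvPowerSeries.coeff a g) := by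
      have := (hasSum_nat_add_iff' (f := fun k => MvPowerSeries.coeff a (G k)) 1).2 (hgc a).hasSum
      simpa [G] using this
    simpa using (hgc a).hasSum.sub h3
  refine h2.unique (h1.congr_fun fun k => ?_)
  rw [hGsucc, map_neg, sub_neg_eq_add]
  conv_lhs => rw [← X_pow_mul_shiftS_add_lowS d (G k)]
  rw [map_add, X_pow_mul_shiftS_add_lowS]
  ring

end Groth.Agent.An92
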