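import Groth.Agent.FlatCrit65.Basic
import Groth.Agent.FlatMor66.FlatDescentSource
import Mathlib.RingTheory.TensorProduct.Quotient
import Mathlib.RingTheory.Flat.Stability

/-!
Transfer of flatness to a ring with the same completion.
-/

set_option autoImplicit false

noncomputable section

open IsLocalRing TensorProduct

universe u

namespace Groth.Agent.An92

theorem flat_quotientMap_iff {A C : Type u} [CommRing A] [CommRing C] [Algebra A C] (I : Ideal A) :
    Module.Flat (A ⧸ I) ((A ⧸ I) ⊗[A] C) ↔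
      (algebraMap (A ⧸ I) (C ⧸ I.map (algebraMap A C))).Flat := by
  rw [RingHom.flat_algebraMap_iff]
  exact ⟨fun _ => Module.Flat.of_linearEquiv (Algebra.TensorProduct.quotIdealMapEquivQuotTensor C I).toLinearEquiv,
    fun _ => Module.Flat.of_linearEquiv (Algebra.TensorProduct.quotIdealMapEquivQuotTensor C I).symm.toLinearEquiv⟩

/-- If `A → B` induces bijections modulo the powers of the maximal ideal, and `A → C` is flat,
then `B → C` is flat. -/
theorem flat_of_comp_flat {A B C : Type u} [CommRing A] [CommRing B] [CommRing C] [IsLocalRing A]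
    [IsLocalRing B] [IsLocalRing C] [IsNoetherianRing B] [IsNoetherianRing C]
    (α : A →+* B) (ψ : B →+* C) [IsLocalHom ψ] (h : (ψ.comp α).Flat)
    (hm : (maximalIdeal A).map α = maximalIdeal B)
    (hsurj : ∀ (n : ℕ) (b : B), ∃ a, α a - b ∈ (maximalIdeal B) ^ n)
    (hinj : ∀ (n : ℕ) (a : A), α a ∈ (maximalIdeal B) ^ n → a ∈ (maximalIdeal A) ^ n) : ψ.Flat := by
  let : Algebra A B := α.toAlgebra
  let : Algebra B C := ψ.toAlgebra
  let : Algebra A C := (ψ.comp α).toAlgebra
  have : IsScalarTower A B C := IsScalarTower.of_algebraMap_eq fun _ => rfl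
  have : IsLocalHom (algebraMap B C) := ‹IsLocalHom ψ›
  have : Module.Flat A C := h
  show Module.Flat B C
  refine FlatCrit65.flat_of_lexQuot_of_isLocalRing (S := C) (maximalIdeal.isMaximal B).ne_top
    (FlatCrit65.lexQuot_of_flat fun n => ?_)
  set J := maximalIdeal A ^ n
  set I := maximalIdeal B ^ n
  have hJI : J.map (algebraMap A B) = I :=
    (Ideal.map_pow _ _ _).trans (congrArg (· ^ n) hm)
  have hq : (algebraMap (A ⧸ J) (C ⧸ J.map (algebraMap A C))).Flat :=
    (flat_quotientMap_iff J).1 inferInstance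
  let e : A ⧸ J →+* B ⧸ I := Ideal.quotientMap I (algebraMap A B) (Ideal.map_le_iff_le_comap.1 hJI.le)
  have he : Function.Bijective e := by
    refine ⟨(injective_iff_map_eq_zero e).2 fun q hq' => ?_, fun q => ?_⟩
    · obtain ⟨a, rfl⟩ := Ideal.Quotient.mk_surjective q
      exact Ideal.Quotient.eq_zero_iff_mem.2 (hinj n a (Ideal.Quotient.eq_zero_iff_mem.1 hq'))
    · obtain ⟨b, rfl⟩ := Ideal.Quotient.mk_surjective q
      obtain ⟨a, ha⟩ := hsurj n b
      exact ⟨Ideal.Quotient.mk J a, Ideal.Quotient.eq.2 ha⟩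
  have heq : J.map (algebraMap A C) = I.map (algebraMap B C) := by
    rw [← hJI, Ideal.map_map, ← IsScalarTower.algebraMap_eq]
  rw [flat_quotientMap_iff]
  refine (RingHom.Flat.comp_iff_of_bijective_right he).1 ?_
  have hc : (algebraMap (B ⧸ I) (C ⧸ I.map (algebraMap B C))).comp e =
      (Ideal.quotEquivOfEq heq).toRingHom.comp (algebraMap (A ⧸ J) (C ⧸ J.map (algebraMap A C))) :=
    Ideal.Quotient.ringHom_ext (RingHom.ext fun a => rfl)
  rw [hc]
  exact hq.comp (.of_bijective (Ideal.quotEquivOfEq heq).bijective)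

end Groth.Agent.An92
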