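import Groth.Agent.An92.Germ.Stalk
import Groth.Agent.An92.Etale
import Mathlib.RingTheory.Henselian
import Mathlib.RingTheory.Polynomial.Basic

/-!
The analytic local rings are henselian: simple roots depend holomorphically on the coefficients.
-/

set_option autoImplicit false

noncomputable section

open Filter Topology Polynomial AlgebraicGeometry Asymptotics

namespace Groth.Agent.An92

/-- A differentiable function vanishing at a point times a continuous function is differentiable
there. -/
theorem differentiableAt_mul_of_continuousAt {n : ℕ} {e k : (Fin n → ℂ) → ℂ} {w : Fin n → ℂ}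
    (he : DifferentiableAt ℂ e w) (he0 : e w = 0) (hk : ContinuousAt k w) :
    DifferentiableAt ℂ (fun z => e z * k z) w := by
  obtain ⟨L, hL⟩ := he
  refine ⟨k w • L, .of_isLittleO ?_⟩
  have h1 : (fun z => (e z - e w - L (z - w)) * k z) =o[𝓝 w] fun z => z - w := by
    have := hL.isLittleO.norm_right.mul_isBigO (hk.isBigO_one ℝ)
    simp only [mul_one] at this
    exact this.of_norm_right
  have h2 : (fun z => L (z - w) * (k z - k w)) =o[𝓝 w] fun z => z - w := by
    have h : (fun z => k z - k w) =o[𝓝 w] fun _ => (1 : ℝ) :=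
      (isLittleO_one_iff ℝ).2 (by simpa using hk.tendsto.sub_const (k w))
    have := ((L.isBigO_sub (𝓝 w) w).norm_right).mul_isLittleO h
    simp only [mul_one] at this
    exact this.of_norm_right
  refine (h1.add h2).congr_left fun z => ?_
  simp only [he0, zero_mul, sub_zero, smul_apply, smul_eq_mul]
  ring

namespace holGerm

variable {n : ℕ}

theorem henselian : HenselianLocalRing (holGerm n) := by
  refine ⟨fun f hf a₀ h₀ h₁ => ?_⟩
  set D := f.natDegree with hD
  choose c hc hceq using fun i => exists_rep (f.coeff i)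
  obtain ⟨A, hA, rfl⟩ := exists_rep a₀
  obtain ⟨O, hO, hOo, hO0⟩ := eventually_nhds_iff.1
    (eventually_all.2 fun i : Fin D => hc i)
  let F : O → ℂ[X] := fun z => X ^ D + ∑ i : Fin D, Polynomial.C (c i z.1) * X ^ (i : ℕ)
  have hdeg : ∀ z : O, (∑ i : Fin D, Polynomial.C (c i z.1) * X ^ (i : ℕ) : ℂ[X]).degree < (D : WithBot ℕ) := fun z =>
    degree_sum_fin_lt _
  have hFm : ∀ z, (F z).Monic := fun z => monic_X_pow_add (hdeg z)
  have hFd : ∀ z, (F z).natDegree = D := fun z => by
    refine natDegree_eq_of_degree_eq_some ?_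
    rw [degree_add_eq_left_of_degree_lt (by rw [degree_X_pow]; exact hdeg z), degree_X_pow]
  have hcoeff : ∀ (z : O) (i : ℕ), (F z).coeff i = if i = D then 1 else if h : i < D then c i z.1 else 0 := by
    intro z i
    simp only [F, coeff_add, coeff_X_pow, finsetSum_coeff, coeff_C_mul]
    rcases lt_trichotomy i D with h | h | h
    · rw [if_neg h.ne, if_neg h.ne, dif_pos h, zero_add, Finset.sum_eq_single ⟨i, h⟩]
      · simp
      · exact fun j _ hj => by simp [show i ≠ (j : ℕ) from fun he => hj (Fin.ext he.symm)]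
      · simp
    · rw [if_pos h, if_pos h, Finset.sum_eq_zero, add_zero]
      exact fun j _ => by simp [show i ≠ (j : ℕ) by omega]
    · rw [if_neg h.ne', if_neg h.ne', dif_neg (by omega), Finset.sum_eq_zero, add_zero]
      exact fun j _ => by simp [show i ≠ (j : ℕ) by omega]
  have hFc : ∀ i, Continuous fun z : O => (F z).coeff i := by
    intro i
    simp only [hcoeff]
    by_cases h : i = D
    · simp only [if_pos h]; exact continuous_const
    · simp only [if_neg h]
      by_cases h' : i < D
      · simp only [dif_pos h']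
        exact continuous_iff_continuousAt.2 fun z =>
          (hO z.1 z.2 ⟨i, h'⟩).continuousAt.comp continuous_subtype_val.continuousAt
      · simp only [dif_neg h']; exact continuous_const
  have hev : ∀ z : O, ∀ t, (F z).eval t = t ^ D + ∑ i : Fin D, c i z.1 * t ^ (i : ℕ) := fun z t => by
    simp [F, eval_finsetSum]
  let z₀ : O := ⟨0, hO0⟩
  have hval : f.map value = F z₀ := by
    ext i
    rw [coeff_map, hcoeff]
    split_ifs with h h'
    · rw [h, hD, hf.coeff_natDegree, map_one]
    · rw [← hceq i, value_mk]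
    · rw [coeff_eq_zero_of_natDegree_lt (by omega), map_zero]
  have ht0 : (F z₀).eval (A 0) = 0 := by
    rw [← hval, ← value_mk A hA, eval_map_apply]
    exact mem_maximalIdeal.1 h₀
  have ht1 : (F z₀).derivative.eval (A 0) ≠ 0 := by
    rw [← hval, derivative_map, ← value_mk A hA, eval_map_apply]
    exact (h₁.map value).ne_zero
  have hW : IsOpen {p : O × ℂ | (F p.1).derivative.eval p.2 ≠ 0} := by
    have : (fun p : O × ℂ => (F p.1).derivative.eval p.2) = fun p =>
        ∑ i ∈ Finset.range (D + 1), (F p.1).coeff i * i * p.2 ^ (i - 1) := funext fun p => by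
      rw [derivative_eval, sum_over_range' _ (fun i => by simp) (D + 1) (by rw [hFd]; omega)]
    exact isOpen_ne.preimage (by
      rw [this]
      exact continuous_finsetSum _ fun i _ =>
        (((hFc i).comp continuous_fst).mul continuous_const).mul (continuous_snd.pow _))
  obtain ⟨N, B, r, hNo, hzN, hBo, htB, hNB, hrc, hr⟩ :=
    exists_root_family hFm hFd hFc ht0 ht1 hW ht1
  classical
  let R : (Fin n → ℂ) → ℂ := fun w => if h : w ∈ O then r ⟨w, h⟩ else 0
  have hNimg : IsOpen (Subtype.val '' N : Set (Fin n → ℂ)) := hOo.isOpenMap_subtype_val N hNo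
  have hRc : ∀ z ∈ N, ContinuousAt R z.1 := fun z hz => by
    refine (hOo.isOpenEmbedding_subtypeVal.continuousAt_iff (g := R)).1 ?_
    have : R ∘ Subtype.val = r := funext fun z => dif_pos z.2
    rw [this]
    exact hrc.continuousAt (hNo.mem_nhds hz)
  have hroot : ∀ z ∈ N, R z.1 ^ D + ∑ i : Fin D, c i z.1 * R z.1 ^ (i : ℕ) = 0 := fun z hz => by
    rw [show R z.1 = r z from dif_pos z.2, ← hev]
    exact ((hr z hz _).2 rfl).2
  have hdiff : ∀ z ∈ N, DifferentiableAt ℂ R z.1 := by
    intro z hz
    set t₁ := R z.1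
    let e : (Fin n → ℂ) → ℂ := fun w => t₁ ^ D + ∑ i : Fin D, c i w * t₁ ^ (i : ℕ)
    let q : (Fin n → ℂ) → ℂ := fun w =>
      ∑ j ∈ Finset.range D, R w ^ j * t₁ ^ (D - 1 - j) +
        ∑ i : Fin D, c i w * ∑ j ∈ Finset.range (i : ℕ), R w ^ j * t₁ ^ ((i : ℕ) - 1 - j)
    have he : DifferentiableAt ℂ e z.1 :=
      (DifferentiableAt.fun_sum fun i _ => (hO z.1 z.2 i).mul_const _).const_add _
    have he0 : e z.1 = 0 := hroot z hz
    have hsum : ∀ (m : ℕ) (s t : ℂ),
        (t - s) * (∑ j ∈ Finset.range m, t ^ j * s ^ (m - 1 - j)) = t ^ m - s ^ m := fun m s t => by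
      rw [← geom_sum₂_mul]; ring
    have hqmul : ∀ w, (R w - t₁) * q w =
        (R w ^ D + ∑ i : Fin D, c i w * R w ^ (i : ℕ)) - e w := by
      intro w
      simp only [q, e]
      rw [mul_add, hsum, Finset.mul_sum, Finset.sum_congr rfl (fun (i : Fin D) _ => show (R w - t₁) *
        (c i w * ∑ j ∈ Finset.range (i : ℕ), R w ^ j * t₁ ^ ((i : ℕ) - 1 - j)) =
          c i w * R w ^ (i : ℕ) - c i w * t₁ ^ (i : ℕ) by rw [mul_left_comm, hsum, mul_sub]),
        Finset.sum_sub_distrib]
      ring
    have hqc : ContinuousAt q z.1 :=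
      (tendsto_finsetSum _ fun j _ => ((hRc z hz).pow j).mul continuousAt_const).add
        (tendsto_finsetSum _ fun i _ => ((hO z.1 z.2 i).continuousAt).mul
          (tendsto_finsetSum _ fun j _ => ((hRc z hz).pow j).mul continuousAt_const))
    have hq0 : q z.1 = (F z).derivative.eval t₁ := by
      simp only [q, show R z.1 = t₁ from rfl]
      simp only [F, map_add, derivative_sum, derivative_C_mul, derivative_X_pow, eval_add, eval_finsetSum,
        eval_mul, eval_C, eval_pow, eval_X]
      congr 1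
      · rw [Finset.sum_congr rfl (fun j hj => by
          rw [← pow_add, show j + (D - 1 - j) = D - 1 by have := Finset.mem_range.1 hj; omega])]
        simp
      · refine Finset.sum_congr rfl fun i _ => ?_
        rw [Finset.sum_congr rfl (fun j hj => by
          rw [← pow_add, show j + ((i : ℕ) - 1 - j) = (i : ℕ) - 1 by
            have := Finset.mem_range.1 hj; omega])]
        simp
    have hqne : q z.1 ≠ 0 := by
      rw [hq0, show t₁ = r z from dif_pos z.2]
      exact hNB (show (z, r z) ∈ N ×ˢ B from ⟨hz, ((hr z hz _).2 rfl).1⟩)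
    refine ((differentiableAt_mul_of_continuousAt he.neg (by simp [he0]) (hqc.inv₀ hqne)).add_const
      t₁).congr_of_eventuallyEq ?_
    filter_upwards [hNimg.mem_nhds ⟨z, hz, rfl⟩, hqc.eventually_ne hqne] with w hw hqw
    obtain ⟨z', hz', rfl⟩ := hw
    have h := hqmul z'.1
    rw [hroot z' hz', zero_sub] at h
    show R z'.1 = -e z'.1 * (q z'.1)⁻¹ + t₁
    rw [← h, mul_inv_cancel_right₀ hqw, sub_add_cancel]
  have hRev : ∀ᶠ w in 𝓝 (0 : Fin n → ℂ), DifferentiableAt ℂ R w :=
    Filter.mem_of_superset (hNimg.mem_nhds ⟨z₀, hzN, rfl⟩) (by rintro _ ⟨z, hz, rfl⟩; exact hdiff z hz)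
  refine ⟨mk R hRev, ?_, ?_⟩
  · show f.eval (mk R hRev) = 0
    rw [eval_eq_sum_range, ← hD]
    refine Subtype.ext ?_
    have hsplit : ∀ w, (∑ i ∈ Finset.range D, c i w * R w ^ i) + 1 * R w ^ D =
        R w ^ D + ∑ i : Fin D, c i w * R w ^ (i : ℕ) := fun w => by
      rw [Finset.sum_range, one_mul, add_comm]
    rw [Finset.sum_range_succ, show f.coeff D = 1 from hf.coeff_natDegree, Subring.coe_add,
      AddSubmonoidClass.coe_finsetSum]
    have hterm : ∀ i, ((f.coeff i * mk R hRev ^ i : holGerm n) : Germ (𝓝 (0 : Fin n → ℂ)) ℂ) =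
        Germ.coeRingHom _ (fun w => c i w * R w ^ i) := fun i => by
      rw [← hceq i]; rfl
    simp only [hterm]
    rw [← map_sum, show ((1 * mk R hRev ^ D : holGerm n) : Germ (𝓝 (0 : Fin n → ℂ)) ℂ) =
      Germ.coeRingHom _ (fun w => 1 * R w ^ D) from rfl, ← map_add]
    refine Germ.coe_eq.2 ?_
    filter_upwards [hNimg.mem_nhds ⟨z₀, hzN, rfl⟩] with w hw
    obtain ⟨z, hz, rfl⟩ := hw
    show ((∑ i ∈ Finset.range D, fun w => c i w * R w ^ i) + fun w => 1 * R w ^ D) z.1 = 0
    simp only [Pi.add_apply, Finset.sum_apply]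
    rw [hsplit]
    exact hroot z hz
  · rw [mem_maximalIdeal, map_sub, value_mk, value_mk, sub_eq_zero]
    show R (z₀ : Fin n → ℂ) = _
    rw [show R z₀.1 = r z₀ from dif_pos z₀.2]
    exact ((hr z₀ hzN _).1 ⟨htB, ht0⟩).symm

end holGerm

theorem henselian_of_surjective {R S : Type} [CommRing R] [CommRing S] [HenselianLocalRing R]
    [IsLocalRing S] (π : R →+* S) (hπ : Function.Surjective π) : HenselianLocalRing S := by
  refine ⟨fun f hf a₀ h₀ h₁ => ?_⟩
  have : IsLocalHom π := IsLocalHom.of_surjective π hπ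
  obtain ⟨g, hgf, -, hg⟩ := Polynomial.lifts_and_degree_eq_and_monic
    ((Polynomial.mem_lifts f).2 (Polynomial.map_surjective π hπ f)) hf
  obtain ⟨b, rfl⟩ := hπ a₀
  subst hgf
  obtain ⟨a, ha, hab⟩ := HenselianLocalRing.is_henselian g hg b
    (fun hu => h₀ (by rw [eval_map_apply]; exact hu.map π))
    (isUnit_of_map_unit π _ (by rwa [derivative_map, eval_map_apply] at h₁))
  refine ⟨π a, by rw [IsRoot.def, eval_map_apply, ha, map_zero], ?_⟩
  rw [← map_sub]
  exact map_nonunit π _ hab

open An An.Pts in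
theorem henselian_anStalk {X : Scheme.{0}} [X.Over SC] [LocallyOfFiniteType (X ↘ SC)] (x : Pts X) :
    HenselianLocalRing ((anSpace X).presheaf.stalk x) := by
  obtain ⟨U, hU, hx, m, s, hs⟩ := exists_chart x
  have := isLocalRing_anStalk x
  have := holGerm.henselian (n := m)
  exact henselian_of_surjective (theta s x hx) (theta_surjective hU s hs x hx)

end Groth.Agent.An92
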