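import Groth.Agent.An92.Germ.MaxIdeal
import Groth.Agent.An92.Germ.FlatTransfer
import Groth.Agent.An92.Germ.Henselian
import Groth.Agent.An92.FlatPts
import Groth.Agent.Henz21.LocalLift
import Groth.Agent.An92.Maps
import Mathlib.AlgebraicGeometry.Morphisms.Etale

/-!
A morphism is etale iff it induces bijections on the analytic local rings.
-/

set_option autoImplicit false

noncomputable section

open AlgebraicGeometry CategoryTheory IsLocalRing TopologicalSpace Filter Topology

namespace Groth.Agent.An92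

open An An.Pts

variable {X Y : Scheme.{0}} [X.Over SC] [Y.Over SC] (f : X ⟶ Y) [f.IsOver SC]
  [LocallyOfFiniteType (X ↘ SC)] [LocallyOfFiniteType (Y ↘ SC)]

theorem flat_anMapStalk [IsReduced X] [IsReduced Y] (x : Pts X) (hf : (ptStalk f x).Flat) :
    (anMapStalk f x).Flat := by
  have := isLocalRing_anStalk x
  have := isLocalRing_anStalk (Pts.map f x)
  have := isNoetherianRing_anStalk x
  have := isNoetherianRing_anStalk (Pts.map f x)
  have := map_maximalIdeal_le f x
  have hm := anStalkMap_maximalIdeal (Pts.map f x)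
  refine flat_of_comp_flat (anStalkMap (Pts.map f x)) (anMapStalk f x) ?_ hm
    (fun n b => hm ▸ exists_sub_mem_pow _ n b)
    (fun n a ha => mem_pow_of_anStalkMap_mem _ n a (by rw [← hm] at ha; exact ha))
  rw [anMapStalk_comp]
  exact hf.comp (flat_anStalkMap x)

theorem anValue_anMapStalk (x : Pts X) (b : (anSpace Y).presheaf.stalk (Pts.map f x)) :
    anValue x (anMapStalk f x b) = anValue (Pts.map f x) b := by
  obtain ⟨G, hG⟩ : ∃ G : Pts Y → ℂ, toGerm (Pts.map f x) b = (G : Germ (𝓝 (Pts.map f x)) ℂ) := by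
    induction toGerm (Pts.map f x) b using Germ.inductionOn with
    | h G => exact ⟨G, rfl⟩
  rw [anValue_eq _ hG, anValue_eq x ((toGerm_anMapStalk f x b).trans (by rw [hG]; rfl))]
  rfl

theorem residue_eq_iff (x : Pts X) (a b : (anSpace X).presheaf.stalk x) :
    letI := isLocalRing_anStalk x
    residue _ a = residue _ b ↔ anValue x a = anValue x b := by
  let := isLocalRing_anStalk x
  rw [← sub_eq_zero, ← map_sub, residue_eq_zero_iff, ← anStalkMap_maximalIdeal x,
    mem_map_maximalIdeal_iff, map_sub, sub_eq_zero]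

/-- Regular germs come from the target when the morphism is etale. -/
theorem anStalkMap_mem_range [Etale f] (x : Pts X) (a : X.presheaf.stalk x.pt) :
    anStalkMap x a ∈ (anMapStalk f x).range := by
  let T₁ := (anSpace Y).presheaf.stalk (Pts.map f x)
  let T₂ := (anSpace X).presheaf.stalk x
  have : HenselianLocalRing T₁ := henselian_anStalk _
  have : HenselianLocalRing T₂ := henselian_anStalk _
  obtain ⟨V, hV, hyV, -⟩ := exists_isAffineOpen_mem_and_subset (U := ⊤) (Opens.mem_top (Pts.map f x).pt)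
  obtain ⟨U, hU, hxU, hUV⟩ := exists_isAffineOpen_mem_and_subset (U := f ⁻¹ᵁ V) (x := x.pt)
    (show f x.pt ∈ V by rw [← pt_map]; exact hyV)
  have e : U ≤ f ⁻¹ᵁ V := hUV
  let : Algebra Γ(Y, V) Γ(X, U) := (f.appLE V U e).hom.toAlgebra
  have : Algebra.Etale Γ(Y, V) Γ(X, U) :=
    HasRingHomProperty.appLE (P := @Etale) f inferInstance ⟨V, hV⟩ ⟨U, hU⟩ e
  let α : Γ(Y, V) →+* T₁ :=
    (anStalkMap (Pts.map f x)).comp (Y.presheaf.germ V (Pts.map f x).pt hyV).hom
  let h : Γ(X, U) →+* T₂ := (anStalkMap x).comp (X.presheaf.germ U x.pt hxU).hom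
  let : Algebra Γ(Y, V) T₁ := α.toAlgebra
  let : Algebra Γ(Y, V) T₂ := ((anMapStalk f x).comp α).toAlgebra
  have hsq : (anMapStalk f x).comp α = h.comp (f.appLE V U e).hom := by
    refine RingHom.ext fun b => ?_
    refine (RingHom.congr_fun (anMapStalk_comp f x) _).trans (congrArg (anStalkMap x) ?_)
    refine (congrArg (fun k => (CommRingCat.Hom.hom k) b) (Scheme.Hom.germ_stalkMap f V x.pt (e hxU))).trans ?_
    exact (TopCat.Presheaf.germ_res_apply X.presheaf (homOfLE e) x.pt hxU _).symm
  have hα : ∀ b, anValue (Pts.map f x) (α b) = x.ev U hxU (f.appLE V U e b) := fun b => by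
    rw [← anValue_anMapStalk f x]
    refine (congrArg (anValue x) (RingHom.congr_fun hsq b)).trans ?_
    exact anValue_stalkMap x U hxU _
  let cst : ℂ →+* T₁ :=
    (anStalkMap (Pts.map f x)).comp ((Y.presheaf.germ V (Pts.map f x).pt hyV).hom.comp (strHomU V))
  have hcst : ∀ c, anValue (Pts.map f x) (cst c) = c := fun c =>
    (anValue_stalkMap (Pts.map f x) V hyV (strHomU V c)).trans (ev_strHomU _ V hyV c)
  let σ : Γ(X, U) →ₐ[Γ(Y, V)] ResidueField T₁ :=
    { toRingHom := (residue T₁).comp (cst.comp (evHom x U hxU))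
      commutes' := fun b => (residue_eq_iff (Pts.map f x) _ (α b)).2 ((hcst _).trans (hα b).symm) }
  obtain ⟨g, hg, -⟩ := Henz21.existsUnique_lift (T := T₁) σ
  let g' : Γ(X, U) →ₐ[Γ(Y, V)] T₂ :=
    { toRingHom := (anMapStalk f x).comp g.toRingHom
      commutes' := fun b => congrArg (anMapStalk f x) (g.commutes b) }
  let h' : Γ(X, U) →ₐ[Γ(Y, V)] T₂ :=
    { toRingHom := h
      commutes' := fun b => (RingHom.congr_fun hsq b).symm }
  have hgh : g' = h' := by
    refine (Henz21.existsUnique_lift ((IsScalarTower.toAlgHom Γ(Y, V) T₂ (ResidueField T₂)).comp h')).unique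
      ?_ rfl
    refine AlgHom.ext fun b => (residue_eq_iff x _ _).2 ?_
    show anValue x (anMapStalk f x (g b)) = anValue x (h b)
    rw [anValue_anMapStalk]
    have h1 := (residue_eq_iff (Pts.map f x) (g b) (cst (evHom x U hxU b))).1 (DFunLike.congr_fun hg b)
    rw [h1, hcst]
    exact (anValue_stalkMap x U hxU b).symm
  have hU' : ∀ b, anStalkMap x (X.presheaf.germ U x.pt hxU b) ∈ (anMapStalk f x).range := fun b =>
    ⟨g b, DFunLike.congr_fun hgh b⟩
  have := hU.isLocalization_stalk ⟨x.pt, hxU⟩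
  let := X.presheaf.algebra_section_stalk (⟨x.pt, hxU⟩ : U)
  obtain ⟨c, u, rfl⟩ := IsLocalization.exists_mk'_eq (hU.primeIdealOf ⟨x.pt, hxU⟩).asIdeal.primeCompl a
  obtain ⟨b₁, hb₁⟩ := hU' c
  obtain ⟨b₂, hb₂⟩ := hU' u
  have := map_maximalIdeal_le f x
  have hu : IsUnit (anMapStalk f x b₂) := hb₂ ▸
    ((IsLocalization.map_units (X.presheaf.stalk x.pt) u).map (anStalkMap x))
  obtain ⟨b₂', rfl⟩ := isUnit_of_map_unit (anMapStalk f x) b₂ hu
  refine ⟨b₁ * (b₂'⁻¹ : T₁ˣ), ?_⟩
  have hmul : anStalkMap x (IsLocalization.mk' (X.presheaf.stalk x.pt) c u) * anMapStalk f x b₂' =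
      anMapStalk f x b₁ := by
    rw [hb₁, hb₂]
    refine (map_mul (anStalkMap x) _ _).symm.trans (congrArg (anStalkMap x) ?_)
    exact IsLocalization.mk'_spec (X.presheaf.stalk x.pt) c u
  rw [map_mul, ← hmul, mul_assoc, ← map_mul, Units.mul_inv, map_one, mul_one]

theorem bijective_anMapStalk [IsReduced X] [IsReduced Y] [Etale f] (x : Pts X) :
    Function.Bijective (anMapStalk f x) := by
  refine ⟨?_, ?_⟩
  · have := isLocalRing_anStalk x
    have := isLocalRing_anStalk (Pts.map f x)
    have := map_maximalIdeal_le f x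
    let : Algebra ((anSpace Y).presheaf.stalk (Pts.map f x)) ((anSpace X).presheaf.stalk x) :=
      (anMapStalk f x).toAlgebra
    have : Module.Flat ((anSpace Y).presheaf.stalk (Pts.map f x)) ((anSpace X).presheaf.stalk x) :=
      flat_anMapStalk f x (Flat.stalkMap f x.pt)
    have : IsLocalHom (algebraMap ((anSpace Y).presheaf.stalk (Pts.map f x)) ((anSpace X).presheaf.stalk x)) :=
      map_maximalIdeal_le f x
    have : Module.FaithfullyFlat ((anSpace Y).presheaf.stalk (Pts.map f x)) ((anSpace X).presheaf.stalk x) :=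
      Module.FaithfullyFlat.of_flat_of_isLocalHom
    exact FaithfulSMul.algebraMap_injective _ _
  · intro a
    obtain ⟨U, hU, hx, m, s, hs⟩ := exists_chart x
    obtain ⟨V, hV, hy, d, t, ht⟩ := exists_chart (Pts.map f x)
    obtain ⟨φ, rfl⟩ := theta_surjective hU s hs x hx a
    obtain ⟨F, hF, rfl⟩ := holGerm.exists_rep φ
    have hj : ∀ j, ∃ G : (Fin d → ℂ) → ℂ, (∀ᶠ w in 𝓝 0, DifferentiableAt ℂ G w) ∧ G 0 = 0 ∧
        ∀ᶠ p in 𝓝 x, centred s x p j = G (centred t (Pts.map f x) (Pts.map f p)) := by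
      intro j
      obtain ⟨b, hb⟩ := anStalkMap_mem_range f x
        (X.presheaf.germ U x.pt hx (s j - strHomU U (x.ev U hx (s j))))
      obtain ⟨ψ, rfl⟩ := theta_surjective hV t ht (Pts.map f x) hy b
      obtain ⟨G, hG, rfl⟩ := holGerm.exists_rep ψ
      have h1 : toGerm x (anMapStalk f x (theta t (Pts.map f x) hy (holGerm.mk G hG))) =
          ((fun p => G (centred t (Pts.map f x) (Pts.map f p)) : Pts X → ℂ) : Germ (𝓝 x) ℂ) := by
        rw [toGerm_anMapStalk, toGerm_theta, thetaGerm_mk]
        rfl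
      have h2 : toGerm x (anStalkMap x (X.presheaf.germ U x.pt hx (s j - strHomU U (x.ev U hx (s j))))) =
          ((fun p => centred s x p j : Pts X → ℂ) : Germ (𝓝 x) ℂ) := by
        refine toGerm_stalkMap x U hx _ (fun p => centred s x p j) (Eventually.of_forall fun p hp => ?_)
        rw [← evHom_apply, map_sub, evHom_apply, evHom_apply, ev_strHomU]
        simp only [centred, coords_of_mem s hp, coords_of_mem s hx]
        rfl
      have h3 := Germ.coe_eq.1 (h2.symm.trans ((congrArg (toGerm x) hb.symm).trans h1))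
      refine ⟨G, hG, ?_, h3⟩
      have h4 := h3.self_of_nhds
      simp only [centred, sub_self] at h4
      exact h4.symm
    choose G hGd hG0 hG using hj
    have hGd' : ∀ᶠ w in 𝓝 (0 : Fin d → ℂ), DifferentiableAt ℂ (fun w j => G j w) w :=
      (eventually_all.2 hGd).mono fun w hw => differentiableAt_pi.2 hw
    have hlim : Tendsto (fun w j => G j w) (𝓝 (0 : Fin d → ℂ)) (𝓝 0) := by
      have := hGd'.self_of_nhds.continuousAt.tendsto
      simpa [hG0, ← Pi.zero_def] using this
    refine ⟨theta t (Pts.map f x) hy (holGerm.mk (fun w => F fun j => G j w)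
      ((hGd'.and (hlim.eventually hF)).mono fun w hw => hw.2.comp w hw.1)), toGerm_injective x ?_⟩
    rw [toGerm_anMapStalk, toGerm_theta, toGerm_theta, thetaGerm_mk, thetaGerm_mk]
    refine Germ.coe_eq.2 ?_
    filter_upwards [eventually_all.2 hG] with p hp
    exact congrArg F (funext fun j => (hp j).symm)

theorem etale_iff_bijective [IsReduced X] [IsReduced Y] :
    Etale f ↔ ∀ x : Pts X, Function.Bijective (anMapStalk f x) := by
  refine ⟨fun _ x => bijective_anMapStalk f x, fun h => ?_⟩
  have := locallyOfFinitePresentation f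
  have : Flat f := flat_of_forall_pts f fun x => by
    have := isLocalRing_anStalk x
    have := isLocalHom_anStalkMap x
    refine FlatMor66.flat_of_comp_localHom (ptStalk f x) (anStalkMap x) (flat_anStalkMap x) ?_
    rw [← anMapStalk_comp]
    exact (flat_anStalkMap (Pts.map f x)).comp (RingHom.Flat.of_bijective (h x))
  have : FormallyUnramified f := by
    refine (formallyUnramified_iff_anStalk f).2 fun x m hm => ?_
    exact ⟨m.comap (anMapStalk f x), Ideal.comap_isMaximal_of_surjective _ (h x).2,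
      Ideal.map_comap_of_surjective _ (h x).2 m⟩
  exact Etale.of_formallyUnramified_of_flat f

end Groth.Agent.An92
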