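import Groth.Agent.An92.Germ.Series
import Mathlib.Analysis.Complex.CauchyIntegral
import Mathlib.Analysis.SpecificLimits.Basic
import Mathlib.Data.Finsupp.Fin
import Mathlib.Data.Finsupp.Encodable
import Mathlib.MeasureTheory.Integral.DominatedConvergence

/-!
A function holomorphic on a polydisc is the sum of a convergent power series.
-/

set_option autoImplicit false

noncomputable section

open Metric MeasureTheory Function
open scoped NNReal Real Topology

namespace Groth.Agent.An92

/-- Splitting off the first exponent. -/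
def consEquiv' (n : ℕ) : (Fin (n + 1) →₀ ℕ) ≃ ℕ × (Fin n →₀ ℕ) where
  toFun a := (a 0, Finsupp.tail a)
  invFun p := Finsupp.cons p.1 p.2
  left_inv a := Finsupp.cons_tail a
  right_inv p := by simp [Finsupp.tail_cons]

theorem mon_cons {n : ℕ} {K : Type} [CommMonoid K] (x : Fin (n + 1) → K) (a : Fin (n + 1) →₀ ℕ) :
    mon x a = x 0 ^ a 0 * mon (Fin.tail x) (Finsupp.tail a) := by
  rw [mon, Fin.prod_univ_succ]
  rfl

theorem mon_mul {n : ℕ} {K : Type} [CommMonoid K] (x y : Fin n → K) (a : Fin n →₀ ℕ) :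
    mon (fun i => x i * y i) a = mon x a * mon y a := by
  simp [mon, mul_pow, Finset.prod_mul_distrib]

theorem mon_nonneg {n : ℕ} {x : Fin n → ℝ} (h : ∀ i, 0 ≤ x i) (a : Fin n →₀ ℕ) : 0 ≤ mon x a :=
  Finset.prod_nonneg fun i _ => pow_nonneg (h i) _

theorem mon_pos {n : ℕ} {x : Fin n → ℝ} (h : ∀ i, 0 < x i) (a : Fin n →₀ ℕ) : 0 < mon x a :=
  Finset.prod_pos fun i _ => pow_pos (h i) _

theorem norm_mon {n : ℕ} (z : Fin n → ℂ) (a : Fin n →₀ ℕ) : ‖mon z a‖ = mon (fun i => ‖z i‖) a := by
  simp [mon]

theorem summable_mon {n : ℕ} (q : Fin n → ℝ) (h0 : ∀ i, 0 ≤ q i) (h1 : ∀ i, q i < 1) :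
    Summable (mon q) := by
  induction n with
  | zero => exact Summable.of_finite
  | succ n ih =>
    rw [← (consEquiv' n).symm.summable_iff]
    have := (summable_geometric_of_lt_one (h0 0) (h1 0)).mul_of_nonneg
      (ih (Fin.tail q) (fun i => h0 i.succ) (fun i => h1 i.succ))
      (fun k => pow_nonneg (h0 0) k) (fun a => mon_nonneg (fun i => h0 i.succ) a)
    refine this.congr fun p => ?_
    show _ = mon q (Finsupp.cons p.1 p.2)
    rw [mon_cons, Finsupp.cons_zero, Finsupp.tail_cons]

theorem cons_mem_closedBall {n : ℕ} {R : ℝ} (hR : 0 ≤ R) {w : ℂ} {y : Fin n → ℂ} (hw : ‖w‖ ≤ R)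
    (hy : y ∈ closedBall (0 : Fin n → ℂ) R) :
    (Fin.cons w y : Fin (n + 1) → ℂ) ∈ closedBall (0 : Fin (n + 1) → ℂ) R := by
  rw [mem_closedBall_zero_iff] at hy ⊢
  refine (pi_norm_le_iff_of_nonneg hR).2 (Fin.cases ?_ fun i => ?_)
  · simpa using hw
  · simpa using (norm_le_pi_norm y i).trans hy

set_option maxHeartbeats 1000000 in
theorem exists_coeff : ∀ (n : ℕ) {Z : Type} [TopologicalSpace Z] (G : Z → (Fin n → ℂ) → ℂ) (R B : ℝ),
    0 < R → ContinuousOn (uncurry G) (Set.univ ×ˢ closedBall 0 R) →
    (∀ z, ∀ x ∈ closedBall (0 : Fin n → ℂ) R, ‖G z x‖ ≤ B) →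
    (∀ z, ∀ x ∈ closedBall (0 : Fin n → ℂ) R, ∀ i,
      DifferentiableOn ℂ (fun s => G z (update x i s)) (ball 0 R)) →
    ∃ c : Z → (Fin n →₀ ℕ) → ℂ, (∀ a, Continuous fun z => c z a) ∧
      (∀ z a, ‖c z a‖ * mon (fun _ => R) a ≤ B) ∧
      ∀ z, ∀ x ∈ ball (0 : Fin n → ℂ) R, HasSum (fun a => c z a * mon x a) (G z x) := by
  intro n
  induction n with
  | zero =>
    intro Z _ G R B hR hc hb _
    refine ⟨fun z _ => G z 0, fun _ => ?_, fun z a => ?_, fun z x _ => ?_⟩
    · exact hc.comp_continuous (f := fun z : Z => (z, (0 : Fin 0 → ℂ))) (by fun_prop)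
        fun z => ⟨trivial, mem_closedBall_self hR.le⟩
    · simpa [mon] using hb z 0 (mem_closedBall_self hR.le)
    · rw [Subsingleton.elim x 0]
      simpa [mon] using hasSum_unique (fun a : Fin 0 →₀ ℕ => G z 0 * mon (0 : Fin 0 → ℂ) a)
  | succ n ih =>
    intro Z _ G R B hR hc hb hd
    set ζ : ℝ → ℂ := circleMap 0 R with hζ
    have hζn : ∀ θ, ‖ζ θ‖ = R := fun θ => by rw [hζ, norm_circleMap_zero, abs_of_pos hR]
    have hζ0 : ∀ θ, ζ θ ≠ 0 := fun θ h => hR.ne' (by rw [← hζn θ, h, norm_zero])
    let G' : Z × ℝ → (Fin n → ℂ) → ℂ := fun p y => G p.1 (Fin.cons (ζ p.2) y)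
    have hmem : ∀ θ, ∀ y ∈ closedBall (0 : Fin n → ℂ) R,
        (Fin.cons (ζ θ) y : Fin (n + 1) → ℂ) ∈ closedBall (0 : Fin (n + 1) → ℂ) R :=
      fun θ y hy => cons_mem_closedBall hR.le (hζn θ).le hy
    obtain ⟨c', hc'c, hc'b, hc's⟩ := ih G' R B hR
      (hc.comp (f := fun p : (Z × ℝ) × (Fin n → ℂ) => (p.1.1, (Fin.cons (ζ p.1.2) p.2 : Fin (n + 1) → ℂ)))
        (show Continuous fun p : (Z × ℝ) × (Fin n → ℂ) => (p.1.1, (Fin.cons (ζ p.1.2) p.2 : Fin (n + 1) → ℂ)) from
          (continuous_fst.comp continuous_fst).prodMk (continuous_pi (Fin.cases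
            (by simp only [Fin.cons_zero]; exact (continuous_circleMap 0 R).comp (continuous_snd.comp continuous_fst))
            fun i => by simp only [Fin.cons_succ]; exact (continuous_apply i).comp continuous_snd))).continuousOn
        fun p hp => ⟨trivial, hmem p.1.2 p.2 hp.2⟩)
      (fun p y hy => hb p.1 _ (hmem p.2 y hy))
      (fun p y hy i => by
        have := hd p.1 _ (hmem p.2 y hy) i.succ
        simpa only [G', Fin.cons_update] using this)
    let c : Z → (Fin (n + 1) →₀ ℕ) → ℂ := fun z a =>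
      (2 * π : ℝ)⁻¹ • ∫ θ in (0)..(2 * π), c' (z, θ) (Finsupp.tail a) * ((ζ θ) ^ a 0)⁻¹
    refine ⟨c, fun a => ?_, fun z a => ?_, fun z x hx => ?_⟩
    · refine (intervalIntegral.continuous_parametric_intervalIntegral_of_continuous' (μ := volume)
        (f := fun z θ => c' (z, θ) (Finsupp.tail a) * ((ζ θ) ^ a 0)⁻¹) ?_ _ _).const_smul ((2 * π : ℝ)⁻¹)
      show Continuous fun p : Z × ℝ => c' (p.1, p.2) (Finsupp.tail a) * ((ζ p.2) ^ a 0)⁻¹
      exact (hc'c _).mul ((((continuous_circleMap 0 R).comp continuous_snd).pow _).inv₀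
        fun p => pow_ne_zero _ (hζ0 p.2))
    · have hpos : 0 < mon (fun _ : Fin n => R) (Finsupp.tail a) := mon_pos (fun _ => hR) _
      have hle : ‖∫ θ in (0)..(2 * π), c' (z, θ) (Finsupp.tail a) * ((ζ θ) ^ a 0)⁻¹‖ ≤
          (B / mon (fun _ => R) (Finsupp.tail a) / R ^ a 0) * |2 * π - 0| := by
        refine intervalIntegral.norm_integral_le_of_norm_le_const fun θ _ => ?_
        rw [norm_mul, norm_inv, norm_pow, hζn, ← div_eq_mul_inv]
        gcongr
        rw [le_div_iff₀ hpos]
        exact hc'b _ _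
      rw [mon_cons, norm_smul, show (Fin.tail fun _ : Fin (n + 1) => R) = fun _ => R from rfl,
        Real.norm_eq_abs, abs_inv]
      rw [sub_zero] at hle
      refine (mul_le_mul_of_nonneg_right (mul_le_mul_of_nonneg_left hle (by positivity))
        (by positivity)).trans (le_of_eq ?_)
      field_simp
    · set w := x 0 with hwdef
      set y := Fin.tail x with hydef
      have hxn := mem_ball_zero_iff.1 hx
      have hw : ‖w‖ < R := lt_of_le_of_lt (norm_le_pi_norm x 0) hxn
      have hy : y ∈ ball (0 : Fin n → ℂ) R := mem_ball_zero_iff.2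
        (lt_of_le_of_lt ((pi_norm_le_iff_of_nonneg (norm_nonneg x)).2 fun i => norm_le_pi_norm x i.succ) hxn)
      have hxc : x = Fin.cons w y := (Fin.cons_self_tail x).symm
      let g : ℂ → ℂ := fun s => G z (Fin.cons s y)
      have hgc : ContinuousOn g (closedBall 0 R) :=
        hc.comp (f := fun s : ℂ => (z, (Fin.cons s y : Fin (n + 1) → ℂ)))
          (show Continuous fun s : ℂ => (z, (Fin.cons s y : Fin (n + 1) → ℂ)) from
            continuous_const.prodMk (continuous_pi (Fin.cases (by simp only [Fin.cons_zero]; exact continuous_id)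
              fun i => by simp only [Fin.cons_succ]; exact continuous_const))).continuousOn
          fun s hs => ⟨trivial, cons_mem_closedBall hR.le (mem_closedBall_zero_iff.1 hs) (ball_subset_closedBall hy)⟩
      have hgd : DifferentiableOn ℂ g (ball 0 R) := by
        have := hd z x (ball_subset_closedBall hx) 0
        rw [hxc] at this
        simpa only [Fin.update_cons_zero] using this
      have hcauchy : (∫ θ in (0)..(2 * π), ζ θ / (ζ θ - w) * g (ζ θ)) = (2 * π : ℝ) • g w := by
        have h1 := Complex.circleIntegral_sub_inv_smul_of_differentiable_on_off_countable Set.countable_empty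
          (mem_ball_zero_iff.2 hw) hgc (fun s hs => hgd.differentiableAt (isOpen_ball.mem_nhds hs.1))
        have h2 : (fun θ => deriv (circleMap 0 R) θ • ((circleMap 0 R θ - w)⁻¹ • g (circleMap 0 R θ))) =
            fun θ => Complex.I * (ζ θ / (ζ θ - w) * g (ζ θ)) := by
          funext θ
          rw [deriv_circleMap, smul_eq_mul, smul_eq_mul, hζ]
          ring
        rw [circleIntegral, h2, intervalIntegral.integral_const_mul, smul_eq_mul] at h1
        rw [Complex.real_smul]
        push_cast
        have := mul_left_cancel₀ Complex.I_ne_zero (h1.trans (show 2 * (π : ℂ) * Complex.I * g w =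
          Complex.I * (2 * π * g w) by ring))
        exact this
      let F : ℕ × (Fin n →₀ ℕ) → ℝ → ℂ := fun p θ => (w / ζ θ) ^ p.1 * (c' (z, θ) p.2 * mon y p.2)
      let bnd : ℕ × (Fin n →₀ ℕ) → ℝ := fun p => (‖w‖ / R) ^ p.1 * (B * mon (fun i => ‖y i‖ / R) p.2)
      have hq1 : ∀ i, ‖y i‖ / R < 1 := fun i => by
        rw [div_lt_one hR]
        exact lt_of_le_of_lt (norm_le_pi_norm y i) (mem_ball_zero_iff.1 hy)
      have hB : 0 ≤ B := (norm_nonneg _).trans (hb z 0 (mem_closedBall_self hR.le))
      have hbnd : Summable bnd :=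
        (summable_geometric_of_lt_one (by positivity) ((div_lt_one hR).2 hw)).mul_of_nonneg
          ((summable_mon _ (fun i => by positivity) hq1).mul_left B)
          (fun k => by positivity) fun a => mul_nonneg hB (mon_nonneg (fun i => by positivity) a)
      have hterm : ∀ p θ, ‖F p θ‖ ≤ bnd p := by
        intro p θ
        simp only [F, bnd, norm_mul, norm_pow, norm_div, hζn]
        refine mul_le_mul_of_nonneg_left ?_ (by positivity)
        rw [norm_mon, show (fun i => ‖y i‖) = fun i => (‖y i‖ / R) * R from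
          funext fun i => (div_mul_cancel₀ _ hR.ne').symm, mon_mul, mul_comm (mon _ _) (mon _ _), ← mul_assoc]
        exact mul_le_mul_of_nonneg_right (hc'b _ _) (mon_nonneg (fun i => by positivity) _)
      have hlim : ∀ θ, HasSum (fun p => F p θ) (ζ θ / (ζ θ - w) * g (ζ θ)) := by
        intro θ
        have hlt : ‖w / ζ θ‖ < 1 := by rw [norm_div, hζn]; exact (div_lt_one hR).2 hw
        have hgeo := hasSum_geometric_of_norm_lt_one hlt
        have heq : (1 - w / ζ θ)⁻¹ = ζ θ / (ζ θ - w) := by
          rw [one_sub_div (hζ0 θ), inv_div]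
        rw [heq] at hgeo
        have hs : Summable fun p : ℕ × (Fin n →₀ ℕ) => F p θ := Summable.of_norm_bounded hbnd fun p => hterm p θ
        exact HasSum.mul (α := ℂ) (f := fun k : ℕ => (w / ζ θ) ^ k)
          (g := fun a : Fin n →₀ ℕ => c' (z, θ) a * mon y a) hgeo (hc's (z, θ) y hy) hs
      have hmeas : ∀ p, AEStronglyMeasurable (F p) (volume.restrict (Set.uIoc (0 : ℝ) (2 * π))) := fun p => by
        refine Continuous.aestronglyMeasurable ?_
        have h1 : Continuous fun θ : ℝ => c' (z, θ) p.2 :=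
          (hc'c p.2).comp (f := fun θ : ℝ => (z, θ)) (continuous_const.prodMk continuous_id)
        have h2 : Continuous fun θ : ℝ => w / ζ θ :=
          Continuous.div (continuous_const) (continuous_circleMap 0 R) hζ0
        exact (h2.pow p.1).mul (h1.mul continuous_const)
      have hint := intervalIntegral.hasSum_integral_of_dominated_convergence (μ := volume)
        (a := (0 : ℝ)) (b := 2 * π) (F := F) (fun p _ => bnd p)
        hmeas
        (fun p => Filter.Eventually.of_forall fun θ _ => hterm p θ)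
        (Filter.Eventually.of_forall fun _ _ => hbnd) intervalIntegrable_const
        (Filter.Eventually.of_forall fun θ _ => hlim θ)
      rw [hcauchy] at hint
      have h2 := hint.const_smul ((2 * π : ℝ)⁻¹)
      rw [smul_smul, inv_mul_cancel₀ (by positivity), one_smul] at h2
      have h3 : HasSum (fun a => ((2 * π : ℝ)⁻¹) • ∫ θ in (0)..(2 * π), F (consEquiv' n a) θ) (g w) :=
        (consEquiv' n).hasSum_iff.2 h2
      have h4 : g w = G z x := by
        show G z (Fin.cons w y) = G z x
        rw [← hxc]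
      rw [← h4]
      refine h3.congr_fun fun a => ?_
      show c z a * mon x a = _
      simp only [c, F, consEquiv', Equiv.coe_fn_mk, smul_mul_assoc]
      rw [← intervalIntegral.integral_mul_const]
      congr 1
      refine intervalIntegral.integral_congr fun θ _ => ?_
      rw [mon_cons, div_pow, ← hwdef, ← hydef]
      ring

/-- A function differentiable near a point is near it the sum of a convergent power series. -/
theorem exists_series {n : ℕ} {G : (Fin n → ℂ) → ℂ} {z₀ : Fin n → ℂ}
    (hG : ∀ᶠ x in 𝓝 z₀, DifferentiableAt ℂ G x) :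
    ∃ (r : ℝ≥0) (f : Ser n), 0 < r ∧ mass (fun _ => r) f ≠ ⊤ ∧
      ∀ z : Fin n → ℂ, ‖z‖ ≤ r → G (z₀ + z) = evalS z f := by
  obtain ⟨R, hR, hball⟩ := nhds_basis_closedBall.eventually_iff.1 hG
  have hd : ∀ x ∈ closedBall (0 : Fin n → ℂ) R, DifferentiableAt ℂ (fun x => G (z₀ + x)) x := fun x hx => by
    have : DifferentiableAt ℂ G (z₀ + x) := hball (by simpa [dist_eq_norm] using hx)
    exact this.comp x (by fun_prop)
  have hcont : ContinuousOn (fun x => G (z₀ + x)) (closedBall 0 R) :=
    fun x hx => (hd x hx).continuousAt.continuousWithinAt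
  obtain ⟨B, hB⟩ := (isCompact_closedBall (0 : Fin n → ℂ) R).exists_bound_of_continuousOn hcont
  obtain ⟨c, -, hcb, hcs⟩ := exists_coeff n (Z := Unit) (fun _ x => G (z₀ + x)) R B hR
    (hcont.comp continuous_snd.continuousOn fun p hp => hp.2) (fun _ x hx => hB x hx)
    (fun _ x hx i s hs => by
      refine DifferentiableAt.differentiableWithinAt ?_
      have hxm : update x i s ∈ closedBall (0 : Fin n → ℂ) R := by
        rw [mem_closedBall_zero_iff, pi_norm_le_iff_of_nonneg hR.le]
        intro j
        rcases eq_or_ne j i with rfl | h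
        · simpa using (mem_ball_zero_iff.1 hs).le
        · simpa [update_of_ne h] using (norm_le_pi_norm x j).trans (mem_closedBall_zero_iff.1 hx)
      refine (hd _ hxm).comp s (differentiableAt_pi.2 fun j => ?_)
      rcases eq_or_ne j i with rfl | h
      · simpa only [update_self] using differentiableAt_fun_id
      · simp only [update_of_ne h]; exact differentiableAt_const _)
  let r : ℝ≥0 := ⟨R / 2, by positivity⟩
  let f : Ser n := fun a => c () a
  refine ⟨r, f, show (0 : ℝ) < R / 2 by positivity, ?_, fun z hz => ?_⟩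
  · refine ENNReal.tsum_coe_ne_top_iff_summable.2 (NNReal.summable_coe.1 ?_)
    refine Summable.of_nonneg_of_le (fun _ => NNReal.coe_nonneg _) (fun a => ?_)
      ((summable_mon (fun _ : Fin n => (1 / 2 : ℝ)) (fun _ => by norm_num) (fun _ => by norm_num)).mul_left B)
    have h1 : ((mon (fun _ => r) a : ℝ≥0) : ℝ) = mon (fun _ => R) a * mon (fun _ => (1 / 2 : ℝ)) a := by
      rw [← mon_mul]
      simp [mon, r, div_eq_mul_inv, mul_comm]
      rfl
    push_cast
    rw [h1, ← mul_assoc]
    exact mul_le_mul_of_nonneg_right (hcb () a) (mon_nonneg (fun _ => by norm_num) _)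
  · exact ((hcs () z (mem_ball_zero_iff.2 (hz.trans_lt (show R / 2 < R by linarith)))).tsum_eq).symm

end Groth.Agent.An92
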