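import Groth.Agent.An92.Germ.Flat

/-!
Functoriality of the comparison of local rings.
-/

set_option autoImplicit false

noncomputable section

open AlgebraicGeometry CategoryTheory TopologicalSpace Topology Filter

namespace Groth.Agent.An92

open An An.Pts

variable {X Y : Scheme.{0}} [X.Over SC] [Y.Over SC] (f : X ⟶ Y) [f.IsOver SC]

/-- The map of analytic local rings induced by a morphism. -/
abbrev anMapStalk (x : Pts X) :
    (anSpace Y).presheaf.stalk (Pts.map f x) →+* (anSpace X).presheaf.stalk x :=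
  (PresheafedSpace.Hom.stalkMap (anMap f) x).hom

/-- The algebraic stalk map at a complex point. -/
abbrev ptStalk (x : Pts X) : Y.presheaf.stalk (Pts.map f x).pt →+* X.presheaf.stalk x.pt :=
  (f.stalkMap x.pt).hom

theorem toGerm_anMapStalk (x : Pts X) (b : (anSpace Y).presheaf.stalk (Pts.map f x)) :
    toGerm x (anMapStalk f x b) =
      Germ.compTendsto (toGerm (Pts.map f x) b) (Pts.map f) ((Pts.continuous_map f).tendsto x) := by
  obtain ⟨V, hV, g, rfl⟩ := (anSpace Y).presheaf.exists_germ_eq b
  have h := congrArg (fun k => (CommRingCat.Hom.hom k) g)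
    (PresheafedSpace.stalkMap_germ (anMap f) V x hV)
  refine (congrArg (toGerm x) h).trans ?_
  refine (toGerm_germ x _ _ _).trans ?_
  rw [show toGerm (Pts.map f x) ((anSpace Y).presheaf.germ V (Pts.map f x) hV g) =
    funGerm (Pts.map f x) hV g.1 from toGerm_germ _ V hV g]
  refine funGerm_eq_coe x _ _ (fun y => extFun g.1 (Pts.map f y)) (Eventually.of_forall fun y hy => ?_)
  exact (extFun_of_mem g.1 hy).symm

theorem anMapStalk_comp (x : Pts X) :
    (anMapStalk f x).comp (anStalkMap (Pts.map f x)) = (anStalkMap x).comp (ptStalk f x) := by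
  classical
  refine RingHom.ext fun a => toGerm_injective x ?_
  obtain ⟨U, hU, g, rfl⟩ := Y.presheaf.exists_germ_eq a
  rw [RingHom.comp_apply, RingHom.comp_apply, toGerm_anMapStalk,
    show toGerm (Pts.map f x) (anStalkMap (Pts.map f x) (Y.presheaf.germ U (Pts.map f x).pt hU g)) =
        ((fun y => if h : y.pt ∈ U then y.ev U h g else 0 : Pts Y → ℂ) : Germ (𝓝 (Pts.map f x)) ℂ) from
      toGerm_stalkMap (Pts.map f x) U hU g _ (Eventually.of_forall fun y hy => by rw [dif_pos hy])]
  have hg : ptStalk f x (Y.presheaf.germ U (Pts.map f x).pt hU g) =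
      X.presheaf.germ (f ⁻¹ᵁ U) x.pt hU (f.app U g) :=
    congrArg (fun k => (CommRingCat.Hom.hom k) g) (Scheme.Hom.germ_stalkMap f U x.pt hU)
  rw [hg]
  refine (toGerm_stalkMap x (f ⁻¹ᵁ U) hU (f.app U g)
    (fun y => if h : (Pts.map f y).pt ∈ U then (Pts.map f y).ev U h g else 0)
    (Eventually.of_forall fun y hy => ?_)).symm
  have h : (Pts.map f y).pt ∈ U := by rw [pt_map]; exact hy
  rw [dif_pos h, ev_map]

variable [LocallyOfFiniteType (X ↘ SC)] [LocallyOfFiniteType (Y ↘ SC)]

theorem map_maximalIdeal_le (x : Pts X) :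
    letI := isLocalRing_anStalk x
    letI := isLocalRing_anStalk (Pts.map f x)
    IsLocalHom (anMapStalk f x) := by
  let := isLocalRing_anStalk x
  let := isLocalRing_anStalk (Pts.map f x)
  refine ⟨fun b hb => by_contra fun hne => ?_⟩
  have hb0 : anValue (Pts.map f x) b = 0 :=
    by_contra fun h => hne (isUnit_of_anValue_ne_zero _ h)
  refine (hb.map (anValue x)).ne_zero ?_
  obtain ⟨G, hG⟩ : ∃ G : Pts Y → ℂ, toGerm (Pts.map f x) b = (G : Germ (𝓝 (Pts.map f x)) ℂ) := by
    induction toGerm (Pts.map f x) b using Germ.inductionOn with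
    | h G => exact ⟨G, rfl⟩
  rw [anValue_eq x ((toGerm_anMapStalk f x b).trans (by rw [hG]; rfl)) ]
  rw [anValue_eq _ hG] at hb0
  exact hb0

end Groth.Agent.An92
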