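import Groth.Agent.An92.Germ.Deriv
import Mathlib.RingTheory.RegularLocalRing.Defs
import Mathlib.RingTheory.KrullDimension.Basic

/-!
The ring of germs of holomorphic functions is a regular local ring of dimension `n`.
-/

set_option autoImplicit false

noncomputable section

open Filter Metric IsLocalRing
open scoped NNReal ENNReal Topology

namespace Groth.Agent.An92.holGerm

variable {n : ℕ}

instance : IsNoetherianRing (holGerm n) := isNoetherianRing n

theorem eq_zero_or_eq_zero {φ ψ : holGerm n} (h : φ * ψ = 0) : φ = 0 ∨ ψ = 0 := by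
  obtain ⟨F, hF, rfl⟩ := exists_rep φ
  obtain ⟨G, hG, rfl⟩ := exists_rep ψ
  have h0 : ∀ᶠ x in 𝓝 0, F x * G x = 0 := Germ.coe_eq.1 (congrArg Subtype.val h)
  obtain ⟨ε, hε, hb⟩ := eventually_nhds_iff_ball.1 ((hF.and hG).and h0)
  by_cases hz : ∀ x ∈ ball (0 : Fin n → ℂ) ε, F x = 0
  · exact Or.inl (Subtype.ext (Germ.coe_eq.2 ((isOpen_ball.eventually_mem (mem_ball_self hε)).mono hz)))
  push Not at hz
  obtain ⟨a, ha, hFa⟩ := hz
  have hGa : ∀ᶠ x in 𝓝 a, G x = 0 := by
    filter_upwards [(hb a ha).1.1.continuousAt.eventually_ne hFa, isOpen_ball.mem_nhds ha] with x hx hxb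
    exact (mul_eq_zero.1 (hb x hxb).2).resolve_left hx
  refine Or.inr (Subtype.ext (Germ.coe_eq.2 ((isOpen_ball.eventually_mem (mem_ball_self hε)).mono fun z hz => ?_)))
  let c : ℂ → (Fin n → ℂ) := fun t => a + t • (z - a)
  have hc : Differentiable ℂ c := by fun_prop
  have hopen : IsOpen (c ⁻¹' ball (0 : Fin n → ℂ) ε) := isOpen_ball.preimage hc.continuous
  have hconv : Convex ℝ (c ⁻¹' ball (0 : Fin n → ℂ) ε) := by
    intro x hx y hy p q hp hq hpq
    have : c (p • x + q • y) = p • c x + q • c y := by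
      have hq' : q = 1 - p := by linarith
      subst hq'
      simp only [c, add_smul, smul_add, sub_smul, one_smul, smul_assoc]
      abel
    show c (p • x + q • y) ∈ ball (0 : Fin n → ℂ) ε
    rw [this]
    exact convex_ball (0 : Fin n → ℂ) ε hx hy hp hq hpq
  have han : AnalyticOnNhd ℂ (fun t => G (c t)) (c ⁻¹' ball (0 : Fin n → ℂ) ε) :=
    DifferentiableOn.analyticOnNhd (fun t ht => ((hb _ ht).1.2.comp t hc.differentiableAt).differentiableWithinAt) hopen
  have h1 : (fun t => G (c t)) =ᶠ[𝓝 (0 : ℂ)] 0 := by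
    have ht : Tendsto c (𝓝 0) (𝓝 a) := by
      simpa [c] using hc.continuous.tendsto 0
    exact ht.eventually hGa
  have h2 := han.eqOn_zero_of_preconnected_of_eventuallyEq_zero hconv.isPreconnected
    (show (0 : ℂ) ∈ c ⁻¹' ball (0 : Fin n → ℂ) ε by simpa [c] using ha) h1
    (show (1 : ℂ) ∈ c ⁻¹' ball (0 : Fin n → ℂ) ε by simpa [c] using hz)
  simpa [c] using h2

instance : IsDomain (holGerm n) :=
  have : NoZeroDivisors (holGerm n) := ⟨eq_zero_or_eq_zero⟩
  NoZeroDivisors.to_isDomain _

/-- Restriction to the subspace where the first `k` coordinates vanish. -/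
def killHom (k : ℕ) : holGerm n →+* holGerm n where
  toFun φ := ⟨Germ.compTendsto φ.1 (fun x i => if (i : ℕ) < k then 0 else x i)
      (Continuous.tendsto' (continuous_pi fun i => by split_ifs <;> fun_prop) _ _ (by ext i; simp)), by
    obtain ⟨F, hF, rfl⟩ := exists_rep φ
    have hd : Differentiable ℂ fun (x : Fin n → ℂ) (i : Fin n) => if (i : ℕ) < k then 0 else x i := fun x =>
      differentiableAt_pi.2 fun i => by split_ifs <;> fun_prop
    refine ⟨fun x => F (fun i => if (i : ℕ) < k then 0 else x i), rfl, ?_⟩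
    have : Tendsto (fun (x : Fin n → ℂ) (i : Fin n) => if (i : ℕ) < k then (0 : ℂ) else x i) (𝓝 0) (𝓝 0) :=
      hd.continuous.tendsto' _ _ (by ext i; simp)
    exact (this.eventually hF).mono fun x hx => hx.comp x hd.differentiableAt⟩
  map_one' := rfl
  map_zero' := rfl
  map_mul' φ ψ := by
    obtain ⟨F, hF, rfl⟩ := exists_rep φ
    obtain ⟨G, hG, rfl⟩ := exists_rep ψ
    rfl
  map_add' φ ψ := by
    obtain ⟨F, hF, rfl⟩ := exists_rep φ
    obtain ⟨G, hG, rfl⟩ := exists_rep ψ
    rfl

theorem killHom_killHom {k l : ℕ} (h : k ≤ l) (φ : holGerm n) : killHom l (killHom k φ) = killHom l φ := by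
  obtain ⟨F, hF, rfl⟩ := exists_rep φ
  refine Subtype.ext (Germ.coe_eq.2 (Eventually.of_forall fun x => ?_))
  show F _ = F _
  congr 1
  ext i
  dsimp only
  split_ifs <;> first | rfl | omega

theorem killHom_coord_eq_zero {k : ℕ} {i : Fin n} (h : (i : ℕ) < k) : killHom k (coord i) = 0 :=
  Subtype.ext (Germ.coe_eq.2 (Eventually.of_forall fun x => if_pos h))

theorem killHom_coord_ne_zero {k : ℕ} (i : Fin n) (h : ¬ (i : ℕ) < k) : killHom k (coord i) ≠ 0 := by
  intro h0
  have h1 : ∀ᶠ x in 𝓝 (0 : Fin n → ℂ), (if (i : ℕ) < k then 0 else x i) = 0 :=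
    Germ.coe_eq.1 (congrArg Subtype.val h0)
  obtain ⟨ε, hε, hb⟩ := eventually_nhds_iff_ball.1 h1
  have h2 := hb (fun _ => ((ε / 2 : ℝ) : ℂ)) (by
    rw [mem_ball_zero_iff, pi_norm_lt_iff hε]
    intro j
    rw [Complex.norm_real, Real.norm_of_nonneg (by linarith)]
    linarith)
  rw [if_neg h] at h2
  norm_cast at h2
  linarith

theorem ringKrullDim_ge (n : ℕ) : (n : WithBot ℕ∞) ≤ ringKrullDim (holGerm n) := by
  let P : Fin (n + 1) → PrimeSpectrum (holGerm n) := fun k =>
    ⟨RingHom.ker (killHom (n := n) k), RingHom.ker_isPrime _⟩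
  have hP : StrictMono P := by
    refine Fin.strictMono_iff_lt_succ.2 fun k => ?_
    refine lt_of_le_of_ne (fun φ hφ => ?_) fun he => ?_
    · show killHom ((k : ℕ) + 1) φ = 0
      rw [← killHom_killHom (Nat.le_succ k) φ, show killHom (k : ℕ) φ = 0 from hφ, map_zero]
    · have h1 : coord k ∈ (P k.succ).asIdeal := by
        show killHom ((k : ℕ) + 1) (coord k) = 0
        exact killHom_coord_eq_zero (Nat.lt_succ_self _)
      rw [← he] at h1
      exact killHom_coord_ne_zero k (lt_irrefl _) h1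
  exact Order.LTSeries.length_le_krullDim (LTSeries.mk n P hP)

instance : IsRegularLocalRing (holGerm n) := by
  refine IsRegularLocalRing.of_spanFinrank_maximalIdeal_le _ ((WithBot.coe_le_coe.2 (Nat.cast_le.2 ?_)).trans (ringKrullDim_ge n))
  rw [maximalIdeal_eq_span_coord]
  exact (Submodule.spanFinrank_span_le_ncard_of_finite (Set.finite_range _)).trans
    ((Set.ncard_range_of_injective (fun i j h => by
      by_contra hij
      have h1 := congrArg (killHom (n := n) 0) h
      have h2 := congrArg (deriv i) h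
      rw [← ofPoly_X, ← ofPoly_X, deriv_ofPoly, deriv_ofPoly, MvPolynomial.pderiv_X_self,
        MvPolynomial.pderiv_X_of_ne (Ne.symm hij), map_one, map_zero] at h2
      exact one_ne_zero h2)).trans (Nat.card_fin n)).le

theorem exists_sub_ofPoly_mem (φ : holGerm n) (k : ℕ) :
    ∃ g : MvPolynomial (Fin n) ℂ, φ - ofPoly g ∈ maximalIdeal (holGerm n) ^ k := by
  induction k generalizing φ with
  | zero => exact ⟨0, by simp⟩
  | succ k ih =>
    obtain ⟨g, hg⟩ := ih φ
    have : ∀ ψ ∈ maximalIdeal (holGerm n) ^ k, ∃ g, ψ - ofPoly g ∈ maximalIdeal (holGerm n) ^ (k + 1) := by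
      intro ψ hψ
      have hm : maximalIdeal (holGerm n) =
          (Ideal.span (Set.range (MvPolynomial.X : Fin n → MvPolynomial (Fin n) ℂ))).map ofPoly := by
        rw [maximalIdeal_eq_span_coord, Ideal.map_span, ← Set.range_comp]
        congr 1
        exact congrArg Set.range (funext fun i => (ofPoly_X i).symm)
      rw [hm, ← Ideal.map_pow, Ideal.map] at hψ
      induction hψ using Submodule.span_induction with
      | mem c hc =>
        obtain ⟨y, -, rfl⟩ := hc
        exact ⟨y, by simp⟩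
      | zero => exact ⟨0, by simp⟩
      | add p q _ _ hp hq =>
        obtain ⟨a, ha⟩ := hp
        obtain ⟨b, hb⟩ := hq
        exact ⟨a + b, by rw [map_add, add_sub_add_comm]; exact add_mem ha hb⟩
      | smul c p hpmem hp =>
        obtain ⟨a, ha⟩ := hp
        refine ⟨MvPolynomial.C (value c) * a, ?_⟩
        have hp' : p ∈ maximalIdeal (holGerm n) ^ k := by rw [hm, ← Ideal.map_pow]; exact hpmem
        rw [smul_eq_mul, map_mul, ofPoly_C, show c * p - const (value c) * ofPoly a =
          (c - const (value c)) * p + const (value c) * (p - ofPoly a) by ring]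
        exact add_mem (by rw [pow_succ']; exact Ideal.mul_mem_mul (sub_const_mem c) hp')
          (Ideal.mul_mem_left _ _ ha)
    obtain ⟨g', hg'⟩ := this _ hg
    exact ⟨g + g', by rw [map_add, ← sub_sub]; exact hg'⟩

end Groth.Agent.An92.holGerm
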