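import Groth.Agent.CAlg1.Regular
import Groth.Agent.CAlg1.Serre
import Groth.Agent.Jac77.Basic
import Groth.Agent.An92.Germ.Regular
import Groth.Prelude.Def_EGA4b

/-!
The fibres of a polynomial algebra inside the ring of germs of holomorphic functions are regular.
-/

set_option autoImplicit false

noncomputable section

open IsLocalRing

universe u

namespace Groth.Agent.An92

/-- Elements of a regular local ring independent modulo the square of the maximal ideal cut out a regular ring. -/
theorem regular_quotient_span : ∀ (r : ℕ) {L : Type u} [CommRing L] [IsRegularLocalRing L] (f : Fin r → L),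
    (∀ i, f i ∈ maximalIdeal L) →
    (∀ a : Fin r → L, ∑ i, a i * f i ∈ maximalIdeal L ^ 2 → ∀ i, a i ∈ maximalIdeal L) →
    IsRegularLocalRing (L ⧸ Ideal.span (Set.range f))
  | 0, L, _, _, f, _, _ => by
    have : Ideal.span (Set.range f) = ⊥ := by simp
    exact IsRegularLocalRing.of_ringEquiv ((Ideal.quotEquivOfEq this).trans (RingEquiv.quotientBot L)).symm
  | r + 1, L, _, _, f, hf, hind => by
    classical
    have h2 : f 0 ∉ maximalIdeal L ^ 2 := fun h => by
      have := hind (Pi.single 0 1) (by
        rw [Finset.sum_eq_single 0 (fun j _ hj => by simp [hj]) (by simp)]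
        simpa using h) 0
      simp at this
    have hreg := (CAlg1.regular_quotient_singleton (hf 0) h2).1
    let q := Ideal.Quotient.mk (Ideal.span ({f 0} : Set L))
    have hmax : ∀ x, q x ∈ maximalIdeal (L ⧸ Ideal.span ({f 0} : Set L)) ↔ x ∈ maximalIdeal L := fun x => by
      rw [← CAlg1.comap_maximalIdeal_of_surjective q Ideal.Quotient.mk_surjective]; rfl
    have key : IsRegularLocalRing ((L ⧸ Ideal.span ({f 0} : Set L)) ⧸
        Ideal.span (Set.range fun i : Fin r => q (f i.succ))) := by
      refine regular_quotient_span r _ (fun i => (hmax _).2 (hf _)) fun a ha i => ?_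
      choose a' ha' using fun i => Ideal.Quotient.mk_surjective (a i)
      simp only [← ha'] at ha ⊢
      rw [hmax]
      rw [← Finset.sum_congr rfl (fun j _ => map_mul q (a' j) (f j.succ)), ← map_sum,
        CAlg1.maximalIdeal_quotient, ← Ideal.map_pow, ← Ideal.mem_comap,
        Ideal.comap_map_of_surjective' q Ideal.Quotient.mk_surjective, Ideal.mk_ker,
        Submodule.mem_sup] at ha
      obtain ⟨u, hu, v, hv, huv⟩ := ha
      obtain ⟨b, rfl⟩ := Ideal.mem_span_singleton'.1 hv
      have := hind (Fin.cons (-b) a') (by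
        rw [Fin.sum_univ_succ]
        simp only [Fin.cons_zero, Fin.cons_succ]
        rw [← huv, show -b * f 0 + (u + b * f 0) = u by ring]
        exact hu) i.succ
      simpa using this
    have hrange : Set.range f = {f 0} ∪ Set.range fun i : Fin r => f i.succ := by
      ext x; constructor
      · rintro ⟨i, rfl⟩
        refine Fin.cases (Or.inl rfl) (fun j => Or.inr ⟨j, rfl⟩) i
      · rintro (rfl | ⟨j, rfl⟩) <;> exact ⟨_, rfl⟩
    have hmap : Ideal.span (Set.range fun i : Fin r => q (f i.succ)) =
        (Ideal.span (Set.range fun i : Fin r => f i.succ)).map q := by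
      rw [Ideal.map_span, ← Set.range_comp]; rfl
    have heq : Ideal.span ({f 0} : Set L) ⊔ Ideal.span (Set.range fun i : Fin r => f i.succ) =
        Ideal.span (Set.range f) := by rw [← Ideal.span_union, hrange]
    exact IsRegularLocalRing.of_ringEquiv
      ((Ideal.quotEquivOfEq hmap).trans ((DoubleQuot.quotQuotEquivQuotSup _ _).trans (Ideal.quotEquivOfEq heq)))

/-- Fibres of `R → S` when `S` is a quotient of germs and `R` a localised quotient of polynomials, compatibly. -/
theorem isRegularLocalRing_fibLocRing {m : ℕ} {R S : Type} [CommRing R] [CommRing S] [Algebra R S]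
    (π : MvPolynomial (Fin m) ℂ →+* R) (θ : holGerm m →+* S) (hθ : Function.Surjective θ)
    (hcomm : ∀ g, θ (holGerm.ofPoly g) = algebraMap R S (π g))
    (hker : RingHom.ker θ ≤ (RingHom.ker π).map holGerm.ofPoly)
    (hfrac : ∀ r : R, ∃ a b, IsUnit (holGerm.ofPoly b) ∧ r * π b = π a)
    (q : Ideal S) [q.IsPrime] : IsRegularLocalRing (EGA4.FibLocRing R S q) := by
  classical
  let Q : Ideal (holGerm m) := q.comap θ
  let P : Ideal (MvPolynomial (Fin m) ℂ) := Q.comap holGerm.ofPoly
  have hPp : ∀ g, g ∈ P ↔ π g ∈ q.comap (algebraMap R S) := fun g => by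
    show θ (holGerm.ofPoly g) ∈ q ↔ algebraMap R S (π g) ∈ q
    rw [hcomm]
  obtain ⟨r, f, c, h, -, hf, hdet, hh, hspan⟩ := Jac77.exists_minor_generators (R := ℂ) P fun z hz => by
    by_contra hne
    exact Ideal.IsPrime.ne_top' (P.eq_top_of_isUnit_mem hz ((IsUnit.mk0 z hne).map MvPolynomial.C))
  have hdetQ : holGerm.ofPoly (Matrix.of fun i j => MvPolynomial.pderiv (c j) (f i)).det ∉ Q := hdet
  let L := Localization.AtPrime Q
  let W := EGA4.FibLocRing R S q
  have : IsRegularLocalRing L := CAlg1.regular_localization (holGerm m) Q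
  have hreg : IsRegularLocalRing (L ⧸ Ideal.span (Set.range fun i => algebraMap (holGerm m) L (holGerm.ofPoly (f i)))) := by
    refine regular_quotient_span r _ (fun i => ?_) fun a ha => ?_
    · rw [← Localization.AtPrime.map_eq_maximalIdeal]
      exact Ideal.mem_map_of_mem _ (hf i)
    obtain ⟨b, hb⟩ := IsLocalization.exist_integer_multiples Q.primeCompl Finset.univ a
    choose a' ha' using fun i => hb i (Finset.mem_univ i)
    have hsum : algebraMap (holGerm m) L (∑ i, a' i * holGerm.ofPoly (f i)) ∈ maximalIdeal L ^ 2 := by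
      rw [map_sum]
      simp only [map_mul, ha', Algebra.smul_def, mul_assoc]
      rw [← Finset.mul_sum]
      exact Ideal.mul_mem_left _ _ ha
    rw [← Localization.AtPrime.map_eq_maximalIdeal, ← Ideal.map_pow,
      IsLocalization.mem_map_algebraMap_iff Q.primeCompl L] at hsum
    obtain ⟨⟨⟨e, he⟩, ⟨s, hs⟩⟩, hes⟩ := hsum
    rw [← map_mul] at hes
    obtain ⟨⟨t, ht⟩, htes⟩ := IsLocalization.exists_of_eq (M := Q.primeCompl) hes
    have hts : t * s ∉ Q := Ideal.IsPrime.mul_notMem inferInstance ht hs
    have hmem : (t * s) * (∑ i, a' i * holGerm.ofPoly (f i)) ∈ Q ^ 2 := by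
      rw [show t * s * (∑ i, a' i * holGerm.ofPoly (f i)) = t * ((∑ i, a' i * holGerm.ofPoly (f i)) * s) by ring]
      exact htes ▸ Ideal.mul_mem_left _ _ he
    have hderiv : ∀ l, ∀ z ∈ Q ^ 2, holGerm.deriv l z ∈ Q := by
      intro l z hz
      rw [pow_two] at hz
      induction hz using Submodule.mul_induction_on' with
      | mem_mul_mem x hx y hy =>
        rw [holGerm.deriv_mul]
        exact add_mem (Ideal.mul_mem_left _ _ hy) (Ideal.mul_mem_right _ _ hx)
      | add x _ y _ hx hy => rw [holGerm.deriv_add]; exact add_mem hx hy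
    have hlin : ∀ l, ∑ i, a' i * holGerm.ofPoly (MvPolynomial.pderiv l (f i)) ∈ Q := by
      intro l
      have h1 := hderiv l _ hmem
      rw [holGerm.deriv_mul] at h1
      have hfQ : ∑ i, a' i * holGerm.ofPoly (f i) ∈ Q := Ideal.sum_mem _ fun i _ => Ideal.mul_mem_left _ _ (hf i)
      have h2 := (Q.add_mem_iff_right (Ideal.mul_mem_left _ _ hfQ)).1 h1
      have h3 := (Ideal.IsPrime.mem_or_mem inferInstance h2).resolve_left hts
      have hds : ∀ (s : Finset (Fin r)), holGerm.deriv l (∑ i ∈ s, a' i * holGerm.ofPoly (f i)) =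
          (∑ i ∈ s, holGerm.deriv l (a' i) * holGerm.ofPoly (f i)) +
            ∑ i ∈ s, a' i * holGerm.ofPoly (MvPolynomial.pderiv l (f i)) := by
        intro s
        induction s using Finset.induction_on with
        | empty =>
          simp only [Finset.sum_empty, add_zero]
          rw [← map_zero holGerm.ofPoly, holGerm.deriv_ofPoly, map_zero, map_zero]
        | insert i s hi ih =>
          rw [Finset.sum_insert hi, Finset.sum_insert hi, Finset.sum_insert hi, holGerm.deriv_add,
            holGerm.deriv_mul, holGerm.deriv_ofPoly, ih]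
          ring
      rw [hds] at h3
      exact (Q.add_mem_iff_right (Ideal.sum_mem _ fun i _ => Ideal.mul_mem_left _ _ (hf i))).1 h3
    have hQ' : ∀ i, a' i ∈ Q := by
      let M : Matrix (Fin r) (Fin r) (holGerm m ⧸ Q) :=
        (Matrix.of fun i j => MvPolynomial.pderiv (c j) (f i)).map ((Ideal.Quotient.mk Q).comp holGerm.ofPoly)
      have hM : M.det ≠ 0 := by
        have : M.det = Ideal.Quotient.mk Q (holGerm.ofPoly (Matrix.of fun i j => MvPolynomial.pderiv (c j) (f i)).det) :=
          (RingHom.map_det ((Ideal.Quotient.mk Q).comp holGerm.ofPoly) _).symm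
        rwa [this, ne_eq, Ideal.Quotient.eq_zero_iff_mem]
      have hv : Matrix.vecMul (fun i => Ideal.Quotient.mk Q (a' i)) M = 0 := by
        funext j
        have := Ideal.Quotient.eq_zero_iff_mem.2 (hlin (c j))
        rw [map_sum] at this
        simpa [Matrix.vecMul, dotProduct, M] using this
      have h0 := Matrix.eq_zero_of_vecMul_eq_zero hM hv
      exact fun i => Ideal.Quotient.eq_zero_iff_mem.1 (congrFun h0 i)
    intro i
    have h1 : algebraMap (holGerm m) L (a' i) ∈ maximalIdeal L := by
      rw [← Localization.AtPrime.map_eq_maximalIdeal]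
      exact Ideal.mem_map_of_mem _ (hQ' i)
    rw [ha', Algebra.smul_def] at h1
    exact (Ideal.IsPrime.mem_or_mem inferInstance h1).resolve_left fun hm =>
      (mem_maximalIdeal _).1 hm (IsLocalization.map_units L b)
  let φ : L →+* W := (Ideal.Quotient.mk _).comp (Localization.localRingHom Q q θ rfl)
  have hφ : Function.Surjective φ := by
    intro w
    obtain ⟨y, rfl⟩ := Ideal.Quotient.mk_surjective w
    obtain ⟨⟨s, ⟨u, hu⟩⟩, hy⟩ := IsLocalization.surj q.primeCompl y
    obtain ⟨s, rfl⟩ := hθ s
    obtain ⟨u, rfl⟩ := hθ u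
    refine ⟨IsLocalization.mk' L s (⟨u, hu⟩ : Q.primeCompl), ?_⟩
    show Ideal.Quotient.mk _ (Localization.localRingHom Q q θ rfl _) = _
    rw [Localization.localRingHom_mk']
    congr 1
    exact IsLocalization.mk'_eq_iff_eq_mul.2 hy.symm
  have hkerφ : RingHom.ker φ = Ideal.span (Set.range fun i => algebraMap (holGerm m) L (holGerm.ofPoly (f i))) := by
    refine le_antisymm (fun x hx => ?_) ?_
    · obtain ⟨t, ⟨u, hu⟩, rfl⟩ := IsLocalization.exists_mk'_eq Q.primeCompl x
      rw [RingHom.mem_ker] at hx
      change Ideal.Quotient.mk _ (Localization.localRingHom Q q θ rfl _) = 0 at hx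
      rw [Localization.localRingHom_mk', Ideal.Quotient.eq_zero_iff_mem, IsLocalization.mk'_mem_iff,
        IsScalarTower.algebraMap_eq R S (Localization.AtPrime q), ← Ideal.map_map,
        IsLocalization.mem_map_algebraMap_iff q.primeCompl] at hx
      obtain ⟨⟨⟨e, he⟩, ⟨v, hv⟩⟩, hev⟩ := hx
      rw [← map_mul] at hev
      obtain ⟨⟨w, hw⟩, hwev⟩ := IsLocalization.exists_of_eq (M := q.primeCompl) hev
      have he' : e ∈ (P.map holGerm.ofPoly).map θ := by
        refine (Ideal.map_le_iff_le_comap.2 fun z hz => ?_) he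
        obtain ⟨a, b, hb, hab⟩ := hfrac z
        have ha : a ∈ P := by rw [hPp, ← hab]; exact Ideal.mul_mem_right _ _ hz
        have hb' : IsUnit (algebraMap R S (π b)) := by rw [← hcomm]; exact hb.map θ
        rw [Ideal.mem_comap, ← Ideal.mul_unit_mem_iff_mem _ hb', ← map_mul, hab, ← hcomm]
        exact Ideal.mem_map_of_mem _ (Ideal.mem_map_of_mem _ ha)
      obtain ⟨v, rfl⟩ := hθ v
      obtain ⟨w, rfl⟩ := hθ w
      obtain ⟨e', he'', rfl⟩ := (Ideal.mem_map_iff_of_surjective θ hθ).1 he'
      have hI : (RingHom.ker π).map holGerm.ofPoly ≤ P.map holGerm.ofPoly := Ideal.map_mono fun z hz => by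
        rw [hPp, Ideal.mem_comap, RingHom.mem_ker.1 hz, map_zero]; exact zero_mem _
      have hmem : w * v * t ∈ P.map holGerm.ofPoly := by
        have h1 : w * v * t - w * e' ∈ RingHom.ker θ := by
          rw [RingHom.mem_ker, map_sub, map_mul, map_mul, map_mul, ← hwev]; ring
        have := add_mem (hI (hker h1)) (Ideal.mul_mem_left _ w he'')
        rwa [sub_add_cancel] at this
      have hspan' : P.map holGerm.ofPoly ≤ ((Ideal.span (Set.range f)).map holGerm.ofPoly).colon {holGerm.ofPoly h} := by
        refine Ideal.map_le_iff_le_comap.2 fun z hz => ?_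
        rw [Ideal.mem_comap, Submodule.mem_colon_singleton, smul_eq_mul, mul_comm, ← map_mul]
        exact Ideal.mem_map_of_mem _ (hspan z hz)
      have h2 := Submodule.mem_colon_singleton.1 (hspan' hmem)
      have hrw : Ideal.span (Set.range fun i => algebraMap (holGerm m) L (holGerm.ofPoly (f i))) =
          ((Ideal.span (Set.range f)).map holGerm.ofPoly).map (algebraMap (holGerm m) L) := by
        rw [Ideal.map_span, Ideal.map_span, ← Set.range_comp, ← Set.range_comp]; rfl
      rw [hrw, IsLocalization.mk'_mem_iff, IsLocalization.mem_map_algebraMap_iff Q.primeCompl L]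
      refine ⟨⟨⟨_, h2⟩, ⟨w * v * holGerm.ofPoly h, ?_⟩⟩, ?_⟩
      · exact Ideal.IsPrime.mul_notMem (I := Q) inferInstance (Ideal.IsPrime.mul_notMem inferInstance hw hv) hh
      · rw [← map_mul]; congr 1; simp only [smul_eq_mul]; ring
    · rw [Ideal.span_le]
      rintro _ ⟨i, rfl⟩
      show φ _ = 0
      change Ideal.Quotient.mk _ (Localization.localRingHom Q q θ rfl _) = 0
      rw [Localization.localRingHom_to_map, Ideal.Quotient.eq_zero_iff_mem, hcomm,
        ← IsScalarTower.algebraMap_apply]
      exact Ideal.mem_map_of_mem _ ((hPp _).1 (hf i))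
  let e : (L ⧸ Ideal.span (Set.range fun i => algebraMap (holGerm m) L (holGerm.ofPoly (f i)))) ≃+* W :=
    (Ideal.quotEquivOfEq hkerφ.symm).trans (RingHom.quotientKerEquivOfSurjective hφ)
  exact @IsRegularLocalRing.of_ringEquiv _ _ hreg W _ e

end Groth.Agent.An92
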