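import Groth.Agent.An92.Germ.Functorial
import Groth.Agent.An92.UnramPts

/-!
Unramifiedness in terms of the analytic local rings.
-/

set_option autoImplicit false

noncomputable section

open AlgebraicGeometry CategoryTheory IsLocalRing

namespace Groth.Agent.An92

open An An.Pts

variable {X Y : Scheme.{0}} [X.Over SC] [Y.Over SC] (f : X ⟶ Y) [f.IsOver SC]
  [LocallyOfFiniteType (X ↘ SC)] [LocallyOfFiniteType (Y ↘ SC)]

theorem map_maximalIdeal_iff [IsReduced X] (x : Pts X) :
    (maximalIdeal (Y.presheaf.stalk (Pts.map f x).pt)).map (ptStalk f x) = maximalIdeal (X.presheaf.stalk x.pt) ↔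
      ((maximalIdeal (Y.presheaf.stalk (Pts.map f x).pt)).map (anStalkMap (Pts.map f x))).map (anMapStalk f x) =
        (maximalIdeal (X.presheaf.stalk x.pt)).map (anStalkMap x) := by
  rw [Ideal.map_map, anMapStalk_comp, ← Ideal.map_map]
  refine ⟨fun h => congrArg (Ideal.map (anStalkMap x)) h, fun h => ?_⟩
  let : Algebra (X.presheaf.stalk x.pt) ((anSpace X).presheaf.stalk x) := (anStalkMap x).toAlgebra
  have := isLocalRing_anStalk x
  have : IsLocalHom (algebraMap (X.presheaf.stalk x.pt) ((anSpace X).presheaf.stalk x)) := isLocalHom_anStalkMap x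
  have : Module.Flat (X.presheaf.stalk x.pt) ((anSpace X).presheaf.stalk x) := flat_anStalkMap x
  have : Module.FaithfullyFlat (X.presheaf.stalk x.pt) ((anSpace X).presheaf.stalk x) :=
    Module.FaithfullyFlat.of_flat_of_isLocalHom
  exact Ideal.map_injective_of_faithfullyFlat h

theorem formallyUnramified_iff_anStalk [IsReduced X] :
    FormallyUnramified f ↔ ∀ (x : Pts X) (m : Ideal ((anSpace X).presheaf.stalk x)), m.IsMaximal →
      ∃ m' : Ideal ((anSpace Y).presheaf.stalk (Pts.map f x)), m'.IsMaximal ∧ m'.map (anMapStalk f x) = m := by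
  rw [formallyUnramified_iff_pts]
  refine forall_congr' fun x => Iff.trans (map_maximalIdeal_iff f x) ?_
  constructor
  · intro h m hm
    exact ⟨_, isMaximal_map (Pts.map f x), h.trans (eq_map_of_isMaximal x m hm).symm⟩
  · intro h
    obtain ⟨m', hm', h'⟩ := h _ (isMaximal_map x)
    rwa [eq_map_of_isMaximal (Pts.map f x) m' hm'] at h'

end Groth.Agent.An92
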