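import Groth.Agent.An92.Germ.OrderPoly
import Groth.Agent.An92.Conn.Domain
import Mathlib.RingTheory.Filtration
import Mathlib.RingTheory.Ideal.MinimalPrime.Noetherian

/-!
A regular function vanishing to high metric order at a complex point lies in a high power of the
maximal ideal.
-/

set_option autoImplicit false

noncomputable section

open Filter Topology Polynomial
open scoped nonZeroDivisors IntermediateField

namespace Groth.Agent.An92

theorem exists_lipschitz_eval {n : ℕ} (f : MvPolynomial (Fin n) ℂ) (w : Fin n → ℂ) :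
    ∃ C : ℝ, 0 ≤ C ∧ ∀ z ∈ Metric.closedBall w 1,
      ‖MvPolynomial.eval z f - MvPolynomial.eval w f‖ ≤ C * ‖z - w‖ ∧ ‖MvPolynomial.eval z f‖ ≤ C := by
  induction f using MvPolynomial.induction_on with
  | C a => exact ⟨‖a‖, norm_nonneg _, fun z _ => ⟨by simp; positivity, by simp⟩⟩
  | add f g hf hg =>
    obtain ⟨C, hC, hCb⟩ := hf
    obtain ⟨C', hC', hCb'⟩ := hg
    refine ⟨C + C', by positivity, fun z hz => ⟨?_, ?_⟩⟩
    · rw [map_add, map_add, add_sub_add_comm, add_mul]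
      exact (norm_add_le _ _).trans (add_le_add (hCb z hz).1 (hCb' z hz).1)
    · rw [map_add]
      exact (norm_add_le _ _).trans (add_le_add (hCb z hz).2 (hCb' z hz).2)
  | mul_X f i hf =>
    obtain ⟨C, hC, hCb⟩ := hf
    refine ⟨C * (‖w‖ + 1) + C, by positivity, fun z hz => ?_⟩
    have hzi : ‖z i‖ ≤ ‖w‖ + 1 := by
      have h1 := norm_le_pi_norm (z - w) i
      rw [mem_closedBall_iff_norm] at hz
      have := norm_le_norm_add_norm_sub' (z i) (w i)
      have h2 := norm_le_pi_norm w i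
      have h3 : (z - w) i = z i - w i := rfl
      rw [h3] at h1
      linarith
    obtain ⟨h1, h2⟩ := hCb z hz
    refine ⟨?_, ?_⟩
    · rw [map_mul, map_mul, MvPolynomial.eval_X, MvPolynomial.eval_X,
        show MvPolynomial.eval z f * z i - MvPolynomial.eval w f * w i =
          (MvPolynomial.eval z f - MvPolynomial.eval w f) * z i + MvPolynomial.eval w f * (z i - w i) by ring]
      refine (norm_add_le _ _).trans ?_
      rw [norm_mul, norm_mul, add_mul, mul_right_comm C]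
      refine add_le_add (mul_le_mul h1 hzi (norm_nonneg _) (by positivity)) ?_
      exact mul_le_mul (hCb w (Metric.mem_closedBall_self zero_le_one)).2 (norm_le_pi_norm (z - w) i)
        (norm_nonneg _) hC
    · rw [map_mul, MvPolynomial.eval_X, norm_mul]
      linarith [mul_le_mul h2 hzi (norm_nonneg _) hC]

theorem exists_algHom_of_forall_relation {A : Type} [CommRing A] [Algebra ℂ A] {m : ℕ} (s : Fin m → A)
    (hs : Function.Surjective (MvPolynomial.aeval s : MvPolynomial (Fin m) ℂ →ₐ[ℂ] A)) (z : Fin m → ℂ)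
    (hz : ∀ P, MvPolynomial.aeval s P = 0 → MvPolynomial.eval z P = 0) :
    ∃ φ : A →ₐ[ℂ] ℂ, (fun j => φ (s j)) = z := by
  let π : MvPolynomial (Fin m) ℂ →ₐ[ℂ] A := MvPolynomial.aeval s
  let e := Ideal.quotientKerAlgEquivOfSurjective (f := π) hs
  let ev : MvPolynomial (Fin m) ℂ →ₐ[ℂ] ℂ := MvPolynomial.aeval z
  have hev : ∀ P ∈ RingHom.ker π, ev P = 0 := fun P hP => by
    show MvPolynomial.aeval z P = 0
    rw [MvPolynomial.aeval_eq_eval]
    exact hz P hP
  refine ⟨(Ideal.Quotient.liftₐ (RingHom.ker π) ev hev).comp e.symm.toAlgHom, funext fun j => ?_⟩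
  · have h1 : e.symm (s j) = Ideal.Quotient.mk _ (MvPolynomial.X j) := by
      rw [AlgEquiv.symm_apply_eq]
      show s j = MvPolynomial.aeval s (MvPolynomial.X j)
      rw [MvPolynomial.aeval_X]
    show Ideal.Quotient.liftₐ (RingHom.ker π) ev hev (e.symm (s j)) = z j
    rw [h1]
    exact MvPolynomial.aeval_X z j

theorem isClosed_range_coords {A : Type} [CommRing A] [Algebra ℂ A] {m : ℕ} (s : Fin m → A)
    (hs : Function.Surjective (MvPolynomial.aeval s : MvPolynomial (Fin m) ℂ →ₐ[ℂ] A)) :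
    IsClosed (Set.range fun (φ : A →ₐ[ℂ] ℂ) j => φ (s j)) := by
  have h : (Set.range fun (φ : A →ₐ[ℂ] ℂ) j => φ (s j)) =
      ⋂ P : {P : MvPolynomial (Fin m) ℂ // MvPolynomial.aeval s P = 0}, {z | MvPolynomial.eval z P.1 = 0} := by
    ext z
    simp only [Set.mem_iInter, Subtype.forall]
    refine ⟨?_, fun h => exists_algHom_of_forall_relation s hs z h⟩
    rintro ⟨φ, rfl⟩ P hP
    show MvPolynomial.eval _ P = 0
    rw [← apply_eq_eval, hP, map_zero]
  rw [h]
  exact isClosed_iInter fun P => isClosed_eq (MvPolynomial.continuous_eval _) continuous_const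

/-- A root of the specialised minimal polynomial extends to a complex point. -/
theorem exists_algHom_over {k : ℕ} {A : Type} [CommRing A] [IsDomain A] [Algebra ℂ A]
    [Algebra (MvPolynomial (Fin k) ℂ) A] [IsScalarTower ℂ (MvPolynomial (Fin k) ℂ) A]
    [Module.Finite (MvPolynomial (Fin k) ℂ) A] [FaithfulSMul (MvPolynomial (Fin k) ℂ) A]
    [Algebra.FiniteType ℂ A] (a : A) (z : Fin k → ℂ) (t : ℂ)
    (ht : (spec (minpoly (MvPolynomial (Fin k) ℂ) a) z).eval t = 0) :
    ∃ φ : A →ₐ[ℂ] ℂ, φ a = t ∧ ∀ b, φ (algebraMap _ A b) = MvPolynomial.eval z b := by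
  have : Algebra.IsIntegral (MvPolynomial (Fin k) ℂ) A := Algebra.IsIntegral.of_finite _ _
  have hint : IsIntegral (MvPolynomial (Fin k) ℂ) a := Algebra.IsIntegral.isIntegral a
  set P := minpoly (MvPolynomial (Fin k) ℂ) a with hPdef
  let ψ : AdjoinRoot P →+* ℂ := AdjoinRoot.lift (MvPolynomial.eval z) t (by rw [← eval_map]; exact ht)
  let ι : AdjoinRoot P →+* A := AdjoinRoot.lift (algebraMap (MvPolynomial (Fin k) ℂ) A) a (minpoly.aeval _ a)
  letI : Algebra (AdjoinRoot P) A := ι.toAlgebra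
  have : IsScalarTower (MvPolynomial (Fin k) ℂ) (AdjoinRoot P) A :=
    IsScalarTower.of_algebraMap_eq fun b => (AdjoinRoot.lift_of (minpoly.aeval _ a)).symm
  have : Algebra.IsIntegral (AdjoinRoot P) A := Algebra.IsIntegral.tower_top (MvPolynomial (Fin k) ℂ)
  have hψ : Function.Surjective ψ := fun c => ⟨AdjoinRoot.of P (MvPolynomial.C c), by simp [ψ]⟩
  have : (RingHom.ker ψ).IsMaximal := RingHom.ker_isMaximal_of_surjective ψ hψ
  have hker : RingHom.ker (algebraMap (AdjoinRoot P) A) ≤ RingHom.ker ψ := by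
    intro x hx
    obtain ⟨f, rfl⟩ := AdjoinRoot.mk_surjective x
    have h1 : Polynomial.aeval a f = 0 := by
      have : ι (AdjoinRoot.mk P f) = 0 := hx
      rwa [AdjoinRoot.lift_mk] at this
    obtain ⟨e, rfl⟩ := minpoly.isIntegrallyClosed_dvd hint h1
    rw [← hPdef, map_mul, AdjoinRoot.mk_self, zero_mul]
    exact (RingHom.ker ψ).zero_mem
  obtain ⟨Q, hQ, hQc⟩ := Ideal.exists_ideal_over_maximal_of_isIntegral (S := A) (RingHom.ker ψ) hker
  obtain ⟨φ, hφ⟩ := exists_algHom Q hQ.ne_top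
  have hext : ∀ x, φ (ι x) = ψ x := by
    intro x
    have hmem : x - AdjoinRoot.of P (MvPolynomial.C (ψ x)) ∈ RingHom.ker ψ := by
      rw [RingHom.mem_ker, map_sub]
      simp [ψ]
    rw [← hQc] at hmem
    have h0 : φ (ι (x - AdjoinRoot.of P (MvPolynomial.C (ψ x)))) = 0 := hφ _ hmem
    rw [map_sub, map_sub, sub_eq_zero,
      show ι (AdjoinRoot.of P (MvPolynomial.C (ψ x))) = algebraMap ℂ A (ψ x) from ?_] at h0
    · rw [h0]; exact φ.commutes _
    · rw [show ι (AdjoinRoot.of P _) = _ from AdjoinRoot.lift_of (minpoly.aeval _ a)]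
      exact (IsScalarTower.algebraMap_apply ℂ (MvPolynomial (Fin k) ℂ) A _).symm
  refine ⟨φ, ?_, fun b => ?_⟩
  · simpa [ι, ψ] using hext (AdjoinRoot.root P)
  · simpa [ι, ψ] using hext (AdjoinRoot.of P b)

/-- `a` vanishes to order at least `M` at `φ₀` on complex points. -/
def HasOrder {A : Type} [CommRing A] [Algebra ℂ A] {m : ℕ} (s : Fin m → A) (φ₀ : A →ₐ[ℂ] ℂ) (M : ℕ)
    (a : A) : Prop :=
  ∃ C : ℝ, ∀ᶠ w in 𝓝 (fun j => φ₀ (s j)), ∀ φ : A →ₐ[ℂ] ℂ, (fun j => φ (s j)) = w →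
    ‖φ a‖ ≤ C * ‖w - fun j => φ₀ (s j)‖ ^ M

theorem pi_norm_pow_le {m E : ℕ} (hE : E ≠ 0) {x : Fin m → ℂ} {c : ℝ} (hc : 0 ≤ c)
    (h : ∀ j, ‖x j‖ ^ E ≤ c) : ‖x‖ ^ E ≤ c := by
  rcases isEmpty_or_nonempty (Fin m) with hm | hm
  · rw [show x = 0 from Subsingleton.elim _ _, norm_zero, zero_pow hE]; exact hc
  · obtain ⟨j, hj⟩ := Finite.exists_max fun j => ‖x j‖
    exact (pow_le_pow_left₀ (norm_nonneg _)
      ((pi_norm_le_iff_of_nonneg (norm_nonneg _)).2 hj) E).trans (h j)

set_option maxHeartbeats 1000000 in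
theorem exists_order_domain {A : Type} [CommRing A] [IsDomain A] [Algebra ℂ A] {m : ℕ} (s : Fin m → A)
    (hs : Function.Surjective (MvPolynomial.aeval s : MvPolynomial (Fin m) ℂ →ₐ[ℂ] A))
    (φ₀ : A →ₐ[ℂ] ℂ) (n : ℕ) :
    ∃ M, ∀ a, HasOrder s φ₀ M a → ∃ u, φ₀ u ≠ 0 ∧ u * a ∈ RingHom.ker φ₀ ^ n := by
  classical
  have : Algebra.FiniteType ℂ A := Algebra.FiniteType.of_surjective _ hs
  have : IsNoetherianRing A := Algebra.FiniteType.isNoetherianRing ℂ A
  obtain ⟨k, g₁, hg₁inj, hg₁fin⟩ := exists_finite_inj_algHom_of_fg ℂ A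
  let c₀ : Fin k → ℂ := fun i => φ₀ (g₁ (MvPolynomial.X i))
  let T : MvPolynomial (Fin k) ℂ →ₐ[ℂ] MvPolynomial (Fin k) ℂ :=
    MvPolynomial.aeval fun i => MvPolynomial.X i - MvPolynomial.C (c₀ i)
  let T' : MvPolynomial (Fin k) ℂ →ₐ[ℂ] MvPolynomial (Fin k) ℂ :=
    MvPolynomial.aeval fun i => MvPolynomial.X i + MvPolynomial.C (c₀ i)
  have hTT' : ∀ p, T (T' p) = p := AlgHom.congr_fun
    (show T.comp T' = AlgHom.id ℂ _ from MvPolynomial.algHom_ext fun i => by simp [T, T'])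
  have hT'T : ∀ p, T' (T p) = p := AlgHom.congr_fun
    (show T'.comp T = AlgHom.id ℂ _ from MvPolynomial.algHom_ext fun i => by simp [T, T'])
  let g := g₁.comp T
  have hginj : Function.Injective g := hg₁inj.comp (Function.LeftInverse.injective hT'T)
  have hgfin : g.Finite := hg₁fin.comp (AlgHom.Finite.of_surjective (f := T) fun p => ⟨T' p, hTT' p⟩)
  have hg0 : ∀ p, φ₀ (g p) = MvPolynomial.eval 0 p := AlgHom.congr_fun
    (show φ₀.comp g = MvPolynomial.aeval (0 : Fin k → ℂ) from MvPolynomial.algHom_ext fun i => by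
      simp [g, T, c₀, ← MvPolynomial.algebraMap_eq])
  letI : Algebra (MvPolynomial (Fin k) ℂ) A := g.toRingHom.toAlgebra
  have : IsScalarTower ℂ (MvPolynomial (Fin k) ℂ) A :=
    IsScalarTower.of_algebraMap_eq fun c => (g.commutes c).symm
  have : Module.Finite (MvPolynomial (Fin k) ℂ) A := hgfin
  have hmap : ∀ b, algebraMap (MvPolynomial (Fin k) ℂ) A b = g b := fun _ => rfl
  have : FaithfulSMul (MvPolynomial (Fin k) ℂ) A := (faithfulSMul_iff_algebraMap_injective _ _).2 hginj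
  let F := FractionRing (MvPolynomial (Fin k) ℂ)
  let L := FractionRing A
  letI : Algebra F L := FractionRing.liftAlgebra _ _
  have : Algebra.IsIntegral (MvPolynomial (Fin k) ℂ) A := Algebra.IsIntegral.of_finite _ _
  have : FiniteDimensional F L :=
    Module.Finite.of_isLocalization (MvPolynomial (Fin k) ℂ) A (MvPolynomial (Fin k) ℂ)⁰
  have : CharZero F := charZero_of_injective_ringHom
    (((algebraMap (MvPolynomial (Fin k) ℂ) F).comp (algebraMap ℂ (MvPolynomial (Fin k) ℂ))).injective)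
  obtain ⟨α, hα⟩ := Field.exists_primitive_element F L
  obtain ⟨⟨a₀, ⟨_, r, hr, rfl⟩⟩, har⟩ :=
    IsLocalization.surj (Algebra.algebraMapSubmonoid A (MvPolynomial (Fin k) ℂ)⁰) α
  simp only at har
  have hr0 : algebraMap (MvPolynomial (Fin k) ℂ) F r ≠ 0 :=
    (map_ne_zero_iff _ (IsFractionRing.injective _ F)).2 (nonZeroDivisors.ne_zero hr)
  have hrL : algebraMap A L (algebraMap (MvPolynomial (Fin k) ℂ) A r) =
      algebraMap F L (algebraMap (MvPolynomial (Fin k) ℂ) F r) := by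
    rw [← IsScalarTower.algebraMap_apply, ← IsScalarTower.algebraMap_apply]
  have ha : F⟮algebraMap A L a₀⟯ = ⊤ := by
    rw [← top_le_iff, ← hα, IntermediateField.adjoin_simple_le_iff]
    have h1 : α = algebraMap A L a₀ * (algebraMap F L (algebraMap (MvPolynomial (Fin k) ℂ) F r))⁻¹ := by
      rw [eq_mul_inv_iff_mul_eq₀ ((_root_.map_ne_zero _).2 hr0), ← hrL]
      exact har
    rw [h1]
    exact mul_mem (IntermediateField.mem_adjoin_simple_self F _)
      (inv_mem (IntermediateField.algebraMap_mem _ _))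
  have hint : IsIntegral (MvPolynomial (Fin k) ℂ) a₀ := Algebra.IsIntegral.isIntegral a₀
  set P := minpoly (MvPolynomial (Fin k) ℂ) a₀ with hPdef
  have hP : P.Monic := minpoly.monic hint
  have hdeg : 0 < P.natDegree := minpoly.natDegree_pos hint
  have hPF : minpoly F (algebraMap A L a₀) = P.map (algebraMap _ F) :=
    minpoly.isIntegrallyClosed_eq_field_fractions F L hint
  obtain ⟨U, V, d, hd0, hbez⟩ : ∃ (U V : (MvPolynomial (Fin k) ℂ)[X]) (d : MvPolynomial (Fin k) ℂ),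
      d ≠ 0 ∧ U * P + V * derivative P = Polynomial.C d := by
    obtain ⟨u, v, huv⟩ := (separable_def' _).1
      (hPF ▸ (minpoly.irreducible (Algebra.IsIntegral.isIntegral (algebraMap A L a₀))).separable :
        (P.map (algebraMap _ F)).Separable)
    obtain ⟨bu, hbu, hu⟩ := IsLocalization.integerNormalization_spec (MvPolynomial (Fin k) ℂ)⁰ u
    obtain ⟨bv, hbv, hv⟩ := IsLocalization.integerNormalization_spec (MvPolynomial (Fin k) ℂ)⁰ v
    refine ⟨Polynomial.C bv * IsLocalization.integerNormalization (MvPolynomial (Fin k) ℂ)⁰ u,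
      Polynomial.C bu * IsLocalization.integerNormalization (MvPolynomial (Fin k) ℂ)⁰ v, bu * bv,
      mul_ne_zero (nonZeroDivisors.ne_zero hbu) (nonZeroDivisors.ne_zero hbv), ?_⟩
    refine map_injective _ (IsFractionRing.injective _ F) ?_
    simp only [Polynomial.map_add, Polynomial.map_mul, map_C, hu, hv, ← derivative_map,
      ← algebraMap_smul F bu, ← algebraMap_smul F bv, smul_eq_C_mul, map_mul]
    linear_combination (Polynomial.C (algebraMap _ F bu) * Polynomial.C (algebraMap _ F bv)) * huv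
  -- a uniform denominator
  have hgen : ∀ b : A, ∃ r : MvPolynomial (Fin k) ℂ, r ≠ 0 ∧
      ∃ q : (MvPolynomial (Fin k) ℂ)[X], algebraMap _ A r * b = Polynomial.aeval a₀ q := by
    intro b
    have h1 : algebraMap A L b ∈ (F⟮algebraMap A L a₀⟯).toSubalgebra := by rw [ha]; trivial
    rw [IntermediateField.adjoin_simple_toSubalgebra_of_isAlgebraic (Algebra.IsAlgebraic.isAlgebraic _),
      Algebra.adjoin_singleton_eq_range_aeval] at h1
    obtain ⟨q, hq⟩ := h1
    obtain ⟨r, hr, hrq⟩ := IsLocalization.integerNormalization_spec (MvPolynomial (Fin k) ℂ)⁰ q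
    refine ⟨r, nonZeroDivisors.ne_zero hr, IsLocalization.integerNormalization (MvPolynomial (Fin k) ℂ)⁰ q,
      IsFractionRing.injective A L ?_⟩
    rw [map_mul, ← IsScalarTower.algebraMap_apply, ← aeval_algebraMap_apply,
      ← aeval_map_algebraMap F, hrq, ← algebraMap_smul F r, map_smul, Algebra.smul_def,
      ← IsScalarTower.algebraMap_apply]
    exact congrArg _ hq.symm
  choose rA hrA qA hqA using hgen
  obtain ⟨Tgen, hTgen⟩ := (Module.Finite.fg_top : (⊤ : Submodule (MvPolynomial (Fin k) ℂ) A).FG)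
  set D₀ := ∏ l ∈ Tgen, rA l with hD₀
  have hD₀0 : D₀ ≠ 0 := Finset.prod_ne_zero_iff.2 fun l _ => hrA l
  have hden : ∀ b : A, ∃ q : (MvPolynomial (Fin k) ℂ)[X], algebraMap _ A D₀ * b = Polynomial.aeval a₀ q := by
    intro b
    have hb : b ∈ Submodule.span (MvPolynomial (Fin k) ℂ) (Tgen : Set A) := by rw [hTgen]; trivial
    refine Submodule.span_induction (fun l hl => ?_) ⟨0, by simp⟩ ?_ ?_ hb
    · refine ⟨Polynomial.C (∏ l' ∈ Tgen.erase l, rA l') * qA l, ?_⟩
      rw [map_mul, aeval_C, ← hqA, ← mul_assoc, ← map_mul, Finset.prod_erase_mul _ _ (Finset.mem_coe.1 hl)]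
    · rintro x y _ _ ⟨qx, hx⟩ ⟨qy, hy⟩
      exact ⟨qx + qy, by rw [mul_add, hx, hy, map_add]⟩
    · rintro c x _ ⟨qx, hx⟩
      exact ⟨c • qx, by rw [mul_smul_comm, hx, map_smul]⟩
  -- Artin-Rees
  set cden := algebraMap (MvPolynomial (Fin k) ℂ) A (d * D₀) with hcden
  have hcden0 : cden ≠ 0 := (map_ne_zero_iff _ hginj).2 (mul_ne_zero hd0 hD₀0)
  obtain ⟨k₀, hk₀⟩ := Ideal.exists_pow_inf_eq_pow_smul (RingHom.ker φ₀) (Ideal.span {cden} : Submodule A A)
  -- Hölder exponent
  choose Q hQm hQ0 using fun j => (Algebra.IsIntegral.isIntegral (R := MvPolynomial (Fin k) ℂ) (s j))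
  have hQd : ∀ j, 0 < (Q j).natDegree := fun j => by
    by_contra h
    have h1 := hQ0 j
    rw [(hQm j).natDegree_eq_zero.1 (Nat.eq_zero_of_not_pos h), eval₂_one] at h1
    exact one_ne_zero h1
  set E := (Finset.univ.sup fun j => (Q j).natDegree) + 1 with hE
  set kk := n + k₀
  refine ⟨E * kk, fun a ha' => ?_⟩
  obtain ⟨Ca, hCa⟩ := ha'
  set r₀ : Fin m → ℂ := fun j => φ₀ (s j) with hr₀
  -- every point near the origin is close to a point of the fibre
  let cand : Finset (Fin m → ℂ) := Fintype.piFinset fun j => (spec (Q j) 0).roots.toFinset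
  have hholder : ∃ C : ℝ, 0 ≤ C ∧ ∀ (φ : A →ₐ[ℂ] ℂ) (z : Fin k → ℂ),
      (∀ b, φ (algebraMap _ A b) = MvPolynomial.eval z b) → ‖z‖ ≤ 1 →
        ∃ r ∈ cand, ‖(fun j => φ (s j)) - r‖ ^ E ≤ C * ‖z‖ := by
    choose Cf hCf0 hCf using fun j i => exists_lipschitz_eval ((Q j).coeff i) (0 : Fin k → ℂ)
    let B : Fin m → ℝ := fun j => 1 + ∑ i ∈ Finset.range ((Q j).natDegree + 1), Cf j i
    have hB : ∀ j, 1 ≤ B j := fun j => le_add_of_nonneg_right (Finset.sum_nonneg fun i _ => hCf0 j i)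
    let Cj : Fin m → ℝ := fun j => (∑ i ∈ Finset.range ((Q j).natDegree + 1), Cf j i * B j ^ i) * (3 * B j) ^ E
    have hCj : ∀ j, 0 ≤ Cj j := fun j => mul_nonneg
      (Finset.sum_nonneg fun i _ => mul_nonneg (hCf0 j i) (pow_nonneg (zero_le_one.trans (hB j)) i))
      (pow_nonneg (by linarith [hB j]) _)
    refine ⟨∑ j, Cj j, Finset.sum_nonneg fun j _ => hCj j, fun φ z hφ hz => ?_⟩
    have hzb : z ∈ Metric.closedBall (0 : Fin k → ℂ) 1 := mem_closedBall_zero_iff.2 hz
    have hbound : ∀ j (w : Fin k → ℂ) (t : ℂ), w ∈ Metric.closedBall (0 : Fin k → ℂ) 1 →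
        (spec (Q j) w).eval t = 0 → ‖t‖ ≤ B j := fun j w t hw ht => by
      refine (norm_le_of_isRoot _ ((hQm j).map _) t ht).trans ?_
      show _ ≤ 1 + ∑ i ∈ Finset.range ((Q j).natDegree + 1), Cf j i
      rw [(hQm j).natDegree_map, Finset.sum_range_succ (fun i => Cf j i)]
      refine add_le_add le_rfl ((Finset.sum_le_sum fun i _ => ?_).trans (le_add_of_nonneg_right (hCf0 j _)))
      rw [coeff_map]
      exact (hCf j i w hw).2
    have hroot : ∀ j, (spec (Q j) z).eval (φ (s j)) = 0 := fun j => by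
      rw [← RingHom.coe_coe, ← aeval_eq_eval_spec (φ : A →+* ℂ) z hφ, aeval_def, hQ0, map_zero]
    have hnear : ∀ j, ∃ t, (spec (Q j) 0).eval t = 0 ∧ ‖φ (s j) - t‖ ^ E ≤ Cj j * ‖z‖ := by
      intro j
      obtain ⟨t, ht, ht'⟩ := exists_near (hQm j) (hQd j) 0 (φ (s j))
      refine ⟨t, ht, ?_⟩
      have hle : (Q j).natDegree ≤ E :=
        (Finset.le_sup (f := fun j => (Q j).natDegree) (Finset.mem_univ j)).trans (Nat.le_succ _)
      have h3 : ‖(spec (Q j) 0).eval (φ (s j))‖ ≤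
          (∑ i ∈ Finset.range ((Q j).natDegree + 1), Cf j i * B j ^ i) * ‖z‖ := by
        rw [← sub_zero ((spec (Q j) 0).eval (φ (s j))), ← hroot j, eval_spec, eval_spec, ← Finset.sum_sub_distrib,
          Finset.sum_mul]
        refine (norm_sum_le _ _).trans (Finset.sum_le_sum fun i _ => ?_)
        rw [← sub_mul, norm_mul, norm_sub_rev, norm_pow, mul_right_comm (Cf j i)]
        refine mul_le_mul ?_ (pow_le_pow_left₀ (norm_nonneg _) (hbound j z _ hzb (hroot j)) i) (by positivity)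
          (mul_nonneg (hCf0 j i) (norm_nonneg _))
        simpa using (hCf j i z hzb).1
      have hx : ‖φ (s j) - t‖ ≤ 3 * B j := by
        linarith [norm_sub_le (φ (s j)) t, hbound j z _ hzb (hroot j),
          hbound j 0 t (Metric.mem_closedBall_self zero_le_one) ht, hB j]
      rw [show E = (Q j).natDegree + (E - (Q j).natDegree) by omega, pow_add, mul_right_comm]
      refine mul_le_mul (ht'.trans h3) ((pow_le_pow_left₀ (norm_nonneg _) hx _).trans
        (pow_le_pow_right₀ (by linarith [hB j]) ?_)) (by positivity)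
        (mul_nonneg (Finset.sum_nonneg fun i _ => mul_nonneg (hCf0 j i) (pow_nonneg (zero_le_one.trans (hB j)) i))
          (norm_nonneg _))
      omega
    choose t ht ht' using hnear
    refine ⟨t, Fintype.mem_piFinset.2 fun j => Multiset.mem_toFinset.2
      ((mem_roots ((hQm j).map _).ne_zero).2 (ht j)),
      pi_norm_pow_le (by omega) (mul_nonneg (Finset.sum_nonneg fun j _ => hCj j) (norm_nonneg _)) fun j => ?_⟩
    exact (ht' j).trans (mul_le_mul_of_nonneg_right
      (Finset.single_le_sum (fun j _ => hCj j) (Finset.mem_univ j)) (norm_nonneg _))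
  obtain ⟨CH, hCH0, hCH⟩ := hholder
  choose Gi hGi using fun i : Fin k => hs (algebraMap _ A (MvPolynomial.X i : MvPolynomial (Fin k) ℂ))
  let Γ : Set ((Fin m → ℂ) × (Fin k → ℂ)) :=
    {p | p.1 ∈ Set.range (fun (φ : A →ₐ[ℂ] ℂ) j => φ (s j)) ∧ ∀ i, MvPolynomial.eval p.1 (Gi i) = p.2 i}
  have hΓ : IsClosed Γ := by
    refine IsClosed.inter ((isClosed_range_coords s hs).preimage continuous_fst) ?_
    show IsClosed {p : (Fin m → ℂ) × (Fin k → ℂ) | ∀ i, MvPolynomial.eval p.1 (Gi i) = p.2 i}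
    simp only [Set.setOf_forall]
    exact isClosed_iInter fun i => isClosed_eq ((MvPolynomial.continuous_eval _).comp continuous_fst)
      ((continuous_apply i).comp continuous_snd)
  have hΓmem : ∀ (φ : A →ₐ[ℂ] ℂ) (z : Fin k → ℂ), (∀ b, φ (algebraMap _ A b) = MvPolynomial.eval z b) →
      ((fun j => φ (s j)), z) ∈ Γ := by
    intro φ z hφ
    refine ⟨⟨φ, rfl⟩, fun i => ?_⟩
    show MvPolynomial.eval _ (Gi i) = z i
    rw [← apply_eq_eval, hGi, hφ, MvPolynomial.eval_X]
  let fib : Finset (Fin m → ℂ) := cand.filter fun r => (r, (0 : Fin k → ℂ)) ∈ Γ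
  have hsep' : ∀ r ∈ fib.erase r₀, ∃ l : A, φ₀ l = 1 ∧ ∃ Lp : MvPolynomial (Fin m) ℂ,
      MvPolynomial.aeval s Lp = l ∧ MvPolynomial.eval r Lp = 0 := by
    intro r hr
    obtain ⟨j, hj⟩ := Function.ne_iff.1 (Finset.mem_erase.1 hr).1
    refine ⟨_, ?_, (MvPolynomial.X j - MvPolynomial.C (r j)) * MvPolynomial.C (r₀ j - r j)⁻¹, rfl, by simp⟩
    rw [apply_eq_eval]
    simp only [map_mul, map_sub, MvPolynomial.eval_X, MvPolynomial.eval_C]
    exact mul_inv_cancel₀ (sub_ne_zero.2 (Ne.symm hj))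
  choose l hl Lp hLp hLpr using hsep'
  let Wp : MvPolynomial (Fin m) ℂ := ∏ r ∈ (fib.erase r₀).attach, Lp r.1 r.2
  set w := MvPolynomial.aeval s Wp with hw
  have hw0 : φ₀ w = 1 := by
    rw [hw, map_prod, map_prod]
    exact Finset.prod_eq_one fun r _ => by rw [hLp, hl]
  refine ⟨w ^ (E * kk), by rw [map_pow, hw0, one_pow]; exact one_ne_zero, ?_⟩
  set b := w ^ (E * kk) * a with hb
  obtain ⟨q₀, hq₀⟩ := hden b
  set q := q₀ %ₘ P with hqdef
  have hq : algebraMap _ A D₀ * b = Polynomial.aeval a₀ q := by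
    have hz : Polynomial.aeval a₀ P = 0 := minpoly.aeval _ a₀
    rw [hq₀]
    nth_rewrite 1 [← modByMonic_add_div q₀ P]
    rw [map_add, map_mul, hz, zero_mul, add_zero]
  have hqdeg : q.degree < P.degree := degree_modByMonic_lt _ hP
  obtain ⟨Ap, hAp⟩ := hs a
  -- local bound at each point of the fibre
  have hloc : ∀ r ∈ fib, ∃ C : ℝ, 0 ≤ C ∧ ∀ᶠ u in 𝓝 r, ∀ φ : A →ₐ[ℂ] ℂ, (fun j => φ (s j)) = u →
      ‖φ b‖ ≤ C * ‖u - r‖ ^ (E * kk) := by
    intro r hr
    obtain ⟨CW, hCW0, hCW⟩ := exists_lipschitz_eval Wp r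
    obtain ⟨CA, hCA0, hCA⟩ := exists_lipschitz_eval Ap r
    by_cases h : r = r₀
    · subst h
      refine ⟨CW ^ (E * kk) * |Ca|, by positivity, ?_⟩
      filter_upwards [hCa, Metric.closedBall_mem_nhds r₀ one_pos] with u hu hu1 φ hφ
      rw [hb, map_mul, map_pow, norm_mul, norm_pow, hw, apply_eq_eval, hφ, mul_assoc]
      exact mul_le_mul (pow_le_pow_left₀ (norm_nonneg _) (hCW u hu1).2 _)
        ((hu φ hφ).trans (mul_le_mul_of_nonneg_right (le_abs_self _) (by positivity)))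
        (norm_nonneg _) (by positivity)
    · refine ⟨CW ^ (E * kk) * CA, by positivity, ?_⟩
      filter_upwards [Metric.closedBall_mem_nhds r one_pos] with u hu1 φ hφ
      have hWr : MvPolynomial.eval r Wp = 0 := by
        rw [map_prod]
        exact Finset.prod_eq_zero (Finset.mem_attach _ ⟨r, Finset.mem_erase.2 ⟨h, hr⟩⟩) (hLpr _ _)
      have h1 := (hCW u hu1).1
      rw [hWr, sub_zero] at h1
      rw [hb, map_mul, map_pow, norm_mul, norm_pow, hw, apply_eq_eval, hφ, ← hAp, apply_eq_eval, hφ]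
      refine (mul_le_mul (pow_le_pow_left₀ (norm_nonneg _) h1 _) (hCA u hu1).2 (norm_nonneg _)
        (by positivity)).trans (le_of_eq ?_)
      rw [mul_pow]; ring
  choose Cr hCr0 hCr using hloc
  have hev : ∀ r ∈ cand, ∀ᶠ p in 𝓝 (r, (0 : Fin k → ℂ)), p ∈ Γ → ∃ hr : r ∈ fib,
      ∀ φ : A →ₐ[ℂ] ℂ, (fun j => φ (s j)) = p.1 → ‖φ b‖ ≤ Cr r hr * ‖p.1 - r‖ ^ (E * kk) := by
    intro r hr
    by_cases hrf : r ∈ fib
    · exact ((continuous_fst.tendsto (r, (0 : Fin k → ℂ))).eventually (hCr r hrf)).mono fun p hp _ => ⟨hrf, hp⟩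
    · filter_upwards [hΓ.isOpen_compl.mem_nhds (fun h => hrf (Finset.mem_filter.2 ⟨hr, h⟩))] with p hp hp'
      exact absurd hp' hp
  have hbound : ∃ C : ℝ, ∀ᶠ z in 𝓝 (0 : Fin k → ℂ), ∀ φ : A →ₐ[ℂ] ℂ,
      (∀ b, φ (algebraMap _ A b) = MvPolynomial.eval z b) → ‖φ b‖ ≤ C * ‖z‖ ^ kk := by
    refine ⟨(∑ r ∈ fib.attach, Cr r.1 r.2) * CH ^ kk, ?_⟩
    have hδ : ∀ r ∈ cand, ∀ᶠ δ : ℝ in 𝓝[>] 0, ∀ p : (Fin m → ℂ) × (Fin k → ℂ), dist p (r, 0) < δ →
        p ∈ Γ → ∃ hr : r ∈ fib, ∀ φ : A →ₐ[ℂ] ℂ, (fun j => φ (s j)) = p.1 →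
          ‖φ b‖ ≤ Cr r hr * ‖p.1 - r‖ ^ (E * kk) := by
      intro r hr
      obtain ⟨δ, hδ, hδ'⟩ := Metric.eventually_nhds_iff.1 (hev r hr)
      filter_upwards [Ioo_mem_nhdsGT hδ] with δ' hδ'' p hp
      exact hδ' (hp.trans hδ''.2)
    obtain ⟨δ, hδ0, hδ⟩ := (((eventually_all_finset cand).2 hδ).and self_mem_nhdsWithin).exists.imp
      fun δ h => And.intro (h.2 : (0 : ℝ) < δ) h.1
    have hsmall : ∀ᶠ z in 𝓝 (0 : Fin k → ℂ), ‖z‖ ≤ 1 ∧ ‖z‖ < δ ∧ CH * ‖z‖ < δ ^ E := by
      have h1 : Tendsto (fun z : Fin k → ℂ => ‖z‖) (𝓝 0) (𝓝 0) := by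
        simpa using continuous_norm.tendsto (0 : Fin k → ℂ)
      have h2 : Tendsto (fun z : Fin k → ℂ => CH * ‖z‖) (𝓝 0) (𝓝 0) := by simpa using h1.const_mul CH
      exact (h1.eventually (Iic_mem_nhds one_pos)).and
        ((h1.eventually (Iio_mem_nhds hδ0)).and (h2.eventually (Iio_mem_nhds (pow_pos hδ0 E))))
    filter_upwards [hsmall] with z hz φ hφ
    obtain ⟨r, hr, hrd⟩ := hCH φ z hφ hz.1
    have hdist : dist ((fun j => φ (s j)), z) (r, (0 : Fin k → ℂ)) < δ := by
      rw [Prod.dist_eq]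
      refine max_lt ?_ (by simpa [dist_eq_norm] using hz.2.1)
      rw [dist_eq_norm]
      exact lt_of_pow_lt_pow_left₀ E hδ0.le (hrd.trans_lt hz.2.2)
    obtain ⟨hrf, hb'⟩ := hδ r hr _ hdist (hΓmem φ z hφ)
    refine (hb' φ rfl).trans ?_
    rw [pow_mul, mul_assoc, ← mul_pow]
    exact mul_le_mul (Finset.single_le_sum (f := fun r : {x // x ∈ fib} => Cr r.1 r.2)
        (fun r _ => hCr0 r.1 r.2) (Finset.mem_attach _ ⟨r, hrf⟩))
      (pow_le_pow_left₀ (by positivity) hrd kk) (by positivity)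
      (Finset.sum_nonneg fun r _ => hCr0 r.1 r.2)
  -- the residues lie in a power of the origin
  have hS : ∀ i < P.natDegree, (((Polynomial.C d * q) * X ^ i) %ₘ P).coeff (P.natDegree - 1) ∈
      MvPolynomial.idealOfVars (Fin k) ℂ ^ kk := by
    intro i _
    obtain ⟨Cb, hCb⟩ := hbound
    choose CP hCP0 hCP using fun i => exists_lipschitz_eval (P.coeff i) (0 : Fin k → ℂ)
    set BP := 1 + ∑ i ∈ Finset.range P.natDegree, CP i
    obtain ⟨BD, hBD⟩ := (isCompact_closedBall (0 : Fin k → ℂ) 1).exists_bound_of_continuousOn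
      (MvPolynomial.continuous_eval D₀).continuousOn
    obtain ⟨BV, hBV⟩ := ((isCompact_closedBall (0 : Fin k → ℂ) 1).prod (isCompact_closedBall (0 : ℂ) BP)).exists_bound_of_continuousOn
      (f := fun p : (Fin k → ℂ) × ℂ => (spec V p.1).eval p.2) (Continuous.continuousOn (by
        simp only [eval_spec]
        exact continuous_finsetSum _ fun i _ => ((MvPolynomial.continuous_eval _).comp continuous_fst).mul
          (continuous_snd.pow i)))
    set f := (((Polynomial.C d * q) * X ^ i) %ₘ P).coeff (P.natDegree - 1)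
    have hC0 : 0 ≤ |BD| * |Cb| * BP ^ i * |BV| := by
      have : 0 ≤ BP := add_nonneg zero_le_one (Finset.sum_nonneg fun i _ => hCP0 i)
      positivity
    refine mem_pow_idealOfVars_of_norm_eval_le (C := P.natDegree * (|BD| * |Cb| * BP ^ i * |BV|)) ?_
    obtain ⟨O, hOsub, hO, hO0⟩ := eventually_nhds_iff.1 (hCb.and (Metric.closedBall_mem_nhds (0 : Fin k → ℂ) one_pos))
    filter_upwards [hO.mem_nhds hO0] with z hz
    set g' := fun z => ‖MvPolynomial.eval z f‖ - P.natDegree * (|BD| * |Cb| * BP ^ i * |BV|) * ‖z‖ ^ kk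
    suffices ∀ z ∈ O ∩ {z | MvPolynomial.eval z d ≠ 0}, g' z ≤ 0 by
      have hcl : IsClosed {z | g' z ≤ 0} := isClosed_le
        (((MvPolynomial.continuous_eval f).norm).sub (continuous_const.mul (continuous_norm.pow kk))) continuous_const
      have h1 := hcl.closure_subset_iff.2 this
        ((dense_eval_ne_zero hd0).open_subset_closure_inter hO hz)
      exact sub_nonpos.1 h1
    rintro z ⟨hz, hzd⟩
    refine sub_nonpos.2 ?_
    obtain ⟨hzb, hz1⟩ := hOsub z hz
    have hbz : spec U z * spec P z + spec V z * derivative (spec P z) = Polynomial.C (MvPolynomial.eval z d) := by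
      have := congrArg (Polynomial.map (MvPolynomial.eval z)) hbez
      simpa [spec, derivative_map] using this
    have hsep : (spec P z).Separable := (separable_def' _).2
      ⟨Polynomial.C (MvPolynomial.eval z d)⁻¹ * spec U z, Polynomial.C (MvPolynomial.eval z d)⁻¹ * spec V z, by
        rw [mul_assoc, mul_assoc, ← mul_add, hbz, ← map_mul, inv_mul_cancel₀ hzd, map_one]⟩
    have hres : MvPolynomial.eval z f = ∑ t ∈ (spec P z).roots.toFinset,
        (spec q z).eval t * t ^ i * (spec V z).eval t := by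
      show MvPolynomial.eval z ((((Polynomial.C d * q) * X ^ i) %ₘ P).coeff (P.natDegree - 1)) = _
      rw [← coeff_map, map_modByMonic _ hP, ← natDegree_spec hP z]
      show ((_ : ℂ[X]) %ₘ spec P z).coeff _ = _
      rw [coeff_modByMonic_eq_sum (P := spec P z) (hP.map _) (by rw [natDegree_spec hP]; exact hdeg) hsep]
      refine Finset.sum_congr rfl fun t ht => ?_
      have ht0 : (spec P z).eval t = 0 := (mem_roots (hP.map _).ne_zero).1 (Multiset.mem_toFinset.1 ht)
      have h1 := congrArg (Polynomial.eval t) hbz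
      rw [eval_add, eval_mul, eval_mul, ht0, mul_zero, zero_add, eval_C] at h1
      have hne : (derivative (spec P z)).eval t ≠ 0 := fun h0 => hzd (by rw [← h1, h0, mul_zero])
      simp only [Polynomial.map_mul, map_C, Polynomial.map_pow, map_X, eval_mul, eval_C, eval_pow, eval_X]
      rw [div_eq_iff hne]
      show MvPolynomial.eval z d * (spec q z).eval t * t ^ i = _
      rw [← h1]; ring
    rw [hres]
    refine (norm_sum_le _ _).trans ((Finset.sum_le_card_nsmul _ _
      (|BD| * |Cb| * BP ^ i * |BV| * ‖z‖ ^ kk) fun t ht => ?_).trans ?_)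
    · have ht0 : (spec P z).eval t = 0 := (mem_roots (hP.map _).ne_zero).1 (Multiset.mem_toFinset.1 ht)
      obtain ⟨φ, hφt, hφ⟩ := exists_algHom_over a₀ z t ht0
      have hqv : (spec q z).eval t = MvPolynomial.eval z D₀ * φ b := by
        rw [← hφt, ← RingHom.coe_coe, ← aeval_eq_eval_spec (φ : A →+* ℂ) z hφ, ← hq, map_mul,
          RingHom.coe_coe, hφ]
      have htb : ‖t‖ ≤ BP := by
        refine (norm_le_of_isRoot _ (hP.map _) t ht0).trans ?_
        rw [hP.natDegree_map]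
        refine add_le_add le_rfl (Finset.sum_le_sum fun i _ => ?_)
        rw [coeff_map]
        exact (hCP i z hz1).2
      rw [hqv, norm_mul, norm_mul, norm_mul, norm_pow]
      have hBP : 0 ≤ BP := add_nonneg zero_le_one (Finset.sum_nonneg fun i _ => hCP0 i)
      calc ‖MvPolynomial.eval z D₀‖ * ‖φ b‖ * ‖t‖ ^ i * ‖(spec V z).eval t‖
          ≤ |BD| * (|Cb| * ‖z‖ ^ kk) * BP ^ i * |BV| := by
            refine mul_le_mul (mul_le_mul (mul_le_mul ((hBD z hz1).trans (le_abs_self _))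
              ((hzb φ hφ).trans (mul_le_mul_of_nonneg_right (le_abs_self _) (by positivity))) (norm_nonneg _)
              (abs_nonneg _)) (pow_le_pow_left₀ (norm_nonneg _) htb i) (by positivity) (by positivity))
              ((hBV (z, t) ⟨hz1, mem_closedBall_zero_iff.2 htb⟩).trans (le_abs_self _)) (norm_nonneg _) (by positivity)
        _ = _ := by ring
    · rw [nsmul_eq_mul, show (P.natDegree : ℝ) * (|BD| * |Cb| * BP ^ i * |BV|) * ‖z‖ ^ kk =
        P.natDegree * (|BD| * |Cb| * BP ^ i * |BV| * ‖z‖ ^ kk) by ring]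
      refine mul_le_mul_of_nonneg_right (Nat.cast_le.2 ?_) (mul_nonneg hC0 (by positivity))
      exact (Multiset.toFinset_card_le _).trans (card_roots_spec hP z).le
  have hqI := coeff_mem_of_residues hP _ (q := Polynomial.C d * q) (by rwa [degree_C_mul hd0]) hS
  have hmapI : (MvPolynomial.idealOfVars (Fin k) ℂ).map (algebraMap _ A) ≤ RingHom.ker φ₀ := by
    rw [Ideal.map_span, Ideal.span_le]
    rintro _ ⟨_, ⟨i, rfl⟩, rfl⟩
    show φ₀ (g (MvPolynomial.X i)) = 0
    rw [hg0, MvPolynomial.eval_X, Pi.zero_apply]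
  have hcb : cden * b ∈ RingHom.ker φ₀ ^ kk := by
    have h1 : cden * b = Polynomial.aeval a₀ (Polynomial.C d * q) := by
      rw [hcden, map_mul, map_mul (Polynomial.aeval a₀), aeval_C, ← hq, mul_assoc]
    rw [h1, aeval_eq_sum_range]
    refine Submodule.sum_mem _ fun j _ => ?_
    rw [Algebra.smul_def]
    exact Ideal.mul_mem_right _ _ ((Ideal.map_pow _ _ _).le.trans (Ideal.pow_right_mono hmapI kk)
      (Ideal.mem_map_of_mem _ (hqI j)))
  have h2 : cden * b ∈ RingHom.ker φ₀ ^ kk • (⊤ : Submodule A A) ⊓ (Ideal.span {cden} : Submodule A A) :=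
    ⟨by rw [Ideal.smul_top_eq_map, Algebra.algebraMap_self, Ideal.map_id]; exact hcb,
      Ideal.mul_mem_right _ _ (Ideal.mem_span_singleton_self _)⟩
  rw [hk₀ kk (Nat.le_add_left _ _), show kk - k₀ = n from Nat.add_sub_cancel n k₀] at h2
  have h3 := Submodule.smul_mono (le_refl (RingHom.ker φ₀ ^ n)) inf_le_right h2
  rw [smul_eq_mul, Ideal.mem_mul_span_singleton] at h3
  obtain ⟨y, hy, hyc⟩ := h3
  have : y = b := mul_left_cancel₀ hcden0 (by rw [mul_comm, hyc])
  rwa [this] at hy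

/-- The order lemma for a reduced finitely generated algebra. -/
theorem exists_order {A : Type} [CommRing A] [IsReduced A] [Algebra ℂ A] {m : ℕ} (s : Fin m → A)
    (hs : Function.Surjective (MvPolynomial.aeval s : MvPolynomial (Fin m) ℂ →ₐ[ℂ] A))
    (φ₀ : A →ₐ[ℂ] ℂ) (n : ℕ) :
    ∃ M, ∀ a, HasOrder s φ₀ M a → ∃ u, φ₀ u ≠ 0 ∧ u * a ∈ RingHom.ker φ₀ ^ n := by
  classical
  have : Algebra.FiniteType ℂ A := Algebra.FiniteType.of_surjective _ hs
  have : IsNoetherianRing A := Algebra.FiniteType.isNoetherianRing ℂ A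
  have hfin := minimalPrimes.finite_of_isNoetherianRing (R := A)
  let ι := {p : Ideal A // p ∈ minimalPrimes A}
  have : Fintype ι := hfin.fintype
  let mk : A →ₗ[A] (∀ p : ι, A ⧸ p.1) := LinearMap.pi fun p => Submodule.mkQ p.1
  have hinj : Function.Injective mk := by
    rw [injective_iff_map_eq_zero]
    intro a ha
    have h1 : a ∈ sInf (minimalPrimes A) := by
      rw [Submodule.mem_sInf]
      intro p hp
      exact (Submodule.Quotient.mk_eq_zero _).1 (congrFun ha ⟨p, hp⟩)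
    rw [show minimalPrimes A = (⊥ : Ideal A).minimalPrimes from rfl, Ideal.sInf_minimalPrimes] at h1
    exact (mem_nilradical.1 h1).eq_zero
  obtain ⟨k₀, hk₀⟩ := Ideal.exists_pow_inf_eq_pow_smul (RingHom.ker φ₀) (LinearMap.range mk)
  have hcomp : ∀ p : ι, ∃ M, ∀ M' ≥ M, ∀ a, HasOrder s φ₀ M' a →
      ∃ u, φ₀ u ≠ 0 ∧ u * a ∈ p.1 ⊔ RingHom.ker φ₀ ^ (n + k₀) := by
    intro p
    by_cases hle : p.1 ≤ RingHom.ker φ₀
    · have : p.1.IsPrime := p.2.1.1
      have hs' : Function.Surjective (MvPolynomial.aeval (fun j => Ideal.Quotient.mk p.1 (s j)) :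
          MvPolynomial (Fin m) ℂ →ₐ[ℂ] A ⧸ p.1) := by
        intro x
        obtain ⟨x, rfl⟩ := Ideal.Quotient.mk_surjective x
        obtain ⟨P, rfl⟩ := hs x
        exact ⟨P, (MvPolynomial.comp_aeval_apply s (Ideal.Quotient.mkₐ ℂ p.1) P).symm⟩
      let φ' : A ⧸ p.1 →ₐ[ℂ] ℂ := Ideal.Quotient.liftₐ p.1 φ₀ fun x hx => hle hx
      obtain ⟨M, hM⟩ := exists_order_domain _ hs' φ' (n + k₀)
      refine ⟨M, fun M' hM' a ha => ?_⟩
      obtain ⟨C, hC⟩ := ha
      obtain ⟨u, hu, hua⟩ := hM (Ideal.Quotient.mk p.1 a) ⟨|C|, by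
        filter_upwards [hC, Metric.closedBall_mem_nhds (fun j => φ₀ (s j)) one_pos] with w hw hw1 φ hφ
        refine (hw (φ.comp (Ideal.Quotient.mkₐ ℂ p.1)) hφ).trans ?_
        refine (mul_le_mul_of_nonneg_right (le_abs_self C) (by positivity)).trans ?_
        exact mul_le_mul_of_nonneg_left (pow_le_pow_of_le_one (norm_nonneg _)
          (mem_closedBall_iff_norm.1 hw1) hM') (abs_nonneg C)⟩
      obtain ⟨u, rfl⟩ := Ideal.Quotient.mk_surjective u
      refine ⟨u, hu, ?_⟩
      have hker : RingHom.ker φ' = (RingHom.ker φ₀).map (Ideal.Quotient.mk p.1) := by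
        refine le_antisymm (fun x hx => ?_) (Ideal.map_le_iff_le_comap.2 fun x hx => hx)
        obtain ⟨x, rfl⟩ := Ideal.Quotient.mk_surjective x
        exact Ideal.mem_map_of_mem _ (show x ∈ RingHom.ker φ₀ from hx)
      rw [hker, ← Ideal.map_pow, ← map_mul] at hua
      obtain ⟨y, hy, hye⟩ := (Ideal.mem_map_iff_of_surjective _ Ideal.Quotient.mk_surjective).1 hua
      rw [sup_comm]
      refine Submodule.mem_sup.2 ⟨y, hy, u * a - y, Ideal.Quotient.eq.1 hye.symm, by ring⟩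
    · obtain ⟨v, hvp, hv⟩ := SetLike.not_le_iff_exists.1 hle
      exact ⟨0, fun M' _ a _ => ⟨v, hv, Ideal.mem_sup_left (Ideal.mul_mem_right _ _ hvp)⟩⟩
  choose M hM using hcomp
  refine ⟨Finset.univ.sup M, fun a ha => ?_⟩
  choose u hu hua using fun p => hM p _ (Finset.le_sup (Finset.mem_univ p)) a ha
  refine ⟨∏ p, u p, by rw [map_prod]; exact Finset.prod_ne_zero_iff.2 fun p _ => hu p, ?_⟩
  set c := (∏ p, u p) * a with hc
  have h1 : mk c ∈ RingHom.ker φ₀ ^ (n + k₀) • (⊤ : Submodule A (∀ p : ι, A ⧸ p.1)) := by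
    rw [← Finset.univ_sum_single (mk c)]
    refine Submodule.sum_mem _ fun p _ => ?_
    have hp : c ∈ p.1 ⊔ RingHom.ker φ₀ ^ (n + k₀) := by
      rw [hc, ← Finset.mul_prod_erase _ _ (Finset.mem_univ p), mul_right_comm]
      exact Ideal.mul_mem_right _ _ (hua p)
    obtain ⟨x, hx, y, hy, hxy⟩ := Submodule.mem_sup.1 hp
    have h2 : Pi.single p (mk c p) = y • (Pi.single p (Submodule.Quotient.mk 1) : ∀ p : ι, A ⧸ p.1) := by
      rw [← Pi.single_smul]
      congr 1
      show Submodule.Quotient.mk c = _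
      rw [← hxy, Submodule.Quotient.mk_add, (Submodule.Quotient.mk_eq_zero _).2 hx, zero_add,
        ← Submodule.Quotient.mk_smul, smul_eq_mul, mul_one]
    rw [h2]
    exact Submodule.smul_mem_smul hy trivial
  have h2 : mk c ∈ RingHom.ker φ₀ ^ n • LinearMap.range mk := by
    have h3 : mk c ∈ RingHom.ker φ₀ ^ (n + k₀) • (⊤ : Submodule A (∀ p : ι, A ⧸ p.1)) ⊓ LinearMap.range mk :=
      ⟨h1, c, rfl⟩
    rw [hk₀ _ (Nat.le_add_left _ _), Nat.add_sub_cancel] at h3
    exact Submodule.smul_mono le_rfl inf_le_right h3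
  rw [LinearMap.range_eq_map, ← Submodule.map_smul''] at h2
  obtain ⟨y, hy, hye⟩ := h2
  rw [hinj hye, smul_eq_mul, Ideal.mul_top] at hy
  exact hy

end Groth.Agent.An92
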