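import Groth.Agent.An92.Conn.Cover
import Mathlib.RingTheory.MvPolynomial.Ideal
import Mathlib.RingTheory.MvPolynomial.Homogeneous
import Mathlib.RingTheory.Polynomial.Ideal

/-!
Vanishing order of polynomials, and the Lagrange residue identity for monic polynomials.
-/

set_option autoImplicit false

noncomputable section

open Filter Topology Polynomial

namespace Groth.Agent.An92

theorem dense_eval_ne_zero {n : ℕ} {D : MvPolynomial (Fin n) ℂ} (hD : D ≠ 0) :
    Dense {z : Fin n → ℂ | MvPolynomial.eval z D ≠ 0} := by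
  obtain ⟨w, hw⟩ : ∃ w, MvPolynomial.eval w D ≠ 0 := by
    by_contra! h
    exact hD (MvPolynomial.funext fun z => by rw [h z, map_zero])
  intro z
  let q := lineRestrict z (w - z) D
  have hq0 : q ≠ 0 := fun h => hw (by
    have := eval_lineRestrict z (w - z) D 1
    simpa [q, h, show lineRestrict z (w - z) D = 0 from h] using this.symm)
  have hd : Dense {s : ℂ | q.eval s ≠ 0} := (q.finite_setOf_isRoot hq0).countable.dense_compl ℝ
  have hz : z = (fun (s : ℂ) i => z i + s * (w - z) i) 0 := by funext i; simp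
  rw [hz]
  refine map_mem_closure (f := fun (s : ℂ) i => z i + s * (w - z) i) (s := {s : ℂ | q.eval s ≠ 0}) (by fun_prop) (hd 0) fun s hs => ?_
  show MvPolynomial.eval _ D ≠ 0
  rw [← eval_lineRestrict]
  exact hs

theorem X_pow_dvd_of_norm_eval_le {k : ℕ} : ∀ {p : ℂ[X]} {C : ℝ},
    (∀ᶠ s in 𝓝 (0 : ℂ), ‖p.eval s‖ ≤ C * ‖s‖ ^ k) → X ^ k ∣ p := by
  induction k with
  | zero => intro p C _; simp
  | succ k ih =>
    intro p C h
    have h0 : p.eval 0 = 0 := by
      have := h.self_of_nhds
      simpa using this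
    obtain ⟨q, rfl⟩ : X ∣ p := X_dvd_iff.2 (by rwa [coeff_zero_eq_eval_zero])
    rw [pow_succ']
    refine mul_dvd_mul_left X (ih (C := C) ?_)
    have h1 : ∀ᶠ s in 𝓝[≠] (0 : ℂ), ‖q.eval s‖ ≤ C * ‖s‖ ^ k := by
      filter_upwards [h.filter_mono nhdsWithin_le_nhds, self_mem_nhdsWithin] with s hs hs0
      rw [eval_mul, eval_X, norm_mul, pow_succ', mul_left_comm] at hs
      exact le_of_mul_le_mul_left hs (norm_pos_iff.2 hs0)
    rw [eventually_nhdsWithin_iff] at h1
    filter_upwards [h1] with s hs
    rcases eq_or_ne s 0 with rfl | hs0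
    · have hlim : Tendsto (fun s => ‖q.eval s‖) (𝓝[≠] (0 : ℂ)) (𝓝 ‖q.eval 0‖) :=
        (q.continuous.norm.tendsto 0).mono_left nhdsWithin_le_nhds
      have hlim' : Tendsto (fun s : ℂ => C * ‖s‖ ^ k) (𝓝[≠] (0 : ℂ)) (𝓝 (C * ‖(0 : ℂ)‖ ^ k)) :=
        ((continuous_const.mul (continuous_norm.pow k)).tendsto 0).mono_left nhdsWithin_le_nhds
      refine le_of_tendsto_of_tendsto hlim hlim' ?_
      filter_upwards [h.filter_mono nhdsWithin_le_nhds, self_mem_nhdsWithin] with t ht ht0
      rw [eval_mul, eval_X, norm_mul, pow_succ', mul_left_comm] at ht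
      exact le_of_mul_le_mul_left ht (norm_pos_iff.2 ht0)
    · exact hs hs0

theorem lineRestrict_zero_of_isHomogeneous {n : ℕ} {f : MvPolynomial (Fin n) ℂ} {l : ℕ}
    (hf : f.IsHomogeneous l) (v : Fin n → ℂ) :
    lineRestrict 0 v f = Polynomial.C (MvPolynomial.eval v f) * Polynomial.X ^ l := by
  refine Polynomial.funext fun s => ?_
  rw [eval_lineRestrict, eval_mul, eval_C, eval_pow, eval_X]
  simp only [Pi.zero_apply, zero_add]
  rw [MvPolynomial.eval_eq, MvPolynomial.eval_eq, Finset.sum_mul]
  refine Finset.sum_congr rfl fun d hd => ?_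
  have : ∑ i ∈ d.support, d i = l := by
    rw [← hf.degree_eq_sum_deg_support hd]
  rw [← this, ← Finset.prod_pow_eq_pow_sum, mul_assoc, ← Finset.prod_mul_distrib]
  simp [mul_pow, mul_comm]

theorem mem_pow_idealOfVars_of_norm_eval_le {n k : ℕ} {f : MvPolynomial (Fin n) ℂ} {C : ℝ}
    (h : ∀ᶠ z in 𝓝 (0 : Fin n → ℂ), ‖MvPolynomial.eval z f‖ ≤ C * ‖z‖ ^ k) :
    f ∈ MvPolynomial.idealOfVars (Fin n) ℂ ^ k := by
  rw [MvPolynomial.mem_pow_idealOfVars_iff']
  intro d hd
  have hcomp : MvPolynomial.homogeneousComponent d.degree f = 0 := by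
    refine MvPolynomial.funext fun v => ?_
    rw [map_zero]
    have hline : X ^ k ∣ lineRestrict 0 v f := by
      refine X_pow_dvd_of_norm_eval_le (C := C * ‖v‖ ^ k) ?_
      have ht : Tendsto (fun (s : ℂ) i => (0 : Fin n → ℂ) i + s * v i) (𝓝 0) (𝓝 0) :=
        Continuous.tendsto' (by fun_prop) _ _ (by funext i; simp)
      filter_upwards [ht.eventually h] with s hs
      rw [eval_lineRestrict]
      refine hs.trans (le_of_eq ?_)
      rw [show (fun i => (0 : Fin n → ℂ) i + s * v i) = s • v by funext i; simp, norm_smul, mul_pow]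
      ring
    have hc := (Polynomial.X_pow_dvd_iff.1 hline) d.degree hd
    rw [← MvPolynomial.sum_homogeneousComponent f, map_sum, finsetSum_coeff] at hc
    simp only [lineRestrict_zero_of_isHomogeneous (MvPolynomial.homogeneousComponent_isHomogeneous _ _) v,
      coeff_C_mul, coeff_X_pow, mul_ite, mul_one, mul_zero, Finset.sum_ite_eq] at hc
    split at hc
    · exact hc
    · rename_i hne
      rw [MvPolynomial.homogeneousComponent_eq_zero _ _ (by simp at hne; omega), map_zero]
  have := congrArg (MvPolynomial.coeff d) hcomp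
  rwa [MvPolynomial.coeff_homogeneousComponent, if_pos rfl, MvPolynomial.coeff_zero] at this

/-- The top coefficient of a remainder is a sum of residues. -/
theorem coeff_modByMonic_eq_sum {P : ℂ[X]} (hP : P.Monic) (hd : 0 < P.natDegree) (hsep : P.Separable)
    (h : ℂ[X]) : (h %ₘ P).coeff (P.natDegree - 1) =
      ∑ t ∈ P.roots.toFinset, h.eval t / P.derivative.eval t := by
  classical
  set s := P.roots.toFinset with hs
  have hnd : P.roots.Nodup := nodup_roots hsep
  have hcard : s.card = P.natDegree := by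
    rw [hs, Multiset.toFinset_card_of_nodup hnd, IsAlgClosed.card_roots_eq_natDegree]
  have hnodal : Lagrange.nodal s id = P := by
    rw [Lagrange.nodal_eq, hs]
    simp only [id]
    rw [Finset.prod_eq_multiset_prod, Multiset.toFinset_val, hnd.dedup]
    exact prod_multiset_X_sub_C_of_monic_of_roots_card_eq hP IsAlgClosed.card_roots_eq_natDegree
  have hdeg : (h %ₘ P).degree < s.card := by
    rw [hcard, ← degree_eq_natDegree hP.ne_zero]
    exact degree_modByMonic_lt h hP
  rw [← hcard, Lagrange.coeff_eq_sum (v := id) Function.injective_id.injOn hdeg]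
  refine Finset.sum_congr rfl fun t ht => ?_
  congr 1
  · rw [id, hs, Multiset.mem_toFinset, mem_roots hP.ne_zero] at *
    exact eval₂_modByMonic_eq_self_of_root (f := RingHom.id ℂ) ht
  · conv_rhs => rw [← hnodal]
    exact ((Lagrange.eval_nodal_derivative_eval_node_eq (v := id) ht).trans Lagrange.eval_nodal).symm

/-- A polynomial of degree `< deg P` is controlled by the top coefficients of its shifts mod `P`. -/
theorem coeff_mem_of_residues {R : Type} [CommRing R] [Nontrivial R] {P : R[X]} (hP : P.Monic) (I : Ideal R)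
    {q : R[X]} (hq : q.degree < P.degree)
    (h : ∀ i < P.natDegree, ((q * X ^ i) %ₘ P).coeff (P.natDegree - 1) ∈ I) : ∀ j, q.coeff j ∈ I := by
  set d := P.natDegree
  suffices ∀ i, i < d → q.coeff (d - 1 - i) ∈ I by
    intro j
    by_cases hj : j < d
    · have h2 := this (d - 1 - j) (by omega)
      rwa [show d - 1 - (d - 1 - j) = j by omega] at h2
    · rw [coeff_eq_zero_of_degree_lt (hq.trans_le (degree_le_natDegree.trans (by exact_mod_cast not_lt.1 hj)))]
      exact I.zero_mem
  intro i
  induction i using Nat.strong_induction_on with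
  | _ i ih =>
    intro hi
    have h1 := h i hi
    have hq' : q = ∑ j ∈ Finset.range d, monomial j (q.coeff j) := by
      refine as_sum_range' q d ?_
      rcases eq_or_ne q 0 with rfl | hq0
      · rw [natDegree_zero]; omega
      · exact natDegree_lt_natDegree hq0 hq
    rw [hq', Finset.sum_mul, ← modByMonicHom_apply, map_sum, finsetSum_coeff] at h1
    rw [Finset.sum_eq_add_sum_sdiff_singleton_of_mem (Finset.mem_range.2 (show d - 1 - i < d by omega))] at h1
    have hterm : ((monomial (d - 1 - i) (q.coeff (d - 1 - i)) * X ^ i) %ₘ P).coeff (d - 1) = q.coeff (d - 1 - i) := by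
      rw [monomial_mul_X_pow, show d - 1 - i + i = d - 1 by omega, (modByMonic_eq_self_iff hP).2,
        coeff_monomial, if_pos rfl]
      exact (degree_monomial_le _ _).trans_lt (by
        rw [degree_eq_natDegree hP.ne_zero]; exact_mod_cast (show d - 1 < d by omega))
    rw [modByMonicHom_apply, hterm] at h1
    refine (Submodule.add_mem_iff_left _ (Submodule.sum_mem _ fun j hj => ?_)).1 h1
    rw [Finset.mem_sdiff, Finset.mem_range, Finset.mem_singleton] at hj
    rw [modByMonicHom_apply]
    by_cases hlt : j + i < d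
    · rw [monomial_mul_X_pow, (modByMonic_eq_self_iff hP).2, coeff_monomial, if_neg (by omega)]
      · exact I.zero_mem
      · exact (degree_monomial_le _ _).trans_lt (by
          rw [degree_eq_natDegree hP.ne_zero]; exact_mod_cast hlt)
    · have hmem : q.coeff j ∈ I := by
        have := ih (d - 1 - j) (by omega) (by omega)
        rwa [show d - 1 - (d - 1 - j) = j by omega] at this
      rw [← C_mul_X_pow_eq_monomial, mul_assoc, ← smul_eq_C_mul, smul_modByMonic, coeff_smul, smul_eq_mul]
      exact I.mul_mem_right _ hmem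

end Groth.Agent.An92
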