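import Groth.Agent.An92.Germ.Division
import Mathlib.Order.Filter.Germ.Basic
import Mathlib.RingTheory.LocalRing.Basic
import Mathlib.RingTheory.LocalRing.MaximalIdeal.Basic
import Mathlib.RingTheory.Noetherian.Basic
import Mathlib.RingTheory.Finiteness.Cardinality
import Mathlib.LinearAlgebra.FiniteDimensional.Basic
import Mathlib.Analysis.Analytic.IsolatedZeros
import Mathlib.Analysis.Analytic.Uniqueness

/-!
The ring of germs of holomorphic functions at the origin of `ℂⁿ` is a Noetherian local ring.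
-/

set_option autoImplicit false

noncomputable section

open Filter Metric
open scoped NNReal ENNReal Topology

namespace Groth.Agent.An92

/-- Germs at the origin of holomorphic functions. -/
def holGerm (n : ℕ) : Subring (Germ (𝓝 (0 : Fin n → ℂ)) ℂ) where
  carrier := {φ | ∃ F : (Fin n → ℂ) → ℂ, (↑F : Germ (𝓝 (0 : Fin n → ℂ)) ℂ) = φ ∧
    ∀ᶠ x in 𝓝 0, DifferentiableAt ℂ F x}
  mul_mem' := by
    rintro _ _ ⟨F, rfl, hF⟩ ⟨G, rfl, hG⟩
    exact ⟨F * G, rfl, (hF.and hG).mono fun x h => h.1.mul h.2⟩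
  add_mem' := by
    rintro _ _ ⟨F, rfl, hF⟩ ⟨G, rfl, hG⟩
    exact ⟨F + G, rfl, (hF.and hG).mono fun x h => h.1.add h.2⟩
  one_mem' := ⟨fun _ => 1, rfl, Eventually.of_forall fun _ => differentiableAt_const _⟩
  zero_mem' := ⟨fun _ => 0, rfl, Eventually.of_forall fun _ => differentiableAt_const _⟩
  neg_mem' := by
    rintro _ ⟨F, rfl, hF⟩
    exact ⟨-F, rfl, hF.mono fun x h => h.neg⟩

namespace holGerm

variable {n : ℕ}

/-- The germ of a function differentiable near the origin. -/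
def mk (F : (Fin n → ℂ) → ℂ) (hF : ∀ᶠ x in 𝓝 0, DifferentiableAt ℂ F x) : holGerm n :=
  ⟨↑F, F, rfl, hF⟩

theorem exists_rep (φ : holGerm n) : ∃ F hF, mk F hF = φ :=
  let ⟨F, h, hF⟩ := φ.2
  ⟨F, hF, Subtype.ext h⟩

theorem mk_eq_mk {F G : (Fin n → ℂ) → ℂ} {hF hG} : mk F hF = mk G hG ↔ F =ᶠ[𝓝 0] G :=
  ⟨fun h => Germ.coe_eq.1 (congrArg Subtype.val h), fun h => Subtype.ext (Germ.coe_eq.2 h)⟩

/-- Value at the origin. -/
def value : holGerm n →+* ℂ where
  toFun φ := Quotient.liftOn' φ.1 (fun F => F 0) fun _ _ h => h.self_of_nhds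
  map_one' := rfl
  map_zero' := rfl
  map_mul' φ ψ := by
    obtain ⟨F, hF, rfl⟩ := exists_rep φ
    obtain ⟨G, hG, rfl⟩ := exists_rep ψ
    rfl
  map_add' φ ψ := by
    obtain ⟨F, hF, rfl⟩ := exists_rep φ
    obtain ⟨G, hG, rfl⟩ := exists_rep ψ
    rfl

@[simp] theorem value_mk (F : (Fin n → ℂ) → ℂ) (hF) : value (mk F hF) = F 0 := rfl

/-- Constants. -/
def const : ℂ →+* holGerm n where
  toFun c := mk (fun _ => c) (Eventually.of_forall fun _ => differentiableAt_const _)
  map_one' := rfl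
  map_zero' := rfl
  map_mul' _ _ := rfl
  map_add' _ _ := rfl

/-- The coordinates. -/
def coord (i : Fin n) : holGerm n :=
  mk (fun x => x i) (Eventually.of_forall fun _ => differentiableAt_pi.1 differentiableAt_fun_id i)

theorem isUnit_of_value_ne_zero {φ : holGerm n} (h : value φ ≠ 0) : IsUnit φ := by
  obtain ⟨F, hF, rfl⟩ := exists_rep φ
  have hne : ∀ᶠ x in 𝓝 0, F x ≠ 0 := hF.self_of_nhds.continuousAt.eventually_ne h
  refine IsUnit.of_mul_eq_one (mk (fun x => (F x)⁻¹) ((hF.and hne).mono fun x h => h.1.inv h.2)) ?_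
  exact Subtype.ext (Germ.coe_eq.2 (hne.mono fun x hx => mul_inv_cancel₀ hx))

instance : Nontrivial (holGerm n) :=
  (value (n := n)).domain_nontrivial

instance : IsLocalRing (holGerm n) := IsLocalRing.of_nonunits_add fun a b ha hb h => by
  have h0 : ∀ c ∈ nonunits (holGerm n), value c = 0 := fun c hc =>
    by_contra fun hne => hc (isUnit_of_value_ne_zero hne)
  have := h.map value
  rw [map_add, h0 a ha, h0 b hb, add_zero] at this
  exact not_isUnit_zero this

theorem mem_maximalIdeal {φ : holGerm n} : φ ∈ IsLocalRing.maximalIdeal (holGerm n) ↔ value φ = 0 := by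
  refine ⟨fun h => by_contra fun hne => h (isUnit_of_value_ne_zero hne), fun h hu => ?_⟩
  have := hu.map value
  rw [h] at this
  exact not_isUnit_zero this

theorem differentiableAt_evalS_of_mass {r : Fin n → ℝ≥0} (hr : ∀ i, 0 < r i) {f : Ser n}
    (hf : mass r f ≠ ⊤) : ∀ᶠ x in 𝓝 (0 : Fin n → ℂ), DifferentiableAt ℂ (fun z => evalS z f) x := by
  obtain ⟨ρ, hρ, hρle⟩ : ∃ ρ : ℝ≥0, 0 < ρ ∧ ∀ i, ρ ≤ r i := by
    refine ⟨Finset.univ.inf (fun i => (r i : WithTop ℝ≥0)) |>.untopD 1, ?_, ?_⟩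
    · rcases eq_or_ne (Finset.univ.inf (fun i => (r i : WithTop ℝ≥0))) ⊤ with h | h
      · rw [h]; exact one_pos
      · obtain ⟨c, hc⟩ := WithTop.ne_top_iff_exists.1 h
        rw [← hc]
        have : (0 : WithTop ℝ≥0) < c := by
          rw [hc, Finset.lt_inf_iff (WithTop.coe_lt_top _)]
          exact fun i _ => WithTop.coe_lt_coe.2 (hr i)
        exact WithTop.coe_lt_coe.1 this
    · intro i
      have hle := Finset.inf_le (f := fun i => (r i : WithTop ℝ≥0)) (Finset.mem_univ i)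
      obtain ⟨c, hc⟩ := WithTop.ne_top_iff_exists.1 (ne_top_of_le_ne_top WithTop.coe_ne_top hle)
      rw [← hc] at hle ⊢
      exact WithTop.coe_le_coe.1 hle
  have hρ' : (0 : ℝ) < (ρ : ℝ) / 2 := div_pos (NNReal.coe_pos.2 hρ) two_pos
  filter_upwards [isOpen_ball.mem_nhds (mem_ball_self hρ')] with x hx
  exact (differentiableOn_evalS (ne_top_of_le_ne_top hf (mass_mono hρle f))).differentiableAt
    (isOpen_ball.mem_nhds hx)

/-- The germ of the sum of a convergent series. -/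
def ofSer {r : Fin n → ℝ≥0} (hr : ∀ i, 0 < r i) (f : Ser n) (hf : mass r f ≠ ⊤) : holGerm n :=
  mk (fun z => evalS z f) (differentiableAt_evalS_of_mass hr hf)

theorem eventually_nnnorm_le {r : Fin n → ℝ≥0} (hr : ∀ i, 0 < r i) :
    ∀ᶠ z in 𝓝 (0 : Fin n → ℂ), ∀ i, ‖z i‖₊ ≤ r i :=
  eventually_all.2 fun i => by
    have : Tendsto (fun z : Fin n → ℂ => ‖z i‖₊) (𝓝 0) (𝓝 0) := by
      simpa using ((continuous_apply i).nnnorm).tendsto (0 : Fin n → ℂ)
    exact (this.eventually (Iio_mem_nhds (hr i))).mono fun z hz => hz.le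

theorem exists_ofSer (φ : holGerm n) :
    ∃ (r : ℝ≥0) (f : Ser n) (hr : 0 < r) (hf : mass (fun _ => r) f ≠ ⊤),
      φ = ofSer (fun _ => hr) f hf := by
  obtain ⟨F, hF, rfl⟩ := exists_rep φ
  obtain ⟨r, f, hr, hf, hFf⟩ := exists_series hF
  refine ⟨r, f, hr, hf, mk_eq_mk.2 ?_⟩
  filter_upwards [closedBall_mem_nhds (0 : Fin n → ℂ) (NNReal.coe_pos.2 hr)] with z hz
  simpa using hFf z (mem_closedBall_zero_iff.1 hz)

/-- Composition with a linear automorphism. -/
def comap (L : (Fin n → ℂ) ≃L[ℂ] (Fin n → ℂ)) : holGerm n →+* holGerm n where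
  toFun φ := ⟨Germ.compTendsto φ.1 L (by simpa using L.continuous.tendsto 0), by
    obtain ⟨F, hF, rfl⟩ := exists_rep φ
    refine ⟨F ∘ L, rfl, ?_⟩
    have : Tendsto L (𝓝 0) (𝓝 0) := by simpa using L.continuous.tendsto 0
    exact (this.eventually hF).mono fun x hx => hx.comp x L.differentiableAt⟩
  map_one' := rfl
  map_zero' := rfl
  map_mul' φ ψ := by
    obtain ⟨F, hF, rfl⟩ := exists_rep φ
    obtain ⟨G, hG, rfl⟩ := exists_rep ψ
    rfl
  map_add' φ ψ := by
    obtain ⟨F, hF, rfl⟩ := exists_rep φ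
    obtain ⟨G, hG, rfl⟩ := exists_rep ψ
    rfl

theorem comap_symm_comap (L : (Fin n → ℂ) ≃L[ℂ] (Fin n → ℂ)) (φ : holGerm n) :
    comap L.symm (comap L φ) = φ := by
  obtain ⟨F, hF, rfl⟩ := exists_rep φ
  exact Subtype.ext (Germ.coe_eq.2 (Eventually.of_forall fun x => by simp))

/-- The automorphism of a linear change of coordinates. -/
def comapEquiv (L : (Fin n → ℂ) ≃L[ℂ] (Fin n → ℂ)) : holGerm n ≃+* holGerm n :=
  RingEquiv.ofRingHom (comap L) (comap L.symm)
    (RingHom.ext fun φ => by simpa using comap_symm_comap L.symm φ) (RingHom.ext (comap_symm_comap L))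

/-- Germs independent of the first coordinate. -/
def inclTail : holGerm n →+* holGerm (n + 1) where
  toFun φ := ⟨Germ.compTendsto φ.1 Fin.tail
      (Continuous.tendsto' (continuous_pi fun i => continuous_apply _) _ _ rfl), by
    obtain ⟨F, hF, rfl⟩ := exists_rep φ
    refine ⟨F ∘ Fin.tail, rfl, ?_⟩
    have : Tendsto (Fin.tail : (Fin (n + 1) → ℂ) → Fin n → ℂ) (𝓝 0) (𝓝 0) :=
      Continuous.tendsto' (continuous_pi fun i => continuous_apply _) _ _ rfl
    exact (this.eventually hF).mono fun x hx => hx.comp x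
      (differentiableAt_pi.2 fun i => differentiableAt_pi.1 differentiableAt_fun_id i.succ)⟩
  map_one' := rfl
  map_zero' := rfl
  map_mul' φ ψ := by
    obtain ⟨F, hF, rfl⟩ := exists_rep φ
    obtain ⟨G, hG, rfl⟩ := exists_rep ψ
    rfl
  map_add' φ ψ := by
    obtain ⟨F, hF, rfl⟩ := exists_rep φ
    obtain ⟨G, hG, rfl⟩ := exists_rep ψ
    rfl

theorem ofSer_eq_sum_pow_coord {r : Fin (n + 1) → ℝ≥0} (hr : ∀ i, 0 < r i) {f : Ser (n + 1)}
    (hf : mass r f ≠ ⊤) {d : ℕ} (h : ∀ a, d ≤ a 0 → MvPowerSeries.coeff a f = 0) :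
    ∃ c : Fin d → holGerm n, ofSer hr f hf = ∑ i, inclTail (c i) * coord 0 ^ (i : ℕ) := by
  let fi : Fin d → Ser n := fun i b => MvPowerSeries.coeff (Finsupp.cons (i : ℕ) b) f
  have hrt : ∀ j, 0 < Fin.tail r j := fun j => hr j.succ
  have hfi : ∀ i, mass (Fin.tail r) (fi i) ≠ ⊤ := fun i => by
    have h1 : mass (Fin.tail r) (fi i) * ((r 0 ^ (i : ℕ) : ℝ≥0) : ℝ≥0∞) ≤ mass r f := by
      rw [mass, ← ENNReal.tsum_mul_right, mass]
      refine le_trans (ENNReal.tsum_le_tsum fun b => ?_) (ENNReal.tsum_comp_le_tsum_of_injective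
        (f := fun b => Finsupp.cons (i : ℕ) b) (fun b b' hb => by
          simpa [Finsupp.tail_cons] using congrArg Finsupp.tail hb) _)
      rw [← ENNReal.coe_mul, ENNReal.coe_le_coe, mon_cons, Finsupp.cons_zero, Finsupp.tail_cons]
      exact le_of_eq (by rw [mul_assoc, mul_comm (mon _ _)]; rfl)
    intro htop
    rw [htop, ENNReal.top_mul (by simpa using (pow_pos (hr 0) (i : ℕ)).ne')] at h1
    exact hf (top_le_iff.1 h1)
  let Φ : Fin d → (Fin (n + 1) → ℂ) → ℂ := fun i z => evalS (Fin.tail z) (fi i) * z 0 ^ (i : ℕ)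
  refine ⟨fun i => ofSer hrt (fi i) (hfi i), Subtype.ext ?_⟩
  have hval : ∀ s : Finset (Fin d), ((∑ i ∈ s, inclTail (ofSer hrt (fi i) (hfi i)) * coord 0 ^ (i : ℕ) :
      holGerm (n + 1)) : Germ (𝓝 (0 : Fin (n + 1) → ℂ)) ℂ) = ↑(∑ i ∈ s, Φ i) := by
    intro s
    rw [AddSubmonoidClass.coe_finsetSum]
    exact (map_sum (Germ.coeRingHom (𝓝 (0 : Fin (n + 1) → ℂ))) Φ s).symm
  rw [hval]
  refine Germ.coe_eq.2 ?_
  filter_upwards [eventually_nnnorm_le hr] with z hz
  show evalS z f = (∑ i, Φ i) z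
  rw [Finset.sum_apply]
  have hs := (summable_term hf hz).hasSum
  let ι : Fin d × (Fin n →₀ ℕ) → (Fin (n + 1) →₀ ℕ) := fun p => Finsupp.cons (p.1 : ℕ) p.2
  have hι : Function.Injective ι := by
    rintro ⟨i, b⟩ ⟨j, b'⟩ he
    exact Prod.ext (Fin.ext (by simpa [ι] using congrArg (fun a : Fin (n + 1) →₀ ℕ => a 0) he))
      (by simpa [ι, Finsupp.tail_cons] using congrArg Finsupp.tail he)
  have hs' : HasSum (fun p => MvPowerSeries.coeff (ι p) f * mon z (ι p)) (evalS z f) := by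
    refine (hι.hasSum_iff fun a ha => ?_).2 hs
    rw [h a ?_, zero_mul]
    by_contra hlt
    exact ha ⟨(⟨a 0, not_le.1 hlt⟩, Finsupp.tail a), Finsupp.cons_tail a⟩
  have hrow : ∀ i, HasSum (fun b => MvPowerSeries.coeff (ι (i, b)) f * mon z (ι (i, b))) (Φ i z) := fun i => by
    have h1 : HasSum (fun b => MvPowerSeries.coeff b (fi i) * mon (Fin.tail z) b) (evalS (Fin.tail z) (fi i)) :=
      (summable_term (hfi i) fun j => hz j.succ).hasSum
    refine (h1.mul_right (z 0 ^ (i : ℕ))).congr_fun fun b => ?_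
    rw [mon_cons]
    simp only [ι, Finsupp.cons_zero, Finsupp.tail_cons]
    show MvPowerSeries.coeff (Finsupp.cons (i : ℕ) b) f * _ = MvPowerSeries.coeff (Finsupp.cons (i : ℕ) b) f * _ * _
    ring
  exact (hs'.prod_fiberwise hrow).unique (hasSum_fintype _)

/-- Division by a germ regular in the first coordinate. -/
theorem exists_division_of_regular {r₀ : ℝ≥0} (hr₀ : 0 < r₀) {f : Ser (n + 1)}
    (hf : mass (fun _ => r₀) f ≠ ⊤) {d : ℕ}
    (hd : MvPowerSeries.coeff (Finsupp.cons d 0) f ≠ 0)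
    (hlow : ∀ k < d, MvPowerSeries.coeff (Finsupp.cons k 0) f = 0) (φ : holGerm (n + 1)) :
    ∃ (q : holGerm (n + 1)) (c : Fin d → holGerm n),
      φ = ofSer (fun _ => hr₀) f hf * q + ∑ i, inclTail (c i) * coord 0 ^ (i : ℕ) := by
  classical
  obtain ⟨r₁, g, hr₁, hg, rfl⟩ := exists_ofSer φ
  set u := MvPowerSeries.coeff (Finsupp.cons d 0) f with hu
  set e : Ser (n + 1) := MvPowerSeries.C u⁻¹ * f - MvPowerSeries.X 0 ^ d with he
  have hsingle : (Finsupp.cons d (0 : Fin n →₀ ℕ)) = Finsupp.single 0 d := by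
    ext j
    refine Fin.cases ?_ (fun j => ?_) j
    · simp
    · simp [Finsupp.single_eq_of_ne (Fin.succ_ne_zero j)]
  have hf' : mass (fun _ => r₀) (MvPowerSeries.C u⁻¹ * f) ≠ ⊤ :=
    ne_top_of_le_ne_top (ENNReal.mul_ne_top (by rw [mass_C]; exact ENNReal.coe_ne_top) hf) (mass_mul_le _ _ _)
  have hXd : ∀ r : Fin (n + 1) → ℝ≥0, mass r (MvPowerSeries.X 0 ^ d : Ser (n + 1)) = ((r 0 ^ d : ℝ≥0) : ℝ≥0∞) := by
    intro r
    rw [mass, tsum_eq_single (Finsupp.single 0 d) fun a ha => by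
      simp [MvPowerSeries.X_pow_eq, MvPowerSeries.coeff_monomial, ha]]
    simp [MvPowerSeries.X_pow_eq, MvPowerSeries.coeff_monomial, mon_single]
  have he0 : mass (fun _ => r₀) e ≠ ⊤ := by
    rw [he, sub_eq_add_neg]
    refine ne_top_of_le_ne_top (ENNReal.add_ne_top.2 ⟨hf', ?_⟩) (mass_add_le _ _ _)
    rw [mass_neg, hXd]
    exact ENNReal.coe_ne_top
  have hecoeff : ∀ k ≤ d, MvPowerSeries.coeff (Finsupp.cons k 0) e = 0 := by
    intro k hk
    rw [he, map_sub, MvPowerSeries.coeff_C_mul, MvPowerSeries.X_pow_eq, MvPowerSeries.coeff_monomial]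
    rcases hk.lt_or_eq with hlt | rfl
    · rw [hlow k hlt, mul_zero, zero_sub, neg_eq_zero, if_neg]
      intro he'
      have := congrArg (fun a : Fin (n + 1) →₀ ℕ => a 0) he'
      simp at this
      omega
    · rw [← hu, inv_mul_cancel₀ hd, if_pos hsingle, sub_self]
  set M : ℝ≥0 := (mass (fun _ => r₀) e).toNNReal with hM
  obtain ⟨ε, hε0, hε1, hεM, hεr⟩ : ∃ ε : ℝ≥0, 0 < ε ∧ ε ≤ 1 ∧ ε * M < r₀ ^ d ∧ r₀ * ε ≤ r₁ := by
    refine ⟨min (min 1 (r₀ ^ d / (M + 1))) (r₁ / r₀),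
      lt_min (lt_min one_pos (div_pos (pow_pos hr₀ d) (by positivity))) (div_pos hr₁ hr₀),
      (min_le_left _ _).trans (min_le_left _ _), ?_, ?_⟩
    · refine lt_of_le_of_lt (mul_le_mul_left ((min_le_left _ _).trans (min_le_right _ _)) M) ?_
      rw [div_mul_eq_mul_div, div_lt_iff₀ (by positivity)]
      exact mul_lt_mul_of_pos_left (lt_add_one M) (pow_pos hr₀ d)
    · calc r₀ * _ ≤ r₀ * (r₁ / r₀) := mul_le_mul_right (min_le_right _ _) r₀
        _ = r₁ := mul_div_cancel₀ _ hr₀.ne'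
  let r : Fin (n + 1) → ℝ≥0 := Fin.cons (r₀ * ε) fun _ => r₀ * ε ^ (d + 1)
  have hr : ∀ i, 0 < r i := Fin.cases (mul_pos hr₀ hε0) fun i => mul_pos hr₀ (pow_pos hε0 _)
  have hle : ∀ i, r i ≤ r₀ * ε := Fin.cases le_rfl fun i =>
    mul_le_mul_right (by simpa using pow_le_pow_of_le_one zero_le hε1 (Nat.succ_le_succ (Nat.zero_le d))) r₀
  have hle₀ : ∀ i, r i ≤ r₀ := fun i => (hle i).trans (mul_le_of_le_one_right zero_le hε1)
  have hsmall : mass r e < ((r 0 ^ d : ℝ≥0) : ℝ≥0∞) := by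
    have hb : mass r e ≤ ((ε ^ (d + 1) : ℝ≥0) : ℝ≥0∞) * mass (fun _ => r₀) e := by
      rw [mass, mass, ← ENNReal.tsum_mul_left]
      refine ENNReal.tsum_le_tsum fun a => ?_
      rw [← ENNReal.coe_mul, ENNReal.coe_le_coe, mul_left_comm]
      by_cases h0 : MvPowerSeries.coeff a e = 0
      · simp [h0]
      refine mul_le_mul_right ?_ _
      have hmon : mon r a = mon (fun _ => r₀) a *
          mon (Fin.cons ε (fun _ : Fin n => ε ^ (d + 1)) : Fin (n + 1) → ℝ≥0) a := by
        rw [← mon_mul]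
        exact congrArg (fun x => mon x a) (funext (Fin.cases rfl fun i => rfl))
      rw [hmon, mul_comm]
      refine mul_le_mul_left ?_ _
      rw [mon_cons]
      by_cases ht : Finsupp.tail a = 0
      · have : d < a 0 := by
          by_contra hcon
          exact h0 (by rw [← Finsupp.cons_tail a, ht]; exact hecoeff _ (not_lt.1 hcon))
        rw [ht, mon_zero, mul_one]
        exact pow_le_pow_of_le_one zero_le hε1 this
      · obtain ⟨j, hj⟩ : ∃ j, Finsupp.tail a j ≠ 0 := by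
          by_contra! hc
          exact ht (Finsupp.ext hc)
        refine (mul_le_of_le_one_left zero_le (pow_le_one₀ zero_le hε1)).trans ?_
        have hp : ε ^ (d + 1) ≤ 1 := pow_le_one₀ zero_le hε1
        rw [mon, ← Finset.mul_prod_erase _ _ (Finset.mem_univ j)]
        exact (mul_le_of_le_one_right zero_le (Finset.prod_le_one' fun i _ => pow_le_one₀ zero_le hp)).trans
          (pow_le_of_le_one zero_le hp hj)
    refine hb.trans_lt ?_
    rw [← ENNReal.coe_toNNReal he0, ← hM, ← ENNReal.coe_mul, ENNReal.coe_lt_coe]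
    calc ε ^ (d + 1) * M = ε ^ d * (ε * M) := by ring
      _ < ε ^ d * r₀ ^ d := mul_lt_mul_of_pos_left hεM (pow_pos hε0 d)
      _ = r 0 ^ d := by rw [← mul_pow, mul_comm]; rfl
  have hgr : mass r g ≠ ⊤ := ne_top_of_le_ne_top hg (mass_mono (fun i => (hle i).trans hεr) g)
  obtain ⟨q, rem, hq, hrem, hremlow, hdiv⟩ := exists_division hr d hsmall hgr
  have hq' : mass r (MvPowerSeries.C u⁻¹ * q) ≠ ⊤ :=
    ne_top_of_le_ne_top (ENNReal.mul_ne_top (by rw [mass_C]; exact ENNReal.coe_ne_top) hq) (mass_mul_le _ _ _)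
  have hfr : mass r f ≠ ⊤ := ne_top_of_le_ne_top hf (mass_mono hle₀ f)
  obtain ⟨c, hc⟩ := ofSer_eq_sum_pow_coord hr hrem hremlow
  refine ⟨ofSer hr (MvPowerSeries.C u⁻¹ * q) hq', c, ?_⟩
  rw [← hc]
  have hg' : g = f * (MvPowerSeries.C u⁻¹ * q) + rem := by
    rw [hdiv, he, add_sub_cancel]
    ring
  refine Subtype.ext (Germ.coe_eq.2 ?_)
  filter_upwards [eventually_nnnorm_le hr] with z hz
  show evalS z g = evalS z f * evalS z (MvPowerSeries.C u⁻¹ * q) + evalS z rem
  rw [← evalS_mul hfr hq' hz, ← evalS_add (ne_top_of_le_ne_top (ENNReal.mul_ne_top hfr hq') (mass_mul_le _ _ _)) hrem hz,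
    ← hg']

theorem exists_line_ne_zero {φ : holGerm n} (hφ : φ ≠ 0) :
    ∃ (F : (Fin n → ℂ) → ℂ) (hF : _) (v : Fin n → ℂ), mk F hF = φ ∧
      ¬ ∀ᶠ s in 𝓝 (0 : ℂ), F (s • v) = 0 := by
  obtain ⟨F, hF, rfl⟩ := exists_rep φ
  by_contra hcon
  push Not at hcon
  obtain ⟨R, hR, hball⟩ := nhds_basis_ball.eventually_iff.1 hF
  apply hφ
  refine Subtype.ext (Germ.coe_eq.2 ?_)
  filter_upwards [ball_mem_nhds (0 : Fin n → ℂ) hR] with x hx
  show F x = 0
  rcases eq_or_ne x 0 with rfl | hx0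
  · simpa using (hcon F hF 0 rfl).self_of_nhds
  have hxn : 0 < ‖x‖ := norm_pos_iff.2 hx0
  have hd : DifferentiableOn ℂ (fun s : ℂ => F (s • x)) (ball (0 : ℂ) (R / ‖x‖)) := fun s hs => by
    refine DifferentiableAt.differentiableWithinAt ?_
    have : s • x ∈ ball (0 : Fin n → ℂ) R := by
      rw [mem_ball_zero_iff, norm_smul]
      exact (lt_div_iff₀ hxn).1 (mem_ball_zero_iff.1 hs)
    exact (hball this).comp s (by fun_prop)
  have := (hd.analyticOnNhd isOpen_ball).eqOn_zero_of_preconnected_of_eventuallyEq_zero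
    (convex_ball 0 _).isPreconnected (mem_ball_self (div_pos hR hxn)) (hcon F hF x rfl)
  have h1 : (1 : ℂ) ∈ ball (0 : ℂ) (R / ‖x‖) := by
    rw [mem_ball_zero_iff, norm_one, one_lt_div hxn]
    exact mem_ball_zero_iff.1 hx
  simpa using this h1

theorem exists_regular {φ : holGerm (n + 1)} (hφ : φ ≠ 0) :
    ∃ (L : (Fin (n + 1) → ℂ) ≃L[ℂ] (Fin (n + 1) → ℂ)) (r₀ : ℝ≥0) (f : Ser (n + 1)) (hr₀ : 0 < r₀)
      (hf : mass (fun _ => r₀) f ≠ ⊤) (d : ℕ),
      comap L φ = ofSer (fun _ => hr₀) f hf ∧ MvPowerSeries.coeff (Finsupp.cons d 0) f ≠ 0 ∧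
        ∀ k < d, MvPowerSeries.coeff (Finsupp.cons k 0) f = 0 := by
  classical
  obtain ⟨F, hF, v, rfl, hv⟩ := exists_line_ne_zero hφ
  obtain ⟨v, hv0, hv⟩ : ∃ v : Fin (n + 1) → ℂ, v ≠ 0 ∧ ¬ ∀ᶠ s in 𝓝 (0 : ℂ), F (s • v) = 0 := by
    by_cases h : v = 0
    · subst h
      refine ⟨Pi.single 0 1, by simp, fun hc => hv ?_⟩
      have h0 : F 0 = 0 := by simpa using hc.self_of_nhds
      exact Eventually.of_forall fun s => by rw [smul_zero]; exact h0
    · exact ⟨v, h, hv⟩
  obtain ⟨i, hi⟩ : ∃ i, v i ≠ 0 := Function.ne_iff.1 hv0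
  let A : (Fin (n + 1) → ℂ) →ₗ[ℂ] (Fin (n + 1) → ℂ) :=
    LinearMap.pi fun j => (LinearMap.proj (R := ℂ) (φ := fun _ : Fin (n + 1) => ℂ) 0).smulRight (v j) +
      (if j = i then 0 else LinearMap.proj (Equiv.swap 0 i j))
  have hA : Function.Injective A := by
    rw [injective_iff_map_eq_zero]
    intro x hx
    have hx' : ∀ j, x 0 * v j + (if j = i then 0 else x (Equiv.swap 0 i j)) = 0 := fun j => by
      have := congrFun hx j
      by_cases h : j = i <;> simp [A, h] at this ⊢ <;> exact this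
    have h0 : x 0 = 0 := by
      have := hx' i
      simpa [hi] using this
    funext k
    rcases eq_or_ne k 0 with rfl | hk
    · exact h0
    · have := hx' (Equiv.swap 0 i k)
      rw [if_neg (fun he => hk (by simpa using congrArg (Equiv.swap 0 i) he)), Equiv.swap_apply_self, h0,
        zero_mul, zero_add] at this
      exact this
  let L := (LinearEquiv.ofInjectiveEndo A hA).toContinuousLinearEquiv
  have hL : ∀ s : ℂ, L (Pi.single 0 s) = s • v := fun s => by
    show A (Pi.single 0 s) = _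
    funext j
    by_cases h : j = i
    · simp [A, h]
    · have : Equiv.swap 0 i j ≠ 0 := fun he => h (by simpa using congrArg (Equiv.swap 0 i) he)
      simp [A, h, this]
  obtain ⟨r₀, f, hr₀, hf, hFL⟩ := exists_ofSer (comap L (mk F hF))
  have hex : ∃ d, MvPowerSeries.coeff (Finsupp.cons d 0) f ≠ 0 := by
    by_contra! hall
    apply hv
    have hev : (F ∘ L) =ᶠ[𝓝 0] fun z => evalS z f := Germ.coe_eq.1 (congrArg Subtype.val hFL :)
    have hs : Tendsto (fun s : ℂ => (Pi.single 0 s : Fin (n + 1) → ℂ)) (𝓝 0) (𝓝 0) :=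
      Continuous.tendsto' (continuous_single 0) _ _ (by simp)
    filter_upwards [hs.eventually hev] with s hs'
    simp only [Function.comp_apply, hL] at hs'
    rw [hs', evalS, tsum_congr (fun a => ?_), tsum_zero]
    by_cases ht : Finsupp.tail a = 0
    · rw [← Finsupp.cons_tail a, ht, hall, zero_mul]
    · obtain ⟨j, hj⟩ : ∃ j, Finsupp.tail a j ≠ 0 := by
        by_contra! hc
        exact ht (Finsupp.ext hc)
      rw [mon_cons, mon, Finset.prod_eq_zero (Finset.mem_univ j), mul_zero, mul_zero]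
      show (Pi.single 0 s : Fin (n + 1) → ℂ) j.succ ^ _ = 0
      rw [Pi.single_eq_of_ne (Fin.succ_ne_zero j), zero_pow hj]
  exact ⟨L, r₀, f, hr₀, hf, Nat.find hex, hFL, Nat.find_spec hex,
    fun k hk => by_contra fun h => Nat.find_min hex hk h⟩

theorem isNoetherianRing_zero : IsNoetherianRing (holGerm 0) :=
  isNoetherianRing_of_surjective ℂ _ const fun φ => by
    obtain ⟨F, hF, rfl⟩ := exists_rep φ
    exact ⟨F 0, (mk_eq_mk (hF := Eventually.of_forall fun _ => differentiableAt_const _)).2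
      (Eventually.of_forall fun x => congrArg F (Subsingleton.elim 0 x))⟩

instance isNoetherianRing (n : ℕ) : IsNoetherianRing (holGerm n) := by
  classical
  induction n with
  | zero => exact isNoetherianRing_zero
  | succ n ih =>
    refine (isNoetherianRing_iff_ideal_fg _).2 fun I => ?_
    rcases eq_or_ne I ⊥ with rfl | hI
    · exact Submodule.fg_bot
    obtain ⟨φ, hφI, hφ⟩ := Submodule.exists_mem_ne_zero_of_ne_bot hI
    obtain ⟨L, r₀, f, hr₀, hf, d, hLf, hd, hlow⟩ := exists_regular hφ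
    set ψ := comap L φ
    set Q := holGerm (n + 1) ⧸ Ideal.span {ψ}
    let π : holGerm (n + 1) →+* Q := Ideal.Quotient.mk _
    letI : Algebra (holGerm n) Q := (π.comp inclTail).toAlgebra
    have hspan : Submodule.span (holGerm n) (Set.range fun i : Fin d => π (coord 0 ^ (i : ℕ))) = ⊤ := by
      refine eq_top_iff.2 fun x _ => ?_
      obtain ⟨g, rfl⟩ := Ideal.Quotient.mk_surjective x
      obtain ⟨q, c, rfl⟩ := exists_division_of_regular hr₀ hf hd hlow g
      have hψ : π (ofSer (fun _ => hr₀) f hf) = 0 := by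
        rw [← hLf]
        exact Ideal.Quotient.eq_zero_iff_mem.2 (Ideal.mem_span_singleton_self ψ)
      show π _ ∈ _
      rw [map_add, map_mul, hψ, zero_mul, zero_add, map_sum]
      refine Submodule.sum_mem _ fun i _ => ?_
      rw [map_mul]
      exact Submodule.smul_mem _ (c i) (Submodule.subset_span ⟨i, rfl⟩)
    have : Module.Finite (holGerm n) Q := ⟨⟨Finset.univ.image fun i : Fin d => π (coord 0 ^ (i : ℕ)), by
      rw [Finset.coe_image, Finset.coe_univ, Set.image_univ, hspan]⟩⟩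
    have hQ : IsNoetherianRing Q := isNoetherian_of_tower (holGerm n) inferInstance
    have key : ∀ J : Ideal (holGerm (n + 1)), ψ ∈ J → J.FG := by
      intro J hJ
      obtain ⟨S, hS⟩ : (J.map π).FG := (isNoetherianRing_iff_ideal_fg Q).1 hQ _
      choose t ht using fun x : Q => Ideal.Quotient.mk_surjective (I := Ideal.span {ψ}) x
      refine ⟨insert ψ (S.image t), ?_⟩
      have h1 : Ideal.map π (Ideal.span (t '' (S : Set Q))) = J.map π := by
        rw [Ideal.map_span, Set.image_image, ← hS]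
        simp only [π, ht, Set.image_id']
      have h2 := congrArg (Ideal.comap π) h1
      rw [Ideal.comap_map_of_surjective π Ideal.Quotient.mk_surjective,
        Ideal.comap_map_of_surjective π Ideal.Quotient.mk_surjective,
        show Ideal.comap π ⊥ = Ideal.span {ψ} from Ideal.mk_ker,
        sup_eq_left.2 ((Ideal.span_singleton_le_iff_mem _).2 hJ)] at h2
      show Ideal.span _ = J
      rw [Finset.coe_insert, Finset.coe_image, Set.insert_eq, Ideal.span_union, sup_comm]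
      exact h2
    obtain ⟨S, hS⟩ := key (I.map (comapEquiv L : holGerm (n + 1) →+* holGerm (n + 1))) (Ideal.mem_map_of_mem _ hφI)
    refine ⟨S.image (comapEquiv L).symm, ?_⟩
    have h3 := congrArg (Ideal.map ((comapEquiv L).symm : holGerm (n + 1) →+* holGerm (n + 1))) hS
    rw [Ideal.map_span, Ideal.map_map, show (((comapEquiv L).symm : holGerm (n + 1) →+* holGerm (n + 1)).comp
        (comapEquiv L : holGerm (n + 1) →+* holGerm (n + 1))) = RingHom.id _ from
      RingHom.ext fun x => (comapEquiv L).symm_apply_apply x, Ideal.map_id] at h3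
    rw [Finset.coe_image]
    exact h3

end holGerm

end Groth.Agent.An92
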