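import Mathlib.RingTheory.MvPowerSeries.Basic
import Mathlib.Analysis.Complex.Liouville
import Mathlib.Analysis.Calculus.SmoothSeries
import Mathlib.Analysis.Calculus.FDeriv.Mul
import Mathlib.Analysis.Normed.Ring.InfiniteSum
import Mathlib.Analysis.Calculus.FDeriv.Linear

/-!
Convergent power series in several complex variables: majorant masses, evaluation, differentiability.
-/

set_option autoImplicit false

noncomputable section

open Finset
open scoped NNReal ENNReal Topology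

namespace Groth.Agent.An92

/-- Power series in `n` variables over `ℂ`. -/
abbrev Ser (n : ℕ) : Type := MvPowerSeries (Fin n) ℂ

variable {n : ℕ}

/-- The monomial function. -/
def mon {K : Type} [CommMonoid K] (x : Fin n → K) (a : Fin n →₀ ℕ) : K := ∏ i, x i ^ a i

theorem mon_add {K : Type} [CommMonoid K] (x : Fin n → K) (a b : Fin n →₀ ℕ) :
    mon x (a + b) = mon x a * mon x b := by
  simp [mon, pow_add, Finset.prod_mul_distrib]

theorem mon_zero {K : Type} [CommMonoid K] (x : Fin n → K) : mon x 0 = 1 := by simp [mon]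

theorem nnnorm_mon (z : Fin n → ℂ) (a : Fin n →₀ ℕ) : ‖mon z a‖₊ = mon (fun i => ‖z i‖₊) a := by
  simp [mon, nnnorm_prod]

theorem mon_le_mon {r r' : Fin n → ℝ≥0} (h : ∀ i, r i ≤ r' i) (a : Fin n →₀ ℕ) : mon r a ≤ mon r' a :=
  Finset.prod_le_prod' fun i _ => pow_le_pow_left' (h i) _

/-- The majorant mass of a series at radii `r`. -/
def mass (r : Fin n → ℝ≥0) (f : Ser n) : ℝ≥0∞ :=
  ∑' a, ((‖MvPowerSeries.coeff a f‖₊ * mon r a : ℝ≥0) : ℝ≥0∞)

theorem mass_mono {r r' : Fin n → ℝ≥0} (h : ∀ i, r i ≤ r' i) (f : Ser n) : mass r f ≤ mass r' f :=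
  ENNReal.tsum_le_tsum fun a => ENNReal.coe_le_coe.2 (mul_le_mul_right (mon_le_mon h a) _)

theorem mass_add_le (r : Fin n → ℝ≥0) (f g : Ser n) : mass r (f + g) ≤ mass r f + mass r g := by
  rw [mass, mass, mass, ← ENNReal.tsum_add]
  refine ENNReal.tsum_le_tsum fun a => ?_
  rw [← ENNReal.coe_add, ENNReal.coe_le_coe, ← add_mul, map_add]
  exact mul_le_mul_left (nnnorm_add_le _ _) _

theorem mass_neg (r : Fin n → ℝ≥0) (f : Ser n) : mass r (-f) = mass r f := by
  simp [mass]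

theorem mass_mul_le (r : Fin n → ℝ≥0) (f g : Ser n) : mass r (f * g) ≤ mass r f * mass r g := by
  classical
  rw [mass, mass, mass, ← ENNReal.tsum_mul_right]
  simp_rw [← ENNReal.tsum_mul_left]
  rw [← ENNReal.tsum_prod,
    ← Finset.HasAntidiagonal.sigmaAntidiagonalEquivProd.tsum_eq (fun p : (Fin n →₀ ℕ) × (Fin n →₀ ℕ) => _),
    ENNReal.tsum_sigma']
  refine ENNReal.tsum_le_tsum fun a => ?_
  rw [tsum_fintype, MvPowerSeries.coeff_mul]
  simp only [Finset.HasAntidiagonal.sigmaAntidiagonalEquivProd_apply, ← ENNReal.coe_mul, ← ENNReal.ofNNReal_finsetSum,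
    ENNReal.coe_le_coe]
  rw [Finset.univ_eq_attach, Finset.sum_attach (antidiagonal a) (fun p : (Fin n →₀ ℕ) × (Fin n →₀ ℕ) => ‖MvPowerSeries.coeff p.1 f‖₊ * mon r p.1 *
    (‖MvPowerSeries.coeff p.2 g‖₊ * mon r p.2))]
  refine (mul_le_mul_left (nnnorm_sum_le _ _) _).trans (le_of_eq ?_)
  rw [Finset.sum_mul]
  refine Finset.sum_congr rfl fun p hp => ?_
  rw [nnnorm_mul, ← Finset.HasAntidiagonal.mem_antidiagonal.1 hp, mon_add]
  ring

theorem mass_C (r : Fin n → ℝ≥0) (c : ℂ) : mass r (MvPowerSeries.C c) = (‖c‖₊ : ℝ≥0∞) := by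
  classical
  rw [mass, tsum_eq_single 0 fun a ha => by simp [MvPowerSeries.coeff_C, ha]]
  simp [mon_zero]

theorem mass_X (r : Fin n → ℝ≥0) (i : Fin n) : mass r (MvPowerSeries.X i) = (r i : ℝ≥0∞) := by
  classical
  rw [mass, tsum_eq_single (Finsupp.single i 1) fun a ha => by simp [MvPowerSeries.coeff_X, ha]]
  simp [MvPowerSeries.coeff_X, mon, Finsupp.single_apply]

/-- The sum of a series at a point. -/
def evalS (z : Fin n → ℂ) (f : Ser n) : ℂ := ∑' a, MvPowerSeries.coeff a f * mon z a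

theorem summable_norm_term {r : Fin n → ℝ≥0} {f : Ser n} (hf : mass r f ≠ ⊤) {z : Fin n → ℂ}
    (hz : ∀ i, ‖z i‖₊ ≤ r i) : Summable fun a => ‖MvPowerSeries.coeff a f * mon z a‖ := by
  refine Summable.of_nonneg_of_le (fun _ => norm_nonneg _) (fun a => ?_)
    (NNReal.summable_coe.2 (ENNReal.tsum_coe_ne_top_iff_summable.1 hf))
  rw [← coe_nnnorm, NNReal.coe_le_coe, nnnorm_mul, nnnorm_mon]
  exact mul_le_mul_right (mon_le_mon hz a) _

theorem summable_term {r : Fin n → ℝ≥0} {f : Ser n} (hf : mass r f ≠ ⊤) {z : Fin n → ℂ}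
    (hz : ∀ i, ‖z i‖₊ ≤ r i) : Summable fun a => MvPowerSeries.coeff a f * mon z a :=
  (summable_norm_term hf hz).of_norm

theorem nnnorm_evalS_le {r : Fin n → ℝ≥0} {f : Ser n} {z : Fin n → ℂ}
    (hz : ∀ i, ‖z i‖₊ ≤ r i) : (‖evalS z f‖₊ : ℝ≥0∞) ≤ mass r f := by
  show ‖evalS z f‖ₑ ≤ _
  refine (enorm_tsum_le_tsum_enorm (f := fun a => MvPowerSeries.coeff a f * mon z a)).trans
    (ENNReal.tsum_le_tsum fun a => ?_)
  rw [enorm_eq_nnnorm, ENNReal.coe_le_coe, nnnorm_mul, nnnorm_mon]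
  exact mul_le_mul_right (mon_le_mon hz a) _

theorem evalS_add {r : Fin n → ℝ≥0} {f g : Ser n} (hf : mass r f ≠ ⊤) (hg : mass r g ≠ ⊤)
    {z : Fin n → ℂ} (hz : ∀ i, ‖z i‖₊ ≤ r i) : evalS z (f + g) = evalS z f + evalS z g := by
  rw [evalS, evalS, evalS, ← (summable_term hf hz).tsum_add (summable_term hg hz)]
  simp [add_mul]

theorem evalS_C (z : Fin n → ℂ) (c : ℂ) : evalS z (MvPowerSeries.C c) = c := by
  classical
  rw [evalS, tsum_eq_single 0 fun a ha => by simp [MvPowerSeries.coeff_C, ha]]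
  simp [mon_zero]

theorem evalS_X (z : Fin n → ℂ) (i : Fin n) : evalS z (MvPowerSeries.X i) = z i := by
  classical
  rw [evalS, tsum_eq_single (Finsupp.single i 1) fun a ha => by simp [MvPowerSeries.coeff_X, ha]]
  simp [MvPowerSeries.coeff_X, mon, Finsupp.single_apply]

theorem evalS_mul {r : Fin n → ℝ≥0} {f g : Ser n} (hf : mass r f ≠ ⊤) (hg : mass r g ≠ ⊤)
    {z : Fin n → ℂ} (hz : ∀ i, ‖z i‖₊ ≤ r i) : evalS z (f * g) = evalS z f * evalS z g := by
  classical
  have h1 := summable_norm_term hf hz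
  have h2 := summable_norm_term hg hz
  have h3 : Summable fun x : (Fin n →₀ ℕ) × (Fin n →₀ ℕ) =>
      (MvPowerSeries.coeff x.1 f * mon z x.1) * (MvPowerSeries.coeff x.2 g * mon z x.2) :=
    summable_mul_of_summable_norm (R := ℂ) (f := fun a => MvPowerSeries.coeff a f * mon z a)
      (g := fun a => MvPowerSeries.coeff a g * mon z a) h1 h2
  unfold evalS
  rw [h1.of_norm.tsum_mul_tsum_eq_tsum_sum_antidiagonal h2.of_norm h3]
  refine tsum_congr fun a => ?_
  rw [MvPowerSeries.coeff_mul, Finset.sum_mul]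
  refine Finset.sum_congr rfl fun p hp => ?_
  rw [← Finset.HasAntidiagonal.mem_antidiagonal.1 hp, mon_add]
  ring

theorem evalS_zero_arg (f : Ser n) : evalS 0 f = MvPowerSeries.constantCoeff f := by
  classical
  rw [evalS, tsum_eq_single 0 fun a ha => ?_]
  · simp [mon_zero]
  · rw [mul_eq_zero]
    obtain ⟨i, hi⟩ : ∃ i, a i ≠ 0 := by
      by_contra! h
      exact ha (Finsupp.ext h)
    right
    show ∏ j, (0 : Fin n → ℂ) j ^ a j = 0
    exact Finset.prod_eq_zero (Finset.mem_univ i) (zero_pow hi)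

theorem differentiableOn_evalS {r : ℝ≥0} {f : Ser n} (hf : mass (fun _ => r) f ≠ ⊤) :
    DifferentiableOn ℂ (fun z => evalS z f) (Metric.ball (0 : Fin n → ℂ) ((r : ℝ) / 2)) := by
  intro x hx
  have hr : 0 < (r : ℝ) / 2 := dist_nonneg.trans_lt hx
  refine DifferentiableAt.differentiableWithinAt ?_
  let F : (Fin n →₀ ℕ) → (Fin n → ℂ) → ℂ := fun a z => MvPowerSeries.coeff a f * mon z a
  have hF : ∀ a, Differentiable ℂ (F a) := fun a => by
    simp only [F, mon]
    fun_prop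
  have hle : ∀ z : Fin n → ℂ, ‖z‖ ≤ r → ∀ a, ‖F a z‖ ≤ ((‖MvPowerSeries.coeff a f‖₊ * mon (fun _ => r) a : ℝ≥0) : ℝ) := by
    intro z hz a
    rw [← coe_nnnorm, NNReal.coe_le_coe, nnnorm_mul, nnnorm_mon]
    exact mul_le_mul_right (mon_le_mon (r := fun i => ‖z i‖₊) (r' := fun _ => r) (fun i => NNReal.coe_le_coe.1 ((norm_le_pi_norm z i).trans hz)) a) _
  have hb : ∀ a z, z ∈ Metric.ball (0 : Fin n → ℂ) ((r : ℝ) / 2) →
      ‖fderiv ℂ (F a) z‖ ≤ ((‖MvPowerSeries.coeff a f‖₊ * mon (fun _ => r) a : ℝ≥0) : ℝ) / ((r : ℝ) / 2) := by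
    intro a z hz
    refine ContinuousLinearMap.opNorm_le_of_unit_norm (by positivity) fun v hv => ?_
    have hcomp : Differentiable ℂ fun t : ℂ => F a (z + t • v) := (hF a).comp (by fun_prop)
    have hd : deriv (fun t : ℂ => F a (z + t • v)) 0 = fderiv ℂ (F a) z v := by
      refine HasDerivAt.deriv ?_
      have h1 : HasDerivAt (fun t : ℂ => z + t • v) v 0 := by
        simpa using ((hasDerivAt_id (0 : ℂ)).smul_const v).const_add z
      exact (((hF a) z).hasFDerivAt).comp_hasDerivAt_of_eq 0 h1 (by simp)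
    rw [← hd]
    refine Complex.norm_deriv_le_of_forall_mem_sphere_norm_le hr hcomp.diffContOnCl fun t ht => hle _ ?_ a
    refine (norm_add_le _ _).trans ?_
    rw [norm_smul, hv, mul_one, mem_sphere_zero_iff_norm.1 ht]
    linarith [mem_ball_zero_iff.1 hz]
  refine (hasFDerivAt_tsum_of_isPreconnected (f := F) (f' := fun a z => fderiv ℂ (F a) z)
    ((NNReal.summable_coe.2 (ENNReal.tsum_coe_ne_top_iff_summable.1 hf)).div_const _)
    Metric.isOpen_ball (convex_ball 0 _).isPreconnected (fun a z _ => ((hF a) z).hasFDerivAt) hb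
    (Metric.mem_ball_self hr) (summable_term hf (z := 0) fun i => by simp) hx).differentiableAt

end Groth.Agent.An92
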