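import Groth.Agent.An92.Germ.AnFibre
import Groth.Agent.EGA4H10.NormalFlat
import Groth.Agent.CAlg1.SkFlat
import Groth.Agent.CAlg6.RegularNormal
import Groth.Agent.S9437
import Groth.Agent.S9438
import Groth.Agent.S2609

/-!
Serre conditions and normality: comparison of the algebraic and the analytic local rings.
-/

set_option autoImplicit false

noncomputable section

open IsLocalRing

universe u

namespace Groth.Agent.An92

section Generic

variable (R S : Type u) [CommRing R] [CommRing S] [IsLocalRing R] [IsLocalRing S] [IsNoetherianRing R]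
  [IsNoetherianRing S] [Algebra R S] [Module.Flat R S] [IsLocalHom (algebraMap R S)]

omit [IsLocalRing R] [IsLocalRing S] [IsNoetherianRing R] [IsNoetherianRing S] [Module.Flat R S]
  [IsLocalHom (algebraMap R S)] in
theorem regular_fiber_of_fibLocRing
    (hfib : ∀ (q : Ideal S) [q.IsPrime], IsRegularLocalRing (EGA4.FibLocRing R S q))
    (p : Ideal R) [p.IsPrime] (Qf : Ideal (p.Fiber S)) [Qf.IsPrime] :
    IsRegularLocalRing (Localization.AtPrime Qf) := by
  set q := Qf.comap (Algebra.TensorProduct.includeRight : S →ₐ[R] p.Fiber S) with hq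
  have hqp : q.comap (algebraMap R S) = p := by
    have h := (PrimeSpectrum.preimageEquivFiber R S ⟨p, inferInstance⟩).symm ⟨Qf, inferInstance⟩
    have h2 : (((PrimeSpectrum.preimageEquivFiber R S ⟨p, inferInstance⟩).symm ⟨Qf, inferInstance⟩).1).asIdeal = q := rfl
    have h3 := congrArg PrimeSpectrum.asIdeal
      ((PrimeSpectrum.preimageEquivFiber R S ⟨p, inferInstance⟩).symm ⟨Qf, inferInstance⟩).2
    rw [← h2]
    exact h3
  have : q.LiesOver p := ⟨hqp.symm⟩
  let := Localization.AtPrime.algebraOfLiesOver p q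
  have h4 := hfib q
  have key : ∀ (p' : Ideal R), p' = p →
      (Nonempty ((Localization.AtPrime q ⧸ p'.map (algebraMap R (Localization.AtPrime q))) ≃+*
        (Localization.AtPrime q ⧸ p.map (algebraMap R (Localization.AtPrime q))))) := by
    rintro _ rfl
    exact ⟨RingEquiv.refl _⟩
  obtain ⟨e⟩ := key _ hqp
  exact @IsRegularLocalRing.of_ringEquiv _ _ h4 _ _
    (e.trans (Ideal.Fiber.localizationAlgEquivQuotient p Qf).toRingEquiv.symm)

theorem hasSk_self_of_regular {T : Type u} [CommRing T] [IsNoetherianRing T]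
    (h : ∀ (P : Ideal T) [P.IsPrime], IsRegularLocalRing (Localization.AtPrime P)) (k : ℕ) :
    LocCoh.HasSk k T T := by
  rw [CAlg1.hasSk_self_iff]
  intro P _
  have := h P
  obtain ⟨d, hd⟩ : ∃ d : ℕ, ringKrullDim (Localization.AtPrime P) = d :=
    ⟨_, (IsRegularLocalRing.spanFinrank_maximalIdeal (R := Localization.AtPrime P)).symm⟩
  rw [CAlg1.depth_regular _ hd]
  rw [IsLocalization.AtPrime.ringKrullDim_eq_height P, ← WithBot.coe_natCast, WithBot.coe_eq_coe] at hd
  rw [hd]
  exact min_le_right _ _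

theorem hasSk_iff_of_regular_fibres
    (hfib : ∀ (q : Ideal S) [q.IsPrime], IsRegularLocalRing (EGA4.FibLocRing R S q)) (k : ℕ) :
    LocCoh.HasSk k R R ↔ LocCoh.HasSk k S S := by
  have : Module.FaithfullyFlat R S := Module.FaithfullyFlat.of_flat_of_isLocalHom
  refine ⟨fun h => CAlg1.hasSk_of_flat_of_fibres k h fun p _ => ?_, fun h => (S9437.result k R S h).2⟩
  have := CAlg1.isNoetherianRing_fiber (S := S) p
  exact hasSk_self_of_regular (fun P _ => regular_fiber_of_fibLocRing R S hfib p P) k

omit [IsLocalRing R] [IsNoetherianRing S] [Module.Flat R S] [IsLocalHom (algebraMap R S)] in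
theorem hasRk_regular {W : Type u} [CommRing W] [IsRegularLocalRing W] (k : ℕ) : LocCoh.HasRk k W :=
  fun P _ _ => CAlg1.regular_localization W P

theorem hasRk_iff_of_regular_fibres
    (hfib : ∀ (q : Ideal S) [q.IsPrime], IsRegularLocalRing (EGA4.FibLocRing R S q)) (k : ℕ) :
    LocCoh.HasRk k R ↔ LocCoh.HasRk k S := by
  have : Module.FaithfullyFlat R S := Module.FaithfullyFlat.of_flat_of_isLocalHom
  refine ⟨fun h q _ hq => ?_, fun h => (S9438.result k R S h).2⟩
  have h1 := S2609.result k R S (fun r _ => by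
    have := hfib r
    exact hasRk_regular (W := EGA4.FibLocRing R S r) k) q
    ((EGA4H10.hasRkAt_iff k _).2 fun r _ hr => h r.asIdeal hr)
  exact (EGA4H10.hasRkAt_iff k q).1 h1 ⟨q, inferInstance⟩ le_rfl hq

omit [IsNoetherianRing S] in
theorem atMaximal (A : Type u) [CommRing A] [IsLocalRing A] :
    Nonempty (A ≃+* Localization.AtPrime (maximalIdeal A)) :=
  ⟨(IsLocalization.atUnits A (maximalIdeal A).primeCompl (S := Localization.AtPrime (maximalIdeal A))
    fun x hx => by_contra fun h => hx ((mem_maximalIdeal x).2 h)).toRingEquiv⟩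

theorem normal_iff_of_regular_fibres
    (hfib : ∀ (q : Ideal S) [q.IsPrime], IsRegularLocalRing (EGA4.FibLocRing R S q)) :
    (IsDomain R ∧ IsIntegrallyClosed R) ↔ (IsDomain S ∧ IsIntegrallyClosed S) := by
  obtain ⟨eS⟩ := atMaximal S
  have hc : (maximalIdeal S).comap (algebraMap R S) = maximalIdeal R :=
    ((IsLocalRing.local_hom_TFAE (algebraMap R S)).out 0 4).1 ‹_›
  constructor
  · rintro ⟨_, _⟩
    have hN := EGA4H10.normal_of_domain R ((maximalIdeal S).comap (algebraMap R S))
    obtain ⟨hd, hi⟩ := EGA4H10.normal_localization_of_flat R S (fun q _ => by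
      have := hfib q
      exact ⟨CAlg1.isDomain_regular _, CAlg6.isIntegrallyClosed_of_regular _⟩) (maximalIdeal S) hN.1 hN.2
    exact ⟨eS.toMulEquiv.isDomain _, @IsIntegrallyClosed.of_equiv _ _ _ _ eS.symm hi⟩
  · rintro ⟨_, _⟩
    have hN := EGA4H10.normal_of_domain S (maximalIdeal S)
    have h := EGA4H10.normal_base_of_flat R S (maximalIdeal S) hN.1 hN.2
    have key : ∀ (P : Ideal R) [P.IsPrime], P = maximalIdeal R →
        IsDomain (Localization.AtPrime P) ∧ IsIntegrallyClosed (Localization.AtPrime P) →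
          IsDomain R ∧ IsIntegrallyClosed R := by
      intro P _ hP ⟨hd, hi⟩
      subst hP
      obtain ⟨eR⟩ := atMaximal R
      exact ⟨eR.toMulEquiv.isDomain _, @IsIntegrallyClosed.of_equiv _ _ _ _ eR.symm hi⟩
    exact key _ hc h

end Generic

end Groth.Agent.An92
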