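import Groth.Prelude.Def_AnHol
import Groth.Agent.An92.Germ.Ring
import Groth.Agent.An92.Germ.Order
import Groth.Agent.An92.UnivClosed
import Mathlib.Geometry.RingedSpace.Stalks
import Mathlib.Analysis.Calculus.FDeriv.Mul
import Mathlib.Analysis.Calculus.Deriv.Inv
import Mathlib.Analysis.Calculus.FDeriv.Comp
import Mathlib.Analysis.Asymptotics.Lemmas

/-!
The stalks of the sheaf of holomorphic functions at a complex point.
-/

set_option autoImplicit false

noncomputable section

open AlgebraicGeometry CategoryTheory TopologicalSpace Topology Filter Opposite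

namespace Groth.Agent.An92

namespace holGerm

variable {n : ℕ}

theorem sub_const_mem (φ : holGerm n) :
    φ - const (value φ) ∈ IsLocalRing.maximalIdeal (holGerm n) := by
  rw [mem_maximalIdeal, map_sub]
  exact sub_self _

theorem maximalIdeal_eq_span_coord :
    IsLocalRing.maximalIdeal (holGerm n) = Ideal.span (Set.range (coord : Fin n → holGerm n)) := by
  refine le_antisymm ?_ (Ideal.span_le.2 ?_)
  · induction n with
    | zero =>
      intro φ hφ
      obtain ⟨F, hF, rfl⟩ := exists_rep φ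
      have h : mk F hF = 0 := Subtype.ext (Germ.coe_eq.2 (Eventually.of_forall fun x => by
        rw [Subsingleton.elim x 0]; exact mem_maximalIdeal.1 hφ))
      rw [h]
      exact Submodule.zero_mem _
    | succ n ih =>
      intro φ hφ
      have hX : mass (fun _ : Fin (n + 1) => (1 : NNReal)) (MvPowerSeries.X 0 : Ser (n + 1)) ≠ ⊤ := by
        classical
        rw [mass, tsum_eq_single (Finsupp.single 0 1) fun a ha => by
          simp [MvPowerSeries.coeff_X, ha]]
        exact ENNReal.coe_ne_top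
      have hd : MvPowerSeries.coeff (Finsupp.cons 1 0) (MvPowerSeries.X 0 : Ser (n + 1)) ≠ 0 := by
        classical
        rw [show (Finsupp.cons 1 (0 : Fin n →₀ ℕ)) = Finsupp.single 0 1 from Finsupp.ext fun j =>
          Fin.cases (by simp) (fun j => by simp [Finsupp.single_eq_of_ne (Fin.succ_ne_zero j)]) j]
        simp [MvPowerSeries.coeff_X]
      obtain ⟨q, c, hqc⟩ := exists_division_of_regular (r₀ := 1) one_pos hX (d := 1) hd
        (fun k hk => by
          classical
          obtain rfl : k = 0 := by omega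
          rw [Finsupp.cons_zero_zero, MvPowerSeries.coeff_X, if_neg]
          exact fun h => by simpa using congrArg (fun a : Fin (n + 1) →₀ ℕ => a 0) h) φ
      have h0 : ofSer (fun _ => one_pos) (MvPowerSeries.X 0 : Ser (n + 1)) hX = coord 0 :=
        Subtype.ext (Germ.coe_eq.2 (Eventually.of_forall fun z => evalS_X z 0))
      rw [h0, Fin.sum_univ_one, Fin.val_zero, pow_zero, mul_one] at hqc
      have hc : c 0 ∈ IsLocalRing.maximalIdeal (holGerm n) := by
        rw [mem_maximalIdeal]
        have h1 := congrArg value hqc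
        rw [mem_maximalIdeal.1 hφ, map_add, map_mul, show value (coord (0 : Fin (n + 1))) = 0 from rfl,
          zero_mul, zero_add] at h1
        obtain ⟨F, hF, hFc⟩ := exists_rep (c 0)
        rw [← hFc] at h1 ⊢
        exact h1.symm
      rw [hqc]
      refine Submodule.add_mem _ (Ideal.mul_mem_right _ _ (Ideal.subset_span ⟨0, rfl⟩)) ?_
      have h2 : (Ideal.span (Set.range (coord : Fin n → holGerm n))).map inclTail ≤
          Ideal.span (Set.range (coord : Fin (n + 1) → holGerm (n + 1))) := by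
        rw [Ideal.map_span, Ideal.span_le]
        rintro _ ⟨_, ⟨i, rfl⟩, rfl⟩
        exact Ideal.subset_span ⟨i.succ, rfl⟩
      exact h2 (Ideal.mem_map_of_mem _ (ih hc))
  · rintro _ ⟨i, rfl⟩
    exact mem_maximalIdeal.2 rfl

theorem isBigO_of_mem_pow {M : ℕ} {F : (Fin n → ℂ) → ℂ} {hF}
    (h : mk F hF ∈ IsLocalRing.maximalIdeal (holGerm n) ^ M) :
    F =O[𝓝 0] fun w => ‖w‖ ^ M := by
  induction M generalizing F with
  | zero =>
    simp only [pow_zero]
    exact hF.self_of_nhds.continuousAt.isBigO_one ℝ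
  | succ M ih =>
    suffices ∀ φ ∈ IsLocalRing.maximalIdeal (holGerm n) ^ (M + 1), ∀ F hF, mk F hF = φ →
        F =O[𝓝 0] fun w => ‖w‖ ^ (M + 1) from this _ h F hF rfl
    intro φ hφ
    rw [pow_succ] at hφ
    induction hφ using Submodule.mul_induction_on' with
    | mem_mul_mem a ha b hb =>
      intro F hF hFab
      obtain ⟨A, hA, rfl⟩ := exists_rep a
      obtain ⟨B, hB, rfl⟩ := exists_rep b
      have hB0 : B 0 = 0 := mem_maximalIdeal.1 hb
      have h1 : B =O[𝓝 0] fun w => ‖w‖ := by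
        simpa [hB0] using hB.self_of_nhds.isBigO_sub.norm_right
      exact ((ih ha).mul h1).congr' (Filter.EventuallyEq.symm (mk_eq_mk.1
        (hFab.trans (show _ = mk (A * B) ((hA.and hB).mono fun x h => h.1.mul h.2) from rfl))))
        (Eventually.of_forall fun w => (pow_succ _ _).symm)
    | add a _ b _ iha ihb =>
      intro F hF hFab
      obtain ⟨A, hA, rfl⟩ := exists_rep a
      obtain ⟨B, hB, rfl⟩ := exists_rep b
      exact ((iha A hA rfl).add (ihb B hB rfl)).congr' (Filter.EventuallyEq.symm (mk_eq_mk.1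
        (hFab.trans (show _ = mk (A + B) ((hA.and hB).mono fun x h => h.1.add h.2) from rfl))))
        EventuallyEq.rfl

end holGerm

open An An.Pts

variable {X : Scheme.{0}} [X.Over SC]

open scoped Classical in
/-- Extension by zero of a function on an open set. -/
def extFun {V : Opens (top X)} (g : V → ℂ) (y : Pts X) : ℂ :=
  if h : y ∈ V then g ⟨y, h⟩ else 0

theorem extFun_of_mem {V : Opens (top X)} (g : V → ℂ) {y : Pts X} (h : y ∈ V) :
    extFun g y = g ⟨y, h⟩ := dif_pos h

/-- The germ at `x` of a function on an open neighbourhood of `x`. -/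
def funGerm {V : Opens (top X)} (x : Pts X) (hx : x ∈ V) :
    (V → ℂ) →+* Germ (𝓝 x) ℂ where
  toFun g := (extFun g : Pts X → ℂ)
  map_one' := Germ.coe_eq.2 <| by
    filter_upwards [V.2.mem_nhds hx] with y hy
    exact extFun_of_mem _ hy
  map_zero' := Germ.coe_eq.2 <| by
    filter_upwards [V.2.mem_nhds hx] with y hy
    exact extFun_of_mem _ hy
  map_mul' f g := Germ.coe_eq.2 <| by
    filter_upwards [V.2.mem_nhds hx] with y hy
    show extFun (f * g) y = extFun f y * extFun g y
    rw [extFun_of_mem _ hy, extFun_of_mem _ hy, extFun_of_mem _ hy]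
    rfl
  map_add' f g := Germ.coe_eq.2 <| by
    filter_upwards [V.2.mem_nhds hx] with y hy
    show extFun (f + g) y = extFun f y + extFun g y
    rw [extFun_of_mem _ hy, extFun_of_mem _ hy, extFun_of_mem _ hy]
    rfl

theorem funGerm_eq_coe {V : Opens (top X)} (x : Pts X) (hx : x ∈ V) (g : V → ℂ) (G : Pts X → ℂ)
    (h : ∀ᶠ y in 𝓝 x, ∀ hy : y ∈ V, g ⟨y, hy⟩ = G y) : funGerm x hx g = (G : Germ (𝓝 x) ℂ) :=
  Germ.coe_eq.2 (by
    filter_upwards [V.2.mem_nhds hx, h] with y hy hg
    exact (extFun_of_mem g hy).trans (hg hy))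

theorem funGerm_res {U V : Opens (top X)} (i : U ⟶ V) (x : Pts X) (hx : x ∈ U) (g : V → ℂ) :
    funGerm x hx (fun y => g (i y)) = funGerm x (i.le hx) g :=
  funGerm_eq_coe x hx _ _ (Eventually.of_forall fun y hy =>
    (extFun_of_mem g (i.le hy)).symm)

/-- The cocone of germs of functions on the holomorphic functions near a point. -/
def germCocone (x : top X) : Limits.Cocone ((OpenNhds.inclusion x).op ⋙ holPresheaf X) where
  pt := CommRingCat.of (Germ (𝓝 (show Pts X from x)) ℂ)
  ι :=
    { app := fun U => CommRingCat.ofHom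
        ((funGerm (show Pts X from x) U.unop.2).comp (holSub U.unop.1).val.toRingHom)
      naturality := fun U V i => by
        ext f
        exact funGerm_res ((OpenNhds.inclusion x).map i.unop) x V.unop.2 f.1 }

/-- The map induced by `germCocone` on the stalk. -/
def toGermAux (x : top X) : (holPresheaf X).stalk x ⟶ CommRingCat.of (Germ (𝓝 (show Pts X from x)) ℂ) :=
  Limits.colimit.desc _ (germCocone x)

theorem toGermAux_germ (x : top X) (V : Opens (top X)) (hx : x ∈ V) :
    (holPresheaf X).germ V x hx ≫ toGermAux x = (germCocone x).ι.app (op ⟨V, hx⟩) :=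
  Limits.colimit.ι_desc (germCocone x) (op ⟨V, hx⟩)

/-- The germ at `x` of a holomorphic function, as a germ of a function. -/
def toGerm (x : Pts X) : (anSpace X).presheaf.stalk x →+* Germ (𝓝 x) ℂ :=
  (toGermAux (X := X) x).hom

theorem toGerm_germ (x : Pts X) (V : Opens (top X)) (hx : x ∈ V)
    (f : (holPresheaf X).obj (op V)) :
    toGerm x ((anSpace X).presheaf.germ V x hx f) = funGerm x hx f.1 :=
  ConcreteCategory.congr_hom (toGermAux_germ (X := X) x V hx) f

theorem toGerm_injective (x : Pts X) : Function.Injective (toGerm (X := X) x) := by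
  intro a b hab
  obtain ⟨U, hU, f, rfl⟩ := (anSpace X).presheaf.exists_germ_eq a
  obtain ⟨V, hV, g, rfl⟩ := (anSpace X).presheaf.exists_germ_eq b
  replace hab := (toGerm_germ x U hU f).symm.trans (hab.trans (toGerm_germ x V hV g))
  obtain ⟨O, hO, hOo, hxO⟩ := eventually_nhds_iff.1 (Germ.coe_eq.1 hab)
  let W : Opens (top X) := ⟨O, hOo⟩ ⊓ U ⊓ V
  refine (anSpace X).presheaf.germ_ext W ⟨⟨hxO, hU⟩, hV⟩ (homOfLE (inf_le_left.trans inf_le_right))
    (homOfLE inf_le_right) (Subtype.ext (funext fun y => ?_))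
  exact (extFun_of_mem f.1 y.2.1.2).symm.trans
    ((hO y.1 y.2.1.1).trans (extFun_of_mem g.1 y.2.2))

theorem toGerm_stalkMap (x : Pts X) (U : X.Opens) (hx : x.pt ∈ U) (a : Γ(X, U)) (G : Pts X → ℂ)
    (hG : ∀ᶠ y in 𝓝 x, ∀ hy : y.pt ∈ U, y.ev U hy a = G y) :
    toGerm x ((PresheafedSpace.Hom.stalkMap (anToScheme X) x).hom (X.presheaf.germ U x.pt hx a)) =
      (G : Germ (𝓝 x) ℂ) := by
  have h := congrArg (fun k => (CommRingCat.Hom.hom k) a)
    (PresheafedSpace.stalkMap_germ (anToScheme X) U x hx)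
  refine (congrArg (toGerm x) h).trans ?_
  refine (toGerm_germ x _ _ _).trans (funGerm_eq_coe x _ _ _ ?_)
  exact hG.mono fun y hy hy' => hy hy'

open scoped Classical in
/-- The coordinates attached to sections on an open, extended by zero. -/
def coords {U : X.Opens} {m : ℕ} (s : Fin m → Γ(X, U)) (y : Pts X) : Fin m → ℂ :=
  if h : y.pt ∈ U then fun i => y.ev U h (s i) else 0

theorem coords_of_mem {U : X.Opens} {m : ℕ} (s : Fin m → Γ(X, U)) {y : Pts X} (h : y.pt ∈ U) :
    coords s y = fun i => y.ev U h (s i) := dif_pos h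

theorem tendsto_coords {U : X.Opens} {m : ℕ} (s : Fin m → Γ(X, U)) {x : Pts X} (hx : x.pt ∈ U) :
    Tendsto (coords s) (𝓝 x) (𝓝 (coords s x)) := by
  refine tendsto_pi_nhds.2 fun i => tendsto_nhds.2 fun W hW hxW => ?_
  rw [coords_of_mem s hx] at hxW
  refine mem_of_superset ((isOpen_basicSet U (s i) hW).mem_nhds ⟨hx, hxW⟩) ?_
  rintro y ⟨hy, hyW⟩
  show coords s y i ∈ W
  rwa [coords_of_mem s hy]

/-- The centred coordinates at a point. -/
def centred {U : X.Opens} {m : ℕ} (s : Fin m → Γ(X, U)) (x y : Pts X) : Fin m → ℂ :=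
  coords s y - coords s x

theorem tendsto_centred {U : X.Opens} {m : ℕ} (s : Fin m → Γ(X, U)) {x : Pts X} (hx : x.pt ∈ U) :
    Tendsto (centred s x) (𝓝 x) (𝓝 0) := by
  simpa [centred] using! (tendsto_coords s hx).sub_const (coords s x)

/-- Substitution of the centred coordinates into a germ of holomorphic function. -/
def thetaGerm {U : X.Opens} {m : ℕ} (s : Fin m → Γ(X, U)) (x : Pts X) (hx : x.pt ∈ U) :
    holGerm m →+* Germ (𝓝 x) ℂ where
  toFun φ := Germ.compTendsto φ.1 (centred s x) (tendsto_centred s hx)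
  map_one' := rfl
  map_zero' := rfl
  map_mul' φ ψ := by
    obtain ⟨F, hF, rfl⟩ := holGerm.exists_rep φ
    obtain ⟨G, hG, rfl⟩ := holGerm.exists_rep ψ
    rfl
  map_add' φ ψ := by
    obtain ⟨F, hF, rfl⟩ := holGerm.exists_rep φ
    obtain ⟨G, hG, rfl⟩ := holGerm.exists_rep ψ
    rfl

theorem thetaGerm_mk {U : X.Opens} {m : ℕ} (s : Fin m → Γ(X, U)) (x : Pts X) (hx : x.pt ∈ U)
    (F : (Fin m → ℂ) → ℂ) (hF) :
    thetaGerm s x hx (holGerm.mk F hF) = ((fun y => F (centred s x y) : Pts X → ℂ) : Germ (𝓝 x) ℂ) :=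
  rfl

theorem thetaGerm_mem_range {U : X.Opens} {m : ℕ} (s : Fin m → Γ(X, U)) (x : Pts X) (hx : x.pt ∈ U)
    (φ : holGerm m) : thetaGerm s x hx φ ∈ (toGerm x).range := by
  obtain ⟨F, hF, rfl⟩ := holGerm.exists_rep φ
  obtain ⟨O, hO, hOo, hO0⟩ := eventually_nhds_iff.1 hF
  obtain ⟨S, hS, hSo, hxS⟩ := eventually_nhds_iff.1
    (((tendsto_centred s hx).eventually (hOo.mem_nhds hO0)).and ((isOpen_preimage_pt U).mem_nhds hx))
  let V : Opens (top X) := ⟨S, hSo⟩
  have hg : IsChartFun V fun y => F (centred s x y.1) :=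
    ⟨U, fun y => (hS y.1 y.2).2, m, s, (fun w => w - coords s x) ⁻¹' O, fun w => F (w - coords s x),
      hOo.preimage (continuous_id.sub continuous_const),
      fun w hw => ((hO _ hw).comp w ((differentiableAt_id).sub_const _)).differentiableWithinAt,
      fun y => by
        have h := (hS y.1 y.2).1
        simp only [centred, coords_of_mem s (hS y.1 y.2).2] at h
        refine ⟨h, ?_⟩
        show F (centred s x y.1) = _
        simp only [centred, coords_of_mem s (hS y.1 y.2).2]⟩
  refine ⟨(anSpace X).presheaf.germ V x hxS ⟨_, holPred_of_chartAlg (Algebra.subset_adjoin hg)⟩, ?_⟩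
  rw [thetaGerm_mk]
  exact (toGerm_germ x V hxS _).trans (funGerm_eq_coe x hxS _ _ (Eventually.of_forall fun y hy => rfl))

theorem ev_eval₂Hom {U : X.Opens} {m : ℕ} (s : Fin m → Γ(X, U)) (y : Pts X) (hy : y.pt ∈ U)
    (P : MvPolynomial (Fin m) ℂ) :
    y.ev U hy (MvPolynomial.eval₂Hom (strHomU U) s P) = MvPolynomial.eval (coords s y) P := by
  have h : (evHom y U hy).comp (MvPolynomial.eval₂Hom (strHomU U) s) = MvPolynomial.eval (coords s y) := by
    refine MvPolynomial.ringHom_ext (fun c => ?_) (fun i => ?_)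
    · simp only [RingHom.comp_apply, MvPolynomial.eval₂Hom_C, MvPolynomial.eval_C]
      exact ev_strHomU y U hy c
    · simp only [RingHom.comp_apply, MvPolynomial.eval₂Hom_X', MvPolynomial.eval_X, coords_of_mem s hy]
      rfl
  exact RingHom.congr_fun h P

theorem differentiable_eval {m : ℕ} (P : MvPolynomial (Fin m) ℂ) :
    Differentiable ℂ fun w : Fin m → ℂ => MvPolynomial.eval w P := by
  induction P using MvPolynomial.induction_on with
  | C a => simp
  | add p q hp hq => simpa using hp.fun_add hq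
  | mul_X p i hp =>
    simpa using hp.fun_mul fun w => differentiableAt_pi.1 differentiableAt_fun_id i

/-- A regular function near `x` is a holomorphic function of the coordinates. -/
theorem exists_holGerm_ev {U : X.Opens} (hU : IsAffineOpen U) {m : ℕ} (s : Fin m → Γ(X, U))
    (hs : Function.Surjective (MvPolynomial.eval₂Hom (strHomU U) s)) {x : Pts X} (hx : x.pt ∈ U)
    {W : X.Opens} (hxW : x.pt ∈ W) (t : Γ(X, W)) :
    ∃ (H : (Fin m → ℂ) → ℂ), (∀ᶠ w in 𝓝 0, DifferentiableAt ℂ H w) ∧
      ∀ᶠ y in 𝓝 x, ∀ hy : y.pt ∈ W, y.ev W hy t = H (centred s x y) := by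
  obtain ⟨g, hgW, hxg⟩ := hU.exists_basicOpen_le (V := W) ⟨x.pt, hxW⟩ hx
  have := hU.isLocalization_basicOpen g
  obtain ⟨a, ⟨_, p, rfl⟩, ham⟩ :=
    IsLocalization.exists_mk'_eq (Submonoid.powers g) (X.presheaf.map (homOfLE hgW).op t)
  obtain ⟨P, rfl⟩ := hs a
  obtain ⟨Q, rfl⟩ := hs g
  set z₀ := coords s x
  refine ⟨fun w => MvPolynomial.eval (w + z₀) P / MvPolynomial.eval (w + z₀) Q ^ p, ?_, ?_⟩
  · have hne : MvPolynomial.eval z₀ Q ≠ 0 := by
      rw [← ev_eval₂Hom s x hx]
      exact (mem_basicOpen_iff x U hx _).1 hxg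
    have hc : Tendsto (fun w : Fin m → ℂ => MvPolynomial.eval (w + z₀) Q) (𝓝 0)
        (𝓝 (MvPolynomial.eval z₀ Q)) :=
      Continuous.tendsto' ((MvPolynomial.continuous_eval Q).comp (continuous_id.add continuous_const))
        _ _ (by simp [z₀])
    filter_upwards [hc.eventually_ne hne] with w (hw : MvPolynomial.eval (w + z₀) Q ≠ 0)
    simpa only [div_eq_mul_inv, Pi.mul_def, Pi.inv_def, Pi.pow_apply, Function.comp_apply, id] using!
      ((differentiable_eval P).differentiableAt.comp w (differentiableAt_id.add_const z₀)).mul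
        ((((differentiable_eval Q).differentiableAt.comp w (differentiableAt_id.add_const z₀)).pow p).inv
          (pow_ne_zero p hw))
  · filter_upwards [(isOpen_preimage_pt (X.basicOpen (MvPolynomial.eval₂Hom (strHomU U) s Q))).mem_nhds
      hxg] with y hyg hy
    have hyU : y.pt ∈ U := X.basicOpen_le _ hyg
    have h1 := congrArg (evHom y _ hyg) (IsLocalization.mk'_spec Γ(X, X.basicOpen _)
      (MvPolynomial.eval₂Hom (strHomU U) s P)
      (⟨_, p, rfl⟩ : Submonoid.powers (MvPolynomial.eval₂Hom (strHomU U) s Q)))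
    rw [ham] at h1
    have hr : ∀ b : Γ(X, U), evHom y _ hyg (algebraMap Γ(X, U) Γ(X, X.basicOpen
        (MvPolynomial.eval₂Hom (strHomU U) s Q)) b) = y.ev U hyU b :=
      fun b => ev_res y (X.basicOpen_le _) hyg b
    simp only [map_mul, map_pow, hr, evHom_apply, ev_res y hgW hyg t, ev_eval₂Hom] at h1
    have hne : MvPolynomial.eval (coords s y) Q ≠ 0 := by
      rw [← ev_eval₂Hom s y hyU]
      exact (mem_basicOpen_iff y U hyU _).1 hyg
    rw [centred, sub_add_cancel, eq_div_iff (pow_ne_zero p hne)]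
    exact h1

theorem toGerm_range_le {U : X.Opens} (hU : IsAffineOpen U) {m : ℕ} (s : Fin m → Γ(X, U))
    (hs : Function.Surjective (MvPolynomial.eval₂Hom (strHomU U) s)) (x : Pts X) (hx : x.pt ∈ U)
    (a : (anSpace X).presheaf.stalk x) : toGerm x a ∈ (thetaGerm s x hx).range := by
  obtain ⟨O, hxO, f, rfl⟩ := (anSpace X).presheaf.exists_germ_eq a
  obtain ⟨V, hxV, i, hV⟩ := f.2 ⟨x, hxO⟩
  suffices ∀ g ∈ chartAlg V, funGerm x hxV g ∈ (thetaGerm s x hx).range by
    rw [show toGerm x ((anSpace X).presheaf.germ O x hxO f) = funGerm x hxO f.1 from toGerm_germ x O hxO f,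
      ← funGerm_res i x hxV f.1]
    exact this _ hV
  intro g hg
  induction hg using Algebra.adjoin_induction with
  | add a b _ _ ha hb => rw [map_add]; exact add_mem ha hb
  | mul a b _ _ ha hb => rw [map_mul]; exact mul_mem ha hb
  | algebraMap c =>
    refine ⟨holGerm.const c, ?_⟩
    exact (funGerm_eq_coe x hxV _ (fun _ => c) (Eventually.of_forall fun y hy => rfl)).symm
  | mem g hg =>
    obtain ⟨W, hW, n, t, V', G, hV', hG, h⟩ := hg
    have hxW : x.pt ∈ W := hW ⟨x, hxV⟩
    choose H hHd hHev using fun j => exists_holGerm_ev hU s hs hx hxW (t j)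
    have hH0 : (fun j => H j 0) = fun j => x.ev W hxW (t j) := funext fun j => by
      rw [(hHev j).self_of_nhds hxW, centred, sub_self]
    have hHd' : ∀ᶠ w in 𝓝 (0 : Fin m → ℂ), DifferentiableAt ℂ (fun w j => H j w) w :=
      (eventually_all.2 hHd).mono fun w hw => differentiableAt_pi.2 hw
    have hmem : ∀ᶠ w in 𝓝 (0 : Fin m → ℂ), (fun j => H j w) ∈ V' :=
      hHd'.self_of_nhds.continuousAt.eventually_mem (hV'.mem_nhds (hH0 ▸ (h ⟨x, hxV⟩).1))
    refine ⟨holGerm.mk (fun w => G fun j => H j w) ((hHd'.and hmem).mono fun w hw =>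
      (hG.differentiableAt (hV'.mem_nhds hw.2)).comp w hw.1), ?_⟩
    rw [thetaGerm_mk]
    refine (funGerm_eq_coe x hxV _ _ ?_).symm
    filter_upwards [eventually_all.2 hHev] with y hy hyV
    rw [(h ⟨y, hyV⟩).2]
    exact congrArg G (funext fun j => hy j (hW ⟨y, hyV⟩))

/-- The map from germs of holomorphic functions of the coordinates onto the stalk. -/
def theta {U : X.Opens} {m : ℕ} (s : Fin m → Γ(X, U)) (x : Pts X) (hx : x.pt ∈ U) :
    holGerm m →+* (anSpace X).presheaf.stalk x :=
  (RingEquiv.ofBijective (toGerm x).rangeRestrict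
      ⟨fun _ _ h => toGerm_injective x (congrArg Subtype.val h), (toGerm x).rangeRestrict_surjective⟩).symm.toRingHom.comp
    ((thetaGerm s x hx).codRestrict _ (thetaGerm_mem_range s x hx))

theorem toGerm_theta {U : X.Opens} {m : ℕ} (s : Fin m → Γ(X, U)) (x : Pts X) (hx : x.pt ∈ U)
    (φ : holGerm m) : toGerm x (theta s x hx φ) = thetaGerm s x hx φ :=
  congrArg Subtype.val ((RingEquiv.ofBijective (toGerm x).rangeRestrict
    ⟨fun _ _ h => toGerm_injective x (congrArg Subtype.val h), (toGerm x).rangeRestrict_surjective⟩).apply_symm_apply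
      ⟨_, thetaGerm_mem_range s x hx φ⟩)

theorem theta_surjective {U : X.Opens} (hU : IsAffineOpen U) {m : ℕ} (s : Fin m → Γ(X, U))
    (hs : Function.Surjective (MvPolynomial.eval₂Hom (strHomU U) s)) (x : Pts X) (hx : x.pt ∈ U) :
    Function.Surjective (theta s x hx) := fun a => by
  obtain ⟨φ, hφ⟩ := toGerm_range_le hU s hs x hx a
  exact ⟨φ, toGerm_injective x ((toGerm_theta s x hx φ).trans hφ)⟩

/-- The map from the algebraic to the analytic local ring. -/
abbrev anStalkMap (x : Pts X) : X.presheaf.stalk x.pt →+* (anSpace X).presheaf.stalk x :=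
  (PresheafedSpace.Hom.stalkMap (anToScheme X) x).hom

/-- The value at `x` of a germ of holomorphic function. -/
def anValue (x : Pts X) : (anSpace X).presheaf.stalk x →+* ℂ where
  toFun a := Quotient.liftOn' (toGerm x a) (fun F => F x) fun _ _ h => h.self_of_nhds
  map_one' := by rw [map_one]; rfl
  map_zero' := by rw [map_zero]; rfl
  map_mul' a b := by
    rw [map_mul]
    generalize toGerm x a = f
    generalize toGerm x b = g
    induction f using Germ.inductionOn with
    | h F => induction g using Germ.inductionOn with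
      | h G => rfl
  map_add' a b := by
    rw [map_add]
    generalize toGerm x a = f
    generalize toGerm x b = g
    induction f using Germ.inductionOn with
    | h F => induction g using Germ.inductionOn with
      | h G => rfl

theorem anValue_eq (x : Pts X) {a : (anSpace X).presheaf.stalk x} {F : Pts X → ℂ}
    (h : toGerm x a = (F : Germ (𝓝 x) ℂ)) : anValue x a = F x := by
  show Quotient.liftOn' (toGerm x a) _ _ = _
  rw [h]
  rfl

theorem anValue_theta {U : X.Opens} {m : ℕ} (s : Fin m → Γ(X, U)) (x : Pts X) (hx : x.pt ∈ U)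
    (φ : holGerm m) : anValue x (theta s x hx φ) = holGerm.value φ := by
  obtain ⟨F, hF, rfl⟩ := holGerm.exists_rep φ
  rw [anValue_eq x ((toGerm_theta s x hx _).trans (thetaGerm_mk s x hx F hF)), centred, sub_self,
    holGerm.value_mk]

theorem anValue_stalkMap (x : Pts X) (U : X.Opens) (hx : x.pt ∈ U) (a : Γ(X, U)) :
    anValue x (anStalkMap x (X.presheaf.germ U x.pt hx a)) = x.ev U hx a := by
  classical
  refine (anValue_eq x (toGerm_stalkMap x U hx a (fun y => if h : y.pt ∈ U then y.ev U h a else 0)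
    (Eventually.of_forall fun y hy => by rw [dif_pos hy]))).trans ?_
  rw [dif_pos hx]

theorem mem_maximalIdeal_stalk (x : Pts X) (U : X.Opens) (hx : x.pt ∈ U) (a : Γ(X, U)) :
    X.presheaf.germ U x.pt hx a ∈ IsLocalRing.maximalIdeal (X.presheaf.stalk x.pt) ↔
      x.ev U hx a = 0 := by
  rw [IsLocalRing.mem_maximalIdeal, mem_nonunits_iff, ← Scheme.mem_basicOpen,
    mem_basicOpen_iff x U hx a, not_not]

section LFT

variable [LocallyOfFiniteType (X ↘ SC)]

theorem exists_chart (x : Pts X) :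
    ∃ (U : X.Opens) (_ : IsAffineOpen U) (_ : x.pt ∈ U) (m : ℕ) (s : Fin m → Γ(X, U)),
      Function.Surjective (MvPolynomial.eval₂Hom (strHomU U) s) := by
  obtain ⟨U, hU, hxU, -⟩ := exists_isAffineOpen_mem_and_subset (U := ⊤) (Opens.mem_top x.pt)
  obtain ⟨m, s, hs⟩ := exists_generators_opens hU
  exact ⟨U, hU, hxU, m, s, hs⟩

theorem isNoetherianRing_anStalk (x : Pts X) : IsNoetherianRing ((anSpace X).presheaf.stalk x) := by
  obtain ⟨U, hU, hx, m, s, hs⟩ := exists_chart x
  exact isNoetherianRing_of_surjective _ _ (theta s x hx) (theta_surjective hU s hs x hx)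

theorem isUnit_of_anValue_ne_zero (x : Pts X) {a : (anSpace X).presheaf.stalk x}
    (h : anValue x a ≠ 0) : IsUnit a := by
  obtain ⟨U, hU, hx, m, s, hs⟩ := exists_chart x
  obtain ⟨φ, rfl⟩ := theta_surjective hU s hs x hx a
  rw [anValue_theta] at h
  exact (holGerm.isUnit_of_value_ne_zero h).map _

theorem isLocalRing_anStalk (x : Pts X) : IsLocalRing ((anSpace X).presheaf.stalk x) := by
  have : Nontrivial ((anSpace X).presheaf.stalk x) := (anValue x).domain_nontrivial
  obtain ⟨U, hU, hx, m, s, hs⟩ := exists_chart x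
  exact IsLocalRing.of_surjective' (theta s x hx) (theta_surjective hU s hs x hx)

theorem sub_anStalkMap_mem (x : Pts X) (b : (anSpace X).presheaf.stalk x) :
    ∃ a, anStalkMap x a - b ∈
      (IsLocalRing.maximalIdeal (X.presheaf.stalk x.pt)).map (anStalkMap x) := by
  obtain ⟨U, hU, hx, m, s, hs⟩ := exists_chart x
  obtain ⟨φ, rfl⟩ := theta_surjective hU s hs x hx b
  have hconst : ∀ c, theta s x hx (holGerm.const c) = anStalkMap x (X.presheaf.germ U x.pt hx (strHomU U c)) :=
    fun c => toGerm_injective x <| ((toGerm_theta s x hx _).trans (toGerm_stalkMap x U hx _ (fun _ => c)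
      (Eventually.of_forall fun y hy => ev_strHomU y U hy c)).symm)
  refine ⟨X.presheaf.germ U x.pt hx (strHomU U (holGerm.value φ)), ?_⟩
  rw [← hconst, ← map_sub, ← neg_sub, map_neg]
  refine Submodule.neg_mem _ ?_
  have h := Ideal.mem_map_of_mem (theta s x hx) (holGerm.sub_const_mem φ)
  refine (Ideal.map_le_iff_le_comap.2 ?_) h
  rw [holGerm.maximalIdeal_eq_span_coord, Ideal.span_le]
  rintro _ ⟨i, rfl⟩
  have : theta s x hx (holGerm.coord i) =
      anStalkMap x (X.presheaf.germ U x.pt hx (s i - strHomU U (x.ev U hx (s i)))) := by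
    refine toGerm_injective x ((toGerm_theta s x hx _).trans (toGerm_stalkMap x U hx _
      (fun y => centred s x y i) (Eventually.of_forall fun y hy => ?_)).symm)
    rw [← evHom_apply, map_sub, evHom_apply, evHom_apply, ev_strHomU]
    simp only [centred, coords_of_mem s hy, coords_of_mem s hx]
    rfl
  rw [SetLike.mem_coe, Ideal.mem_comap, this]
  refine Ideal.mem_map_of_mem _ ((mem_maximalIdeal_stalk x U hx _).2 ?_)
  rw [← evHom_apply, map_sub, evHom_apply, evHom_apply, ev_strHomU, sub_self]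

omit [LocallyOfFiniteType (X ↘ SC)] in
theorem anValue_eq_zero_of_mem (x : Pts X) {b : (anSpace X).presheaf.stalk x}
    (hb : b ∈ (IsLocalRing.maximalIdeal (X.presheaf.stalk x.pt)).map (anStalkMap x)) :
    anValue x b = 0 := by
  refine (RingHom.mem_ker (f := anValue x)).1 ((Ideal.map_le_iff_le_comap.2 fun a ha => ?_) hb)
  obtain ⟨U, hx, a, rfl⟩ := X.presheaf.exists_germ_eq a
  exact (anValue_stalkMap x U hx a).trans ((mem_maximalIdeal_stalk x U hx a).1 ha)

theorem mem_map_maximalIdeal_iff (x : Pts X) (b : (anSpace X).presheaf.stalk x) :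
    b ∈ (IsLocalRing.maximalIdeal (X.presheaf.stalk x.pt)).map (anStalkMap x) ↔ anValue x b = 0 := by
  refine ⟨anValue_eq_zero_of_mem x, fun hb => ?_⟩
  obtain ⟨a, ha⟩ := sub_anStalkMap_mem x b
  have h0 := anValue_eq_zero_of_mem x ha
  rw [map_sub, hb, sub_zero] at h0
  obtain ⟨U, hx, a, rfl⟩ := X.presheaf.exists_germ_eq a
  rw [anValue_stalkMap] at h0
  have := Ideal.mem_map_of_mem (anStalkMap x) ((mem_maximalIdeal_stalk x U hx a).2 h0)
  simpa using sub_mem this ha

theorem isMaximal_map (x : Pts X) :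
    ((IsLocalRing.maximalIdeal (X.presheaf.stalk x.pt)).map (anStalkMap x)).IsMaximal := by
  have := isLocalRing_anStalk x
  convert IsLocalRing.maximalIdeal.isMaximal ((anSpace X).presheaf.stalk x)
  ext b
  rw [mem_map_maximalIdeal_iff, IsLocalRing.mem_maximalIdeal, mem_nonunits_iff]
  exact ⟨fun h hu => (hu.map (anValue x)).ne_zero h,
    fun h => by_contra fun hne => h (isUnit_of_anValue_ne_zero x hne)⟩

theorem eq_map_of_isMaximal (x : Pts X) (I : Ideal ((anSpace X).presheaf.stalk x)) (hI : I.IsMaximal) :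
    I = (IsLocalRing.maximalIdeal (X.presheaf.stalk x.pt)).map (anStalkMap x) := by
  have := isLocalRing_anStalk x
  rw [IsLocalRing.eq_maximalIdeal hI, IsLocalRing.eq_maximalIdeal (isMaximal_map x)]

theorem exists_sub_mem_pow (x : Pts X) (n : ℕ) (b : (anSpace X).presheaf.stalk x) :
    ∃ a, anStalkMap x a - b ∈
      ((IsLocalRing.maximalIdeal (X.presheaf.stalk x.pt)).map (anStalkMap x)) ^ n := by
  induction n generalizing b with
  | zero => exact ⟨0, by simp⟩
  | succ n ih =>
    set I := (IsLocalRing.maximalIdeal (X.presheaf.stalk x.pt)).map (anStalkMap x) with hI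
    suffices ∀ c ∈ I ^ n, ∃ a, anStalkMap x a - c ∈ I ^ (n + 1) by
      obtain ⟨a, ha⟩ := ih b
      obtain ⟨a', ha'⟩ := this _ ha
      refine ⟨a - a', ?_⟩
      rw [map_sub, show anStalkMap x a - anStalkMap x a' - b = -(anStalkMap x a' - (anStalkMap x a - b)) by ring]
      exact Submodule.neg_mem _ ha'
    intro c hc
    rw [hI, ← Ideal.map_pow, Ideal.map] at hc
    induction hc using Submodule.span_induction with
    | mem c hc =>
      obtain ⟨y, hy, rfl⟩ := hc
      exact ⟨y, by simp⟩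
    | zero => exact ⟨0, by simp⟩
    | add p q _ _ hp hq =>
      obtain ⟨a, ha⟩ := hp
      obtain ⟨a', ha'⟩ := hq
      exact ⟨a + a', by rw [map_add, add_sub_add_comm]; exact add_mem ha ha'⟩
    | smul r p hpmem hp =>
      obtain ⟨a, ha⟩ := hp
      obtain ⟨a', ha'⟩ := sub_anStalkMap_mem x r
      refine ⟨a' * a, ?_⟩
      have hp' : p ∈ I ^ n := by rw [hI, ← Ideal.map_pow]; exact hpmem
      rw [map_mul, smul_eq_mul, show anStalkMap x a' * anStalkMap x a - r * p =
        anStalkMap x a' * (anStalkMap x a - p) + (anStalkMap x a' - r) * p by ring]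
      exact add_mem (Ideal.mul_mem_left _ _ ha) (by rw [pow_succ']; exact Ideal.mul_mem_mul ha' hp')

theorem exists_pow_le (x : Pts X) [IsReduced X] (n : ℕ) : ∃ M, ∀ a,
    anStalkMap x a ∈ ((IsLocalRing.maximalIdeal (X.presheaf.stalk x.pt)).map (anStalkMap x)) ^ M →
      a ∈ IsLocalRing.maximalIdeal (X.presheaf.stalk x.pt) ^ n := by
  obtain ⟨U, hU, hx, m, s, hs⟩ := exists_chart x
  letI : Algebra ℂ Γ(X, U) := (strHomU U).toAlgebra
  let φ₀ : Γ(X, U) →ₐ[ℂ] ℂ := ⟨evHom x U hx, fun c => ev_strHomU x U hx c⟩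
  obtain ⟨M, hM⟩ := exists_order s hs φ₀ n
  refine ⟨M, fun a ha => ?_⟩
  have := hU.isLocalization_stalk ⟨x.pt, hx⟩
  letI := X.presheaf.algebra_section_stalk (⟨x.pt, hx⟩ : U)
  obtain ⟨c, u, rfl⟩ := IsLocalization.exists_mk'_eq (hU.primeIdealOf ⟨x.pt, hx⟩).asIdeal.primeCompl a
  have hc : anStalkMap x (algebraMap Γ(X, U) _ c) ∈
      ((IsLocalRing.maximalIdeal (X.presheaf.stalk x.pt)).map (anStalkMap x)) ^ M := by
    rw [← IsLocalization.mk'_spec (X.presheaf.stalk x.pt) c u, map_mul]
    exact Ideal.mul_mem_right _ _ ha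
  obtain ⟨φ, hφ, hφc⟩ : ∃ φ ∈ IsLocalRing.maximalIdeal (holGerm m) ^ M,
      theta s x hx φ = anStalkMap x (algebraMap Γ(X, U) _ c) := by
    rw [← Ideal.mem_map_iff_of_surjective _ (theta_surjective hU s hs x hx), Ideal.map_pow]
    refine Ideal.pow_right_mono (fun b hb => ?_) M hc
    obtain ⟨ψ, rfl⟩ := theta_surjective hU s hs x hx b
    refine Ideal.mem_map_of_mem _ (holGerm.mem_maximalIdeal.2 ?_)
    rw [← anValue_theta s x hx, (mem_map_maximalIdeal_iff x _).1 hb]
  obtain ⟨F, hF, rfl⟩ := holGerm.exists_rep φ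
  classical
  have hev : ∀ᶠ y in 𝓝 x, ∀ hy : y.pt ∈ U, y.ev U hy c = F (centred s x y) := by
    have h := (thetaGerm_mk s x hx F hF).symm.trans ((toGerm_theta s x hx _).symm.trans
      ((congrArg (toGerm x) hφc).trans (toGerm_stalkMap x U hx c
        (fun y => if h : y.pt ∈ U then y.ev U h c else 0) (Eventually.of_forall fun y hy => by rw [dif_pos hy]))))
    filter_upwards [Germ.coe_eq.1 h] with y hy hyU
    rw [hy, dif_pos hyU]
  obtain ⟨C, hC⟩ := (holGerm.isBigO_of_mem_pow hφ).bound
  have key : HasOrder s φ₀ M c := by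
    refine ⟨C, ?_⟩
    have hz : (fun j => φ₀ (s j)) = coords s x := (coords_of_mem s hx).symm
    rw [hz]
    let S := {y : Pts X | ∀ hy : y.pt ∈ U, ‖y.ev U hy c‖ ≤ C * ‖centred s x y‖ ^ M}
    have hS : S ∈ 𝓝 x := by
      filter_upwards [hev, (tendsto_centred s hx).eventually hC] with y hy hy' hyU
      rw [hy hyU]
      simpa using hy'
    let pts : (Γ(X, U) →ₐ[ℂ] ℂ) → Pts X := fun φ =>
      ⟨Spec.map (CommRingCat.ofHom φ.toRingHom) ≫ hU.fromSpec, by
        have h2 : (X ↘ SC).appLE ⊤ U (le_top.trans_eq (Scheme.Hom.preimage_top _).symm) ≫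
            CommRingCat.ofHom φ.toRingHom = (Scheme.ΓSpecIso (CommRingCat.of ℂ)).hom := by
          refine (cancel_epi (Scheme.ΓSpecIso (CommRingCat.of ℂ)).inv).1 ?_
          rw [Iso.inv_hom_id]
          exact CommRingCat.hom_ext (RingHom.ext φ.commutes)
        rw [Category.assoc, ← IsAffineOpen.SpecMap_appLE_fromSpec (X ↘ SC) (isAffineOpen_top SC) hU
          (le_top.trans_eq (Scheme.Hom.preimage_top _).symm), IsAffineOpen.fromSpec_top,
          Scheme.isoSpec_Spec_inv, ← Category.assoc, ← Spec.map_comp, h2,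
          ← Spec.map_comp, Iso.inv_hom_id, Spec.map_id]⟩
    have hpts : ∀ φ, ∃ h : (pts φ).pt ∈ U, ∀ b, (pts φ).ev U h b = φ b := fun φ =>
      ev_eq_of_eq_specMap _ hU φ.toRingHom rfl
    have hlim : Tendsto pts (comap (fun φ j => φ (s j)) (𝓝 (coords s x))) (𝓝 x) := by
      refine tendsto_of_forall_ev hU hx (Eventually.of_forall fun φ => (hpts φ).1) fun b V hV hbV => ?_
      obtain ⟨P, rfl⟩ := hs b
      rw [ev_eval₂Hom] at hbV
      filter_upwards [preimage_mem_comap ((MvPolynomial.continuous_eval P).continuousAt.preimage_mem_nhds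
        (hV.mem_nhds hbV))] with φ hφ
      obtain ⟨h, hφev⟩ := hpts φ
      refine ⟨h, ?_⟩
      rw [ev_eval₂Hom, coords_of_mem s h]
      simpa only [hφev] using! hφ
    obtain ⟨N, hN, hNS⟩ := mem_comap.1 (hlim hS)
    filter_upwards [hN] with w hw φ hφw
    obtain ⟨h, hφev⟩ := hpts φ
    have hy := hNS (show (fun j => φ (s j)) ∈ N by rw [hφw]; exact hw) h
    rw [hφev] at hy
    simp only [centred, coords_of_mem s h, hφev, hφw] at hy
    exact hy
  obtain ⟨v, hv, hvc⟩ := hM c key
  have hker : RingHom.ker φ₀ = (hU.primeIdealOf ⟨x.pt, hx⟩).asIdeal := by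
    ext b
    rw [← not_iff_not]
    show x.ev U hx b ≠ 0 ↔ _
    rw [← mem_basicOpen_iff x U hx b]
    rw [show (x.pt ∈ X.basicOpen b) = (hU.fromSpec (hU.primeIdealOf ⟨x.pt, hx⟩) ∈ X.basicOpen b) by rw [hU.fromSpec_primeIdealOf]]
    show hU.primeIdealOf ⟨x.pt, hx⟩ ∈ hU.fromSpec ⁻¹ᵁ X.basicOpen b ↔ _
    rw [hU.fromSpec_preimage_basicOpen]
    rfl
  have hvunit : v ∈ (hU.primeIdealOf ⟨x.pt, hx⟩).asIdeal.primeCompl := fun hm => hv (by rw [← hker] at hm; exact hm)
  refine (Ideal.mul_unit_mem_iff_mem _ ((IsLocalization.map_units (X.presheaf.stalk x.pt) u).mul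
    (IsLocalization.map_units (X.presheaf.stalk x.pt) ⟨v, hvunit⟩))).1 ?_
  rw [← mul_assoc, IsLocalization.mk'_spec, ← map_mul, mul_comm c v,
    ← IsLocalization.AtPrime.map_eq_maximalIdeal (hU.primeIdealOf ⟨x.pt, hx⟩).asIdeal (X.presheaf.stalk x.pt),
    ← Ideal.map_pow, ← hker]
  exact Ideal.mem_map_of_mem _ hvc

theorem mem_pow_of_anStalkMap_mem (x : Pts X) [IsReduced X] (n : ℕ) (a : X.presheaf.stalk x.pt)
    (ha : anStalkMap x a ∈ ((IsLocalRing.maximalIdeal (X.presheaf.stalk x.pt)).map (anStalkMap x)) ^ n) :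
    a ∈ IsLocalRing.maximalIdeal (X.presheaf.stalk x.pt) ^ n := by
  obtain ⟨M, hM⟩ := exists_pow_le x n
  set I := (IsLocalRing.maximalIdeal (X.presheaf.stalk x.pt)).map (anStalkMap x) with hI
  suffices ∀ b ∈ I ^ n, ∃ a' ∈ IsLocalRing.maximalIdeal (X.presheaf.stalk x.pt) ^ n,
      anStalkMap x a' - b ∈ I ^ M by
    obtain ⟨a', ha', h⟩ := this _ ha
    rw [← map_sub] at h
    simpa using sub_mem ha' (hM _ h)
  intro b hb
  rw [hI, ← Ideal.map_pow, Ideal.map] at hb
  induction hb using Submodule.span_induction with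
  | mem c hc =>
    obtain ⟨y, hy, rfl⟩ := hc
    exact ⟨y, hy, by simp⟩
  | zero => exact ⟨0, Submodule.zero_mem _, by simp⟩
  | add p q _ _ hp hq =>
    obtain ⟨a, h, ha⟩ := hp
    obtain ⟨a', h', ha'⟩ := hq
    exact ⟨a + a', add_mem h h', by rw [map_add, add_sub_add_comm]; exact add_mem ha ha'⟩
  | smul r p _ hp =>
    obtain ⟨a, h, ha⟩ := hp
    obtain ⟨a', ha'⟩ := exists_sub_mem_pow x M r
    refine ⟨a' * a, Ideal.mul_mem_left _ _ h, ?_⟩
    rw [map_mul, smul_eq_mul, show anStalkMap x a' * anStalkMap x a - r * p =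
      (anStalkMap x a' - r) * anStalkMap x a + r * (anStalkMap x a - p) by ring]
    exact add_mem (Ideal.mul_mem_right _ _ ha') (Ideal.mul_mem_left _ _ ha)

end LFT

end Groth.Agent.An92
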